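import Mathlib
import Cfsg.Agent.Lib.H1.Hall
import Cfsg.Agent.Lib.H2.FrobComp
import Cfsg.Agent.Lib.H11.MinNormal
import Cfsg.Agent.Lib.H73.SolvSmall
import Cfsg.Agent.Lib.H26.SupCard

/-!
In a finite solvable group whose order is divisible by three distinct primes there is an element
whose order is the product of two of them.
-/

set_option autoImplicit false

open Cfsg

namespace H69.ThreePrimes

universe u

variable {G : Type u} [Group G]

theorem exists_pow_orderOf [Finite G] (x : G) (q : ℕ) (hq : q ∣ orderOf x) :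
    ∃ k : ℕ, orderOf (x ^ k) = q := by
  obtain ⟨k, hk⟩ := hq
  have h0 : orderOf x ≠ 0 := (orderOf_pos x).ne'
  have hk0 : k ≠ 0 := by rintro rfl; rw [mul_zero] at hk; exact h0 hk
  refine ⟨k, ?_⟩
  rw [orderOf_pow_of_dvd hk0 (by rw [hk]; exact dvd_mul_left _ _), hk]
  exact Nat.mul_div_cancel _ (Nat.pos_of_ne_zero hk0)

/-- an element of order divisible by `m` has a power of order `m`. -/
theorem exists_orderOf_of_quotient [Finite G] (N : Subgroup G) [N.Normal] (m : ℕ) (x : G ⧸ N)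
    (hx : orderOf x = m) : ∃ g : G, orderOf g = m := by
  obtain ⟨g, rfl⟩ := QuotientGroup.mk'_surjective N x
  have h1 : m ∣ orderOf g := by
    rw [← hx]
    exact orderOf_map_dvd _ g
  obtain ⟨k, hk⟩ := exists_pow_orderOf g m h1
  exact ⟨g ^ k, hk⟩

theorem core [Finite G] (hs : Group.IsSolvable G) {p q r : ℕ} (hp : p.Prime) (hq : q.Prime)
    (hr : r.Prime) (hpq : p ≠ q) (hpr : p ≠ r) (hqr : q ≠ r) (hN : pCore p G ≠ ⊥) (K : Subgroup G)
    (hK : ∀ s : ℕ, s.Prime → s ∣ Nat.card K → s = q ∨ s = r) (hqK : q ∣ Nat.card K)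
    (hrK : r ∣ Nat.card K) (h1 : ∀ g : G, orderOf g ≠ p * q) (h2 : ∀ g : G, orderOf g ≠ p * r) :
    ∃ g : G, orderOf g = q * r := by
  have hpf : Fact p.Prime := ⟨hp⟩
  -- K acts fixed point freely
  have hfpf : ∀ a ∈ K, a ≠ 1 → pCore p G ⊓ Subgroup.centralizer {a} = ⊥ := by
    intro a ha ha1
    rw [Subgroup.eq_bot_iff_forall]
    intro n hn
    obtain ⟨hn1, hn2⟩ := Subgroup.mem_inf.1 hn
    by_contra hne
    rw [Subgroup.mem_centralizer_singleton_iff] at hn2
    -- a power of a of prime order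
    obtain ⟨s, hsp, hsa⟩ := Nat.exists_prime_and_dvd (n := orderOf a) (by
      intro h; exact ha1 (orderOf_eq_one_iff.1 h))
    have hsK : s ∣ Nat.card K := hsa.trans (by
      rw [← Subgroup.orderOf_mk a ha]; exact orderOf_dvd_natCard _)
    obtain ⟨k, hk⟩ := exists_pow_orderOf a s hsa
    have hpn : p ∣ orderOf n := by
      obtain ⟨c, hc⟩ := (IsPGroup.iff_orderOf.1 (H1.Cores.isPGroup_pCore (G := G) p)) ⟨n, hn1⟩
      rw [Subgroup.orderOf_mk] at hc
      rw [hc]
      apply dvd_pow_self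
      rintro rfl
      rw [pow_zero] at hc
      exact hne (orderOf_eq_one_iff.1 hc)
    obtain ⟨l, hl⟩ := exists_pow_orderOf n p hpn
    have hcomm : Commute (n ^ l) (a ^ k) := Commute.pow_pow hn2 l k
    rcases hK s hsp hsK with rfl | rfl
    · have h3 := hcomm.orderOf_mul_eq_mul_orderOf_of_coprime (by
        rw [hk, hl]; exact (Nat.coprime_primes hp hsp).2 hpq)
      rw [hk, hl] at h3
      exact h1 _ h3
    · have h3 := hcomm.orderOf_mul_eq_mul_orderOf_of_coprime (by
        rw [hk, hl]; exact (Nat.coprime_primes hp hsp).2 hpr)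
      rw [hk, hl] at h3
      exact h2 _ h3
  have hKN : K ≤ Subgroup.normalizer (pCore p G : Set G) := by
    rw [Subgroup.normalizer_eq_top_iff.2 inferInstance]; exact le_top
  have hKs : Group.IsSolvable K := inferInstance
  -- minimal normal subgroup of K
  have hKnt : Nontrivial K := by
    rw [← Finite.one_lt_card_iff_nontrivial]
    exact lt_of_lt_of_le hq.one_lt (Nat.le_of_dvd Nat.card_pos hqK)
  obtain ⟨M, -, hMn, hM1, hmin⟩ := H73.SolvSmall.exists_minimal_normal (N := (⊤ : Subgroup K)) inferInstance top_ne_bot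
  obtain ⟨hMab, s, hsp, hMs, hMe⟩ := H11.MinNormal.minimal_normal_abelian hKs M hM1 hmin
  -- abelian invariant subgroup
  obtain ⟨V, hVN, hV1, hVab, hKV, hVf⟩ := H2.FrobComp.exists_abelian_fpf K (pCore p G) hN hKN hfpf hKs
  let M' : Subgroup G := M.map K.subtype
  have hM'K : M' ≤ K := by
    rintro _ ⟨x, -, rfl⟩
    exact x.2
  have hM'c : IsMulCommutative M' := by
    refine ⟨⟨?_⟩⟩
    rintro ⟨_, ⟨a, ha, rfl⟩⟩ ⟨_, ⟨b, hb, rfl⟩⟩
    apply Subtype.ext
    have h3 := hMab.is_comm.comm ⟨a, ha⟩ ⟨b, hb⟩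
    have h4 : a * b = b * a := congrArg Subtype.val h3
    exact congrArg (Subtype.val : K → G) h4
  have hM'cyc : IsCyclic M' := H1.Cyc.isCyclic_of_fpf_subgroup M' V hV1 (hM'K.trans hKV)
    (fun a ha => hVf a (hM'K ha)) (Or.inl hM'c)
  have hM'card : Nat.card M' = s := by
    obtain ⟨a, ha⟩ := hM'cyc.exists_generator
    have h3 : orderOf a = Nat.card M' := orderOf_eq_card_of_forall_mem_zpowers ha
    have h4 : orderOf a ∣ s := by
      apply orderOf_dvd_of_pow_eq_one
      obtain ⟨_, ⟨b, hb, rfl⟩⟩ := a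
      apply Subtype.ext
      have h5 : b ^ s = 1 := hMe b hb
      exact congrArg (Subtype.val : K → G) h5
    rw [h3] at h4
    rcases (Nat.dvd_prime hsp).1 h4 with h5 | h5
    · exfalso
      apply hM1
      rw [← Subgroup.card_eq_one]
      rw [← h5]
      exact Nat.card_congr (M.equivMapOfInjective K.subtype K.subtype_injective).toEquiv
    · exact h5
  have hsK : s ∣ Nat.card K := by
    rw [← hM'card]
    exact Subgroup.card_dvd_of_le hM'K
  have hKM' : K ≤ Subgroup.normalizer (M' : Set G) := by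
    intro k hk
    rw [Subgroup.mem_normalizer_iff]
    have key : ∀ k ∈ K, ∀ m ∈ M', k * m * k⁻¹ ∈ M' := by
      rintro k hk _ ⟨m, hm, rfl⟩
      exact ⟨⟨k, hk⟩ * m * ⟨k, hk⟩⁻¹, hMn.conj_mem m hm ⟨k, hk⟩, rfl⟩
    intro m
    constructor
    · exact key k hk m
    · intro hm
      have := key k⁻¹ (inv_mem hk) _ hm
      have h3 : k⁻¹ * (k * m * k⁻¹) * k⁻¹⁻¹ = m := by group
      rwa [h3] at this
  -- main argument
  have main : ∀ s' : ℕ, s'.Prime → s' ∣ Nat.card K → s ≠ s' → ∃ g : G, orderOf g = s * s' := by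
    intro s' hs' hs'K hne
    have hs'f : Fact s'.Prime := ⟨hs'⟩
    obtain ⟨⟨y, hyK⟩, hy⟩ := exists_prime_orderOf_dvd_card' s' hs'K
    rw [Subgroup.orderOf_mk] at hy
    let A : Subgroup G := M' ⊔ Subgroup.zpowers y
    have hyK' : Subgroup.zpowers y ≤ K := by rwa [Subgroup.zpowers_le]
    have hAK : A ≤ K := sup_le hM'K hyK'
    have hcard : Nat.card A = s * s' := by
      apply Nat.dvd_antisymm
      · have := H26.SupCard.card_sup_dvd_mul (X := M') (Y := Subgroup.zpowers y) (hyK'.trans hKM')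
        rwa [hM'card, Nat.card_zpowers, hy] at this
      · apply Nat.Coprime.mul_dvd_of_dvd_of_dvd ((Nat.coprime_primes hsp hs').2 hne)
        · rw [← hM'card]
          exact Subgroup.card_dvd_of_le le_sup_left
        · rw [← hy, ← Nat.card_zpowers]
          exact Subgroup.card_dvd_of_le le_sup_right
    have hAc : IsCyclic A := H2.FrobComp.isCyclic_of_card_eq_mul A V hV1 (hAK.trans hKV)
      (fun a ha => hVf a (hAK ha)) (Group.isSolvable_of_isSolvable_injective
        (f := Subgroup.inclusion hAK) (Subgroup.inclusion_injective hAK)) hsp hs' hcard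
    obtain ⟨a, ha⟩ := hAc.exists_generator
    refine ⟨(a : G), ?_⟩
    rw [Subgroup.orderOf_coe, ← hcard]
    exact orderOf_eq_card_of_forall_mem_zpowers ha
  rcases hK s hsp hsK with rfl | rfl
  · exact main r hr hrK hqr
  · rw [mul_comm]
    exact main q hq hqK hqr.symm

/-- the three primes lemma -/
theorem three_primes [Finite G] (hs : Group.IsSolvable G) {p q r : ℕ} (hp : p.Prime) (hq : q.Prime)
    (hr : r.Prime) (hpq : p ≠ q) (hpr : p ≠ r) (hqr : q ≠ r) (hpG : p ∣ Nat.card G)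
    (hqG : q ∣ Nat.card G) (hrG : r ∣ Nat.card G) :
    ∃ g : G, orderOf g = p * q ∨ orderOf g = p * r ∨ orderOf g = q * r := by
  by_contra hcon
  push Not at hcon
  have h0 : Nat.card G ≠ 0 := Nat.card_pos.ne'
  -- Hall subgroup
  set a := (Nat.card G).factorization p with ha
  set b := (Nat.card G).factorization q with hb
  set c := (Nat.card G).factorization r with hc
  have ha0 : a ≠ 0 := (hp.factorization_pos_of_dvd h0 hpG).ne'
  have hb0 : b ≠ 0 := (hq.factorization_pos_of_dvd h0 hqG).ne'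
  have hc0 : c ≠ 0 := (hr.factorization_pos_of_dvd h0 hrG).ne'
  have cpq : Nat.Coprime (p ^ a) (q ^ b) := Nat.Coprime.pow _ _ ((Nat.coprime_primes hp hq).2 hpq)
  have cpr : Nat.Coprime (p ^ a) (r ^ c) := Nat.Coprime.pow _ _ ((Nat.coprime_primes hp hr).2 hpr)
  have cqr : Nat.Coprime (q ^ b) (r ^ c) := Nat.Coprime.pow _ _ ((Nat.coprime_primes hq hr).2 hqr)
  have hdvd : p ^ a * (q ^ b * r ^ c) ∣ Nat.card G :=
    Nat.Coprime.mul_dvd_of_dvd_of_dvd (Nat.Coprime.mul_right cpq cpr) (Nat.ordProj_dvd _ _)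
      (Nat.Coprime.mul_dvd_of_dvd_of_dvd cqr (Nat.ordProj_dvd _ _) (Nat.ordProj_dvd _ _))
  obtain ⟨n, hn⟩ := hdvd
  have hn0 : n ≠ 0 := by rintro rfl; rw [mul_zero] at hn; exact h0 hn
  have hnd : ∀ s : ℕ, s.Prime → s ^ ((Nat.card G).factorization s) ∣ p ^ a * (q ^ b * r ^ c) → ¬ s ∣ n := by
    intro s hsp h1 h2
    have h3 : s ^ ((Nat.card G).factorization s + 1) ∣ Nat.card G := by
      have h4 := mul_dvd_mul h1 h2
      rw [← hn, ← pow_succ] at h4
      exact h4
    exact Nat.pow_succ_factorization_not_dvd h0 hsp h3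
  have hpn : ¬ p ∣ n := hnd p hp (dvd_mul_right _ _)
  have hqn : ¬ q ∣ n := hnd q hq ((dvd_mul_right _ _).trans (dvd_mul_left _ _))
  have hrn : ¬ r ∣ n := hnd r hr ((dvd_mul_left _ _).trans (dvd_mul_left _ _))
  obtain ⟨H, hH⟩ := H1.Hall.exists_card_eq hs (p ^ a * (q ^ b * r ^ c)) n hn (by
    apply Nat.Coprime.mul_left
    · exact Nat.Coprime.pow_left _ ((Nat.Prime.coprime_iff_not_dvd hp).2 hpn)
    · apply Nat.Coprime.mul_left
      · exact Nat.Coprime.pow_left _ ((Nat.Prime.coprime_iff_not_dvd hq).2 hqn)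
      · exact Nat.Coprime.pow_left _ ((Nat.Prime.coprime_iff_not_dvd hr).2 hrn))
  have hHs : Group.IsSolvable H := inferInstance
  have hHnt : Nontrivial H := by
    rw [← Finite.one_lt_card_iff_nontrivial, hH]
    have h1 : p ∣ p ^ a * (q ^ b * r ^ c) := (dvd_pow_self p ha0).trans (dvd_mul_right _ _)
    exact lt_of_lt_of_le hp.one_lt (Nat.le_of_dvd (by
      have := hp.pos; have := hq.pos; have := hr.pos; positivity) h1)
  obtain ⟨s, hsp, hs1⟩ := H1.Hall.exists_pCore_ne_bot hHs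
  have hsf : Fact s.Prime := ⟨hsp⟩
  have hcon' : ∀ g : H, orderOf g ≠ p * q ∧ orderOf g ≠ p * r ∧ orderOf g ≠ q * r := by
    intro g
    have := hcon (g : G)
    rwa [Subgroup.orderOf_coe] at this
  have hsH : s ∣ Nat.card H := by
    obtain ⟨k, hk⟩ := (IsPGroup.iff_card).1 (H1.Cores.isPGroup_pCore (G := H) s)
    have hk0 : k ≠ 0 := by
      rintro rfl
      rw [pow_zero] at hk
      exact hs1 (Subgroup.card_eq_one.1 hk)
    have h1 : s ∣ Nat.card (pCore s H) := by rw [hk]; exact dvd_pow_self s hk0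
    exact h1.trans (Subgroup.card_subgroup_dvd_card _)
  have hs3 : s = p ∨ s = q ∨ s = r := by
    rw [hH] at hsH
    rcases (Nat.Prime.dvd_mul hsp).1 hsH with h | h
    · exact Or.inl ((Nat.prime_dvd_prime_iff_eq hsp hp).1 (hsp.dvd_of_dvd_pow h))
    · rcases (Nat.Prime.dvd_mul hsp).1 h with h | h
      · exact Or.inr (Or.inl ((Nat.prime_dvd_prime_iff_eq hsp hq).1 (hsp.dvd_of_dvd_pow h)))
      · exact Or.inr (Or.inr ((Nat.prime_dvd_prime_iff_eq hsp hr).1 (hsp.dvd_of_dvd_pow h)))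
  -- primes dividing x^i * y^j
  have hpr2 : ∀ (x y i j : ℕ), x.Prime → y.Prime → ∀ s : ℕ, s.Prime → s ∣ x ^ i * y ^ j → s = x ∨ s = y := by
    intro x y i j hx hy s hsp hdv
    rcases (Nat.Prime.dvd_mul hsp).1 hdv with h | h
    · exact Or.inl ((Nat.prime_dvd_prime_iff_eq hsp hx).1 (hsp.dvd_of_dvd_pow h))
    · exact Or.inr ((Nat.prime_dvd_prime_iff_eq hsp hy).1 (hsp.dvd_of_dvd_pow h))
  rcases hs3 with rfl | rfl | rfl
  · obtain ⟨K, hK⟩ := H1.Hall.exists_card_eq hHs (q ^ b * r ^ c) (s ^ a) (by rw [hH]; ring)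
      (Nat.Coprime.mul_left cpq.symm cpr.symm)
    obtain ⟨g, hg⟩ := core hHs hsp hq hr hpq hpr hqr hs1 K (by rw [hK]; exact hpr2 _ _ _ _ hq hr)
      (by rw [hK]; exact (dvd_pow_self q hb0).trans (dvd_mul_right _ _))
      (by rw [hK]; exact (dvd_pow_self r hc0).trans (dvd_mul_left _ _))
      (fun g => (hcon' g).1) (fun g => (hcon' g).2.1)
    exact (hcon' g).2.2 hg
  · obtain ⟨K, hK⟩ := H1.Hall.exists_card_eq hHs (p ^ a * r ^ c) (s ^ b) (by rw [hH]; ring)
      (Nat.Coprime.mul_left cpq cqr.symm)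
    obtain ⟨g, hg⟩ := core hHs hsp hp hr hpq.symm hqr hpr hs1 K (by rw [hK]; exact hpr2 _ _ _ _ hp hr)
      (by rw [hK]; exact (dvd_pow_self p ha0).trans (dvd_mul_right _ _))
      (by rw [hK]; exact (dvd_pow_self r hc0).trans (dvd_mul_left _ _))
      (fun g => by rw [mul_comm]; exact (hcon' g).1) (fun g => (hcon' g).2.2)
    exact (hcon' g).2.1 hg
  · obtain ⟨K, hK⟩ := H1.Hall.exists_card_eq hHs (p ^ a * q ^ b) (s ^ c) (by rw [hH]; ring)
      (Nat.Coprime.mul_left cpr cqr)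
    obtain ⟨g, hg⟩ := core hHs hsp hp hq hpr.symm hqr.symm hpq hs1 K (by rw [hK]; exact hpr2 _ _ _ _ hp hq)
      (by rw [hK]; exact (dvd_pow_self p ha0).trans (dvd_mul_right _ _))
      (by rw [hK]; exact (dvd_pow_self q hb0).trans (dvd_mul_left _ _))
      (fun g => by rw [mul_comm]; exact (hcon' g).2.1) (fun g => by rw [mul_comm]; exact (hcon' g).2.2)
    exact (hcon' g).1 hg

end H69.ThreePrimes
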