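import Mathlib
import Cfsg.Agent.Lib.H1.FpfNilp
import Cfsg.Agent.Lib.H1.Cyc
import Cfsg.Agent.Lib.H2.FrobComp
import Cfsg.Agent.Lib.H73.Nilp
import Cfsg.Agent.Lib.H4.Burnside

/-!
# Working data of a Frobenius group with given kernel
-/

set_option autoImplicit false

namespace H69.FrobData

open Cfsg Subgroup
open scoped Pointwise commutatorElement

variable {X : Type*} [Group X] [Finite X]

/-- everything one wants to know about a Frobenius group with kernel `N` -/
theorem frob_data (N : Subgroup X) [N.Normal]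
    (h : ∃ C : Subgroup X, IsFrobeniusComplement C ∧ frobeniusKernel C = (N : Set X)) :
    ∃ C : Subgroup X, IsFrobeniusComplement C ∧ C ≠ ⊥ ∧ N ≠ ⊥ ∧ N.IsComplement' C ∧
      Group.IsNilpotent N ∧
      (∀ c ∈ C, c ≠ 1 → N ⊓ centralizer {c} = ⊥) ∧ (∀ n ∈ N, n ≠ 1 → centralizer {n} ≤ N) ∧
      (Nat.card C).Coprime (Nat.card N) := by
  obtain ⟨C, hC, hCN⟩ := h
  obtain ⟨N', hN', hN'n, hN'c, hN'nil⟩ := H1.FpfNilp.frobeniusKernel_nilpotent hC
  have hNN : N' = N := by
    apply SetLike.coe_injective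
    rw [hN', hCN]
  subst hNN
  obtain ⟨hC1, hC2, hTI⟩ := id hC
  have hfpf := H1.FrobConj.fpf_of_TI hTI hN'
  have hcop := H1.FrobSyl.coprime_card C N'
    (by rw [Subgroup.normalizer_eq_top_iff.mpr hN'n]; exact le_top) hfpf
  refine ⟨C, hC, hC1, ?_, hN'c, hN'nil, hfpf, ?_, hcop⟩
  · rintro rfl
    apply hC2
    have := hN'c.sup_eq_top
    rwa [bot_sup_eq] at this
  · intro n hn hn1 x hx
    by_contra hxN
    have hx1 : x ∉ frobeniusKernel C := by
      rw [← hN']; exact hxN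
    simp only [frobeniusKernel, Set.mem_ofPred_eq, not_or, not_forall, not_not] at hx1
    obtain ⟨hx1, g, hg⟩ := hx1
    rw [H1.SZ.mem_conj_smul] at hg
    have h1 : g⁻¹ * x * g ≠ 1 := by
      intro h1
      apply hx1
      have : x = g * (g⁻¹ * x * g) * g⁻¹ := by group
      rw [this, h1]; simp
    have h2 := hfpf _ hg h1
    have h3 : g⁻¹ * n * g ∈ N' ⊓ centralizer {g⁻¹ * x * g} := by
      refine Subgroup.mem_inf.2 ⟨?_, ?_⟩
      · have := hN'n.conj_mem n hn g⁻¹
        simpa using this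
      · rw [Subgroup.mem_centralizer_singleton_iff] at hx ⊢
        calc g⁻¹ * n * g * (g⁻¹ * x * g) = g⁻¹ * (n * x) * g := by group
          _ = g⁻¹ * (x * n) * g := by rw [hx]
          _ = _ := by group
    rw [h2, Subgroup.mem_bot] at h3
    apply hn1
    have : n = g * (g⁻¹ * n * g) * g⁻¹ := by group
    rw [this, h3]; simp

/-- an fpf involution inverts -/
theorem inv_of_fpf {N : Subgroup X} [hN : N.Normal] {t : X} (ht : t * t = 1)
    (hf : N ⊓ centralizer {t} = ⊥) (n : X) (hn : n ∈ N) : t * n * t⁻¹ = n⁻¹ := by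
  let φ : ↥N →* ↥N := (MulAut.conjNormal t : MulAut ↥N).toMonoidHom
  have hv : ∀ n : ↥N, ((φ n : ↥N) : X) = t * n * t⁻¹ := fun n => MulAut.conjNormal_apply t n
  have htinv : t⁻¹ = t := inv_eq_of_mul_eq_one_right ht
  have h1 : MonoidHom.FixedPointFree (φ : ↥N → ↥N) := by
    intro n hn
    have h2 : (n : X) ∈ N ⊓ centralizer {t} := by
      refine Subgroup.mem_inf.2 ⟨n.2, ?_⟩
      rw [Subgroup.mem_centralizer_singleton_iff]
      have h3 := congrArg Subtype.val hn
      rw [hv] at h3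
      calc (n : X) * t = (t * n * t⁻¹) * t := by rw [h3]
        _ = t * n := by group
    rw [hf, Subgroup.mem_bot] at h2
    exact Subtype.ext h2
  have h2 : Function.Involutive (φ : ↥N → ↥N) := by
    intro n
    apply Subtype.ext
    rw [hv, hv]
    calc t * (t * n * t⁻¹) * t⁻¹ = (t * t) * n * (t * t)⁻¹ := by group
      _ = n := by rw [ht]; group
  have h3 := h1.coe_eq_inv_of_involutive h2
  have h4 := congrFun h3 ⟨n, hn⟩
  have h5 := congrArg Subtype.val h4
  rw [hv] at h5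
  simpa using h5

/-- unique involution in a complement -/
theorem involution_unique {N C : Subgroup X} [hN : N.Normal] (hNb : N ≠ ⊥)
    (hf : ∀ c ∈ C, c ≠ 1 → N ⊓ centralizer {c} = ⊥) {s t : X} (hs : s ∈ C) (ht : t ∈ C)
    (hs2 : orderOf s = 2) (ht2 : orderOf t = 2) : s = t := by
  have hs1 : s ≠ 1 := by rintro rfl; simp at hs2
  have ht1 : t ≠ 1 := by rintro rfl; simp at ht2
  have hss : s * s = 1 := by rw [← pow_two, ← hs2, pow_orderOf_eq_one]
  have htt : t * t = 1 := by rw [← pow_two, ← ht2, pow_orderOf_eq_one]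
  have h1 := inv_of_fpf hss (hf s hs hs1)
  have h2 := inv_of_fpf htt (hf t ht ht1)
  by_contra hne
  have h3 : s * t ≠ 1 := by
    intro h
    apply hne
    have : s = t⁻¹ := eq_inv_of_mul_eq_one_left h
    rw [this]; exact inv_eq_of_mul_eq_one_right htt
  have h4 := hf (s * t) (mul_mem hs ht) h3
  apply hNb
  rw [← h4]
  refine le_antisymm ?_ inf_le_left
  refine le_inf le_rfl ?_
  intro n hn
  rw [Subgroup.mem_centralizer_singleton_iff]
  have h5 : s * (t * n * t⁻¹) * s⁻¹ = n := by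
    rw [h2 n hn, h1 n⁻¹ (inv_mem hn), inv_inv]
  calc n * (s * t) = (s * (t * n * t⁻¹) * s⁻¹) * (s * t) := by rw [h5]
    _ = s * t * n := by group

/-- a group acting fixed-point-freely on a cyclic normal subgroup is cyclic -/
theorem cyclic_of_fpf_cyclic {N C : Subgroup X} [hN : N.Normal] (hNb : N ≠ ⊥) (hcyc : IsCyclic ↥N)
    (hf : ∀ c ∈ C, c ≠ 1 → N ⊓ centralizer {c} = ⊥) : IsCyclic ↥C := by
  have hNcomm : IsMulCommutative ↥N := by
    let _ := hcyc.commGroup
    exact ⟨⟨fun a b => mul_comm a b⟩⟩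
  have hCcomm : IsMulCommutative ↥C := by
    refine ⟨⟨fun a b => ?_⟩⟩
    by_contra hne
    have h3 : (⁅(a : X), (b : X)⁆ : X) ≠ 1 := by
      intro h
      rw [commutatorElement_eq_one_iff_mul_comm] at h
      exact hne (Subtype.ext h)
    have h4 := hf ⁅(a : X), (b : X)⁆ (by
      rw [commutatorElement_def]
      exact mul_mem (mul_mem (mul_mem a.2 b.2) (inv_mem a.2)) (inv_mem b.2)) h3
    apply hNb
    rw [← h4]
    refine le_antisymm ?_ inf_le_left
    refine le_inf le_rfl ?_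
    intro n hn
    rw [Subgroup.mem_centralizer_singleton_iff]
    obtain ⟨ka, hka⟩ := MonoidHom.map_cyclic (MulAut.conjNormal (a : X) : MulAut ↥N).toMonoidHom
    obtain ⟨kb, hkb⟩ := MonoidHom.map_cyclic (MulAut.conjNormal (b : X) : MulAut ↥N).toMonoidHom
    have ea : ∀ n ∈ N, (a : X) * n * (a : X)⁻¹ = n ^ ka := by
      intro n hn
      have := congrArg Subtype.val (hka ⟨n, hn⟩)
      simpa using this
    have eb : ∀ n ∈ N, (b : X) * n * (b : X)⁻¹ = n ^ kb := by
      intro n hn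
      have := congrArg Subtype.val (hkb ⟨n, hn⟩)
      simpa using this
    have e1 : (a : X) * ((b : X) * n * (b : X)⁻¹) * (a : X)⁻¹ =
        (b : X) * ((a : X) * n * (a : X)⁻¹) * (b : X)⁻¹ := by
      rw [eb n hn, ea n hn, ea _ (zpow_mem hn kb), eb _ (zpow_mem hn ka), ← zpow_mul, ← zpow_mul,
        mul_comm]
    have e2 : ∀ n ∈ N, (a : X) * ((b : X) * n * (b : X)⁻¹) * (a : X)⁻¹ =
        (b : X) * ((a : X) * n * (a : X)⁻¹) * (b : X)⁻¹ := by
      intro n hn
      rw [eb n hn, ea n hn, ea _ (zpow_mem hn kb), eb _ (zpow_mem hn ka), ← zpow_mul, ← zpow_mul,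
        mul_comm]
    -- commutator commutes with n
    have e3 : ⁅(a : X), (b : X)⁆ * n * ⁅(a : X), (b : X)⁆⁻¹ = n := by
      have hm : (b : X)⁻¹ * ((a : X)⁻¹ * n * (a : X)) * (b : X) ∈ N := by
        have h1 := hN.conj_mem n hn (a : X)⁻¹
        have h2 := hN.conj_mem _ h1 (b : X)⁻¹
        simpa using h2
      have h6 := e2 _ hm
      rw [commutatorElement_def]
      have h7 : (b : X) * ((b : X)⁻¹ * ((a : X)⁻¹ * n * (a : X)) * (b : X)) * (b : X)⁻¹ =
          (a : X)⁻¹ * n * (a : X) := by group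
      rw [h7] at h6
      have h8 : (a : X) * ((a : X)⁻¹ * n * (a : X)) * (a : X)⁻¹ = n := by group
      rw [h8] at h6
      -- n = b a (b⁻¹ a⁻¹ n a b) a⁻¹ b⁻¹
      have hm' : (a : X)⁻¹ * ((b : X)⁻¹ * n * (b : X)) * (a : X) ∈ N := by
        have h1 := hN.conj_mem n hn (b : X)⁻¹
        have h2 := hN.conj_mem _ h1 (a : X)⁻¹
        simpa using h2
      have h9 := e2 _ hm'
      have h10 : (b : X) * ((a : X) * ((a : X)⁻¹ * ((b : X)⁻¹ * n * (b : X)) * (a : X)) * (a : X)⁻¹) *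
        (b : X)⁻¹ = n := by group
      rw [h10] at h9
      calc (a : X) * b * (a : X)⁻¹ * (b : X)⁻¹ * n * ((a : X) * b * (a : X)⁻¹ * (b : X)⁻¹)⁻¹ =
          (a : X) * ((b : X) * ((a : X)⁻¹ * ((b : X)⁻¹ * n * (b : X)) * (a : X)) * (b : X)⁻¹) * (a : X)⁻¹ := by
            group
        _ = n := h9
    calc n * ⁅(a : X), (b : X)⁆ = (⁅(a : X), (b : X)⁆ * n * ⁅(a : X), (b : X)⁆⁻¹) * ⁅(a : X), (b : X)⁆ := by
            rw [e3]
      _ = ⁅(a : X), (b : X)⁆ * n := by group
  exact H1.Cyc.isCyclic_of_fpf_subgroup C N hNb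
    (by rw [Subgroup.normalizer_eq_top_iff.mpr hN]; exact le_top) hf (Or.inl hCcomm)

/-- elements of coprime prime orders in a nilpotent subgroup give an element of order `pq` -/
theorem exists_mul_nilpotent {H : Subgroup X} (hH : Group.IsNilpotent ↥H) {p q : ℕ} (hp : p.Prime)
    (hq : q.Prime) (hpq : p ≠ q) (hpH : p ∣ Nat.card ↥H) (hqH : q ∣ Nat.card ↥H) :
    ∃ g : X, orderOf g = p * q := by
  have := Fact.mk hp
  have := Fact.mk hq
  obtain ⟨x, hx⟩ := exists_prime_orderOf_dvd_card' p hpH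
  obtain ⟨y, hy⟩ := exists_prime_orderOf_dvd_card' q hqH
  have hcomm : Commute x y := H73.Nilp.commute_of_coprime (p := p) ⟨1, by rw [hx, pow_one]⟩
    (by rw [hy]; exact ((Nat.coprime_primes hp hq).2 hpq).symm)
  refine ⟨((x * y : ↥H) : X), ?_⟩
  rw [Subgroup.orderOf_coe, hcomm.orderOf_mul_eq_mul_orderOf_of_coprime
    (by rw [hx, hy]; exact (Nat.coprime_primes hp hq).2 hpq), hx, hy]

end H69.FrobData
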