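import Mathlib

/-! averaging over the normalizer of an abelian Sylow subgroup -/

set_option autoImplicit false
set_option linter.all false

namespace H69.CAF2

open Subgroup

universe u

variable {G : Type u} [Group G] [Finite G]

theorem avg {p : ℕ} [Fact p.Prime] (S : Sylow p G) (hab : ∀ a ∈ S, ∀ b ∈ S, Commute a b) (s : G) (hs : s ∈ S) :
    ∃ z ∈ S, (∀ g ∈ normalizer ((S : Subgroup G) : Set G), Commute g z) ∧ ∃ m : ℕ, ¬ p ∣ m ∧ s ^ m * z⁻¹ ∈ commutator G := by
  classical
  set N := normalizer ((S : Subgroup G) : Set G) with hN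
  have hSN : (S : Subgroup G) ≤ N := le_normalizer
  set S' := (S : Subgroup G).subgroupOf N with hS'
  letI : CommGroup (S : Subgroup G) := { (inferInstance : Group (S : Subgroup G)) with
    mul_comm := fun a b => Subtype.ext (hab a a.2 b b.2) }
  have hconj : ∀ n : N, ∀ u : (S : Subgroup G), (n : G) * u * (n : G)⁻¹ ∈ (S : Subgroup G) := by
    intro n u
    exact (mem_normalizer_iff.1 n.2 u).1 u.2
  let cj : N → (S : Subgroup G) →* (S : Subgroup G) := fun n =>
    { toFun := fun u => ⟨(n : G) * u * (n : G)⁻¹, hconj n u⟩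
      map_one' := Subtype.ext (by simp)
      map_mul' := fun a b => Subtype.ext (by simp) }
  haveI : Fintype (N ⧸ S') := Fintype.ofFinite _
  let F : N ⧸ S' → (S : Subgroup G) := fun q => Quotient.liftOn' q (fun n => cj n ⟨s, hs⟩) (by
    intro a b hab'
    have h1 : a⁻¹ * b ∈ S' := QuotientGroup.leftRel_apply.1 hab'
    have h2 : ((a⁻¹ * b : N) : G) ∈ (S : Subgroup G) := mem_subgroupOf.1 h1
    have h3 := hab _ h2 s hs
    apply Subtype.ext
    change (a : G) * s * (a : G)⁻¹ = (b : G) * s * (b : G)⁻¹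
    have h4 : (b : G) = a * ((a⁻¹ * b : N) : G) := by simp
    rw [h4]
    have h5 : ((a⁻¹ * b : N) : G) * s * ((a⁻¹ * b : N) : G)⁻¹ = s := by
      rw [h3.eq, mul_inv_cancel_right]
    calc (a : G) * s * (a : G)⁻¹ = a * (((a⁻¹ * b : N) : G) * s * ((a⁻¹ * b : N) : G)⁻¹) * (a : G)⁻¹ := by rw [h5]
      _ = _ := by simp only [mul_inv_rev, mul_assoc])
  have hF : ∀ n : N, F (n : N ⧸ S') = cj n ⟨s, hs⟩ := fun n => rfl
  have hFg : ∀ (g : N) (q : N ⧸ S'), cj g (F q) = F (g • q) := by
    intro g q
    induction q using QuotientGroup.induction_on with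
    | H n =>
      have h1 : g • (n : N ⧸ S') = ((g * n : N) : N ⧸ S') := rfl
      rw [h1, hF, hF]
      apply Subtype.ext
      change (g : G) * ((n : G) * s * (n : G)⁻¹) * (g : G)⁻¹ = ((g * n : N) : G) * s * ((g * n : N) : G)⁻¹
      simp only [Subgroup.coe_mul, mul_inv_rev, mul_assoc]
  refine ⟨((∏ q, F q : (S : Subgroup G)) : G), (∏ q, F q : (S : Subgroup G)).2, ?_, Fintype.card (N ⧸ S'), ?_, ?_⟩
  · intro g hg
    have h1 : cj ⟨g, hg⟩ (∏ q, F q) = ∏ q, F q := by
      rw [map_prod]
      rw [← Equiv.prod_comp (MulAction.toPerm (⟨g, hg⟩ : N)) F]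
      apply Finset.prod_congr rfl
      intro q _
      exact hFg ⟨g, hg⟩ q
    have h2 := congrArg Subtype.val h1
    have h3 : g * ((∏ q, F q : (S : Subgroup G)) : G) * g⁻¹ = ((∏ q, F q : (S : Subgroup G)) : G) := h2
    exact mul_inv_eq_iff_eq_mul.1 h3
  · have h1 : Fintype.card (N ⧸ S') = S'.index := by
      rw [Subgroup.index_eq_card, Nat.card_eq_fintype_card]
    rw [h1]
    have h2 : S'.index ∣ (S : Subgroup G).index := by
      have := Subgroup.relIndex_mul_index hSN
      exact ⟨_, this.symm⟩
    intro h3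
    exact S.not_dvd_index (h3.trans h2)
  · have h1 : ∀ u : (S : Subgroup G), ∀ n : N, Abelianization.of ((cj n u : (S : Subgroup G)) : G) = Abelianization.of (u : G) := by
      intro u n
      change Abelianization.of ((n : G) * u * (n : G)⁻¹) = _
      rw [map_mul, map_mul, map_inv, mul_comm (Abelianization.of (n : G)), mul_inv_cancel_right]
    have h2 : Abelianization.of (((∏ q, F q : (S : Subgroup G))) : G) = Abelianization.of s ^ Fintype.card (N ⧸ S') := by
      have h3 : ((Abelianization.of).comp (S : Subgroup G).subtype) (∏ q, F q) = ∏ q, ((Abelianization.of).comp (S : Subgroup G).subtype) (F q) :=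
        map_prod _ _ _
      have h4 : ∀ q, ((Abelianization.of).comp (S : Subgroup G).subtype) (F q) = Abelianization.of s := by
        intro q
        induction q using QuotientGroup.induction_on with
        | H n => exact h1 ⟨s, hs⟩ n
      simp only [h4, Finset.prod_const, Finset.card_univ] at h3
      exact h3
    have h5 : Abelianization.of (s ^ Fintype.card (N ⧸ S') * (((∏ q, F q : (S : Subgroup G))) : G)⁻¹) = 1 := by
      rw [map_mul, map_inv, map_pow, h2, mul_inv_cancel]
    have h6 := (MonoidHom.mem_ker (f := Abelianization.of (G := G))).2 h5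
    rwa [Abelianization.ker_of] at h6

end H69.CAF2
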