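import Cfsg.Agent.Lib.H4.CAA
import Cfsg.Agent.Lib.H69.CAF2a

/-!
# S4369, piece F2 (Sylow 2-subgroups abelian, a bad 2-element)
-/

set_option autoImplicit false
set_option linter.all false

namespace H69.CAF2

open Subgroup H4.CA H4.CAA
open scoped Pointwise

universe u

variable {G : Type u} [Group G] [Finite G]

/-- the statement of piece D -/
def ZPrinc (G : Type u) [Group G] : Prop :=
  ∀ {z : G}, Bad z → (∃ k : ℕ, z ^ 2 ^ k = 1) → z ^ 2 ∈ center G →
    (∀ g : G, Commute z (g * z * g⁻¹) → g * z * g⁻¹ = z) → False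

omit [Finite G] in
theorem bad_of_centralizer_le {x y : G} (hx : Bad x) (hy : y ∉ center G) (h : ∀ a, Commute x a → Commute y a) : Bad y := by
  obtain ⟨hZ, a, b, xa, xb, ab⟩ := hx
  exact ⟨hy, a, b, h a xa, h b xb, ab⟩

omit [Finite G] in
theorem bad_conj {x : G} (hx : Bad x) (g : G) : Bad (g * x * g⁻¹) := by
  obtain ⟨hZ, a, b, xa, xb, ab⟩ := hx
  refine ⟨?_, g * a * g⁻¹, g * b * g⁻¹, ?_, ?_, ?_⟩
  · intro h
    apply hZ
    rw [mem_Z] at h ⊢
    intro y
    have h1 := h (g * y * g⁻¹)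
    have h2 : g * (x * y) * g⁻¹ = g * (y * x) * g⁻¹ := by
      have := h1.eq
      calc g * (x * y) * g⁻¹ = (g * x * g⁻¹) * (g * y * g⁻¹) := by group
        _ = (g * y * g⁻¹) * (g * x * g⁻¹) := this
        _ = _ := by group
    exact mul_left_cancel (mul_right_cancel h2)
  · exact xa.conj g
  · exact xb.conj g
  · intro h
    apply ab
    have h2 : g * (a * b) * g⁻¹ = g * (b * a) * g⁻¹ := by
      have := h.eq
      calc g * (a * b) * g⁻¹ = (g * a * g⁻¹) * (g * b * g⁻¹) := by group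
        _ = (g * b * g⁻¹) * (g * a * g⁻¹) := this
        _ = _ := by group
    exact mul_left_cancel (mul_right_cancel h2)

/-- a 2-element lies in a conjugate of `S` -/
theorem exists_conj_mem (S : Sylow 2 G) {P : Subgroup G} (hP : IsPGroup 2 P) :
    ∃ g : G, ∀ x ∈ P, g⁻¹ * x * g ∈ (S : Subgroup G) := by
  haveI : Fact (Nat.Prime 2) := ⟨Nat.prime_two⟩
  obtain ⟨Q, hQ⟩ := hP.exists_le_sylow
  obtain ⟨g, hg⟩ := MulAction.exists_smul_eq G S Q
  refine ⟨g, fun x hx => ?_⟩
  have h1 : x ∈ (Q : Subgroup G) := hQ hx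
  rw [← hg] at h1
  have h2 : x ∈ MulAut.conj g • (S : Subgroup G) := h1
  rw [Subgroup.mem_pointwise_smul_iff_inv_smul_mem] at h2
  simpa [MulAut.smul_def, MulAut.conj_inv_apply] using h2

theorem isPGroup_closure_pair {x y : G} (hx : ∃ k : ℕ, x ^ 2 ^ k = 1) (hy : ∃ k : ℕ, y ^ 2 ^ k = 1) (h : Commute x y) :
    ∃ P : Subgroup G, IsPGroup 2 P ∧ x ∈ P ∧ y ∈ P := by
  haveI : Fact (Nat.Prime 2) := ⟨Nat.prime_two⟩
  have hz : ∀ w : G, (∃ k : ℕ, w ^ 2 ^ k = 1) → IsPGroup 2 (zpowers w) := by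
    rintro w ⟨k, hk⟩ ⟨g, hg⟩
    obtain ⟨n, rfl⟩ := mem_zpowers_iff.1 hg
    refine ⟨k, Subtype.ext ?_⟩
    change (w ^ n) ^ 2 ^ k = 1
    rw [← zpow_natCast, ← zpow_mul, mul_comm, zpow_mul, zpow_natCast, hk, one_zpow]
  have hle : zpowers y ≤ normalizer ((zpowers x : Subgroup G) : Set G) := by
    rw [zpowers_le, mem_normalizer_iff]
    intro n
    constructor
    · intro hn
      have : Commute y n := by
        obtain ⟨k, rfl⟩ := mem_zpowers_iff.1 hn
        exact (h.symm).zpow_right k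
      rw [this.eq, mul_inv_cancel_right]; exact hn
    · intro hn
      have : Commute y (y * n * y⁻¹) := by
        obtain ⟨k, hk⟩ := mem_zpowers_iff.1 hn
        rw [← hk]
        exact (h.symm).zpow_right k
      have h3 : y * n * y⁻¹ = n := by
        have h4 : y * (y * n * y⁻¹) = y * n := by rw [this.eq]; group
        exact mul_left_cancel h4
      rw [h3] at hn
      exact hn
  exact ⟨_, IsPGroup.to_sup_of_normal_right' (hz y hy) (hz x hx) hle, mem_sup_right (mem_zpowers x),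
    mem_sup_left (mem_zpowers y)⟩

/-- a bad 2-element has a bad power with square in the center -/
theorem exists_pow {c : G} (hc : Bad c) (h2 : ∃ k : ℕ, c ^ 2 ^ k = 1) :
    ∃ j : ℕ, Bad (c ^ 2 ^ j) ∧ (c ^ 2 ^ j) ^ 2 ∈ center G := by
  classical
  obtain ⟨k, hk⟩ := h2
  have hex : ∃ k : ℕ, c ^ 2 ^ k ∈ center G := ⟨k, by rw [hk]; exact one_mem _⟩
  have hm := Nat.find_spec hex
  have hmin := fun j (hj : j < Nat.find hex) => Nat.find_min hex hj
  have hpos : Nat.find hex ≠ 0 := by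
    intro h0
    rw [h0, pow_zero, pow_one] at hm
    exact hc.1 hm
  obtain ⟨j, hj⟩ := Nat.exists_eq_succ_of_ne_zero hpos
  refine ⟨j, ?_, ?_⟩
  · apply bad_of_centralizer_le hc (hmin j (by omega))
    intro a ha
    exact ha.pow_left _
  · rw [← pow_mul, ← pow_succ]
    rw [hj] at hm
    exact hm

/-- (i) -/
theorem no_central_bad (hD : ZPrinc G) (S : Sylow 2 G) (hS : ∀ a ∈ S, ∀ b ∈ S, Commute a b) (c : G) (hc : c ∈ S)
    (hN : ∀ g ∈ normalizer ((S : Subgroup G) : Set G), Commute g c) : ¬ Bad c := by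
  haveI : Fact (Nat.Prime 2) := ⟨Nat.prime_two⟩
  intro hb
  have hc2 : ∃ k : ℕ, c ^ 2 ^ k = 1 := by
    obtain ⟨k, hk⟩ := S.2 ⟨c, hc⟩
    exact ⟨k, congrArg Subtype.val hk⟩
  obtain ⟨j, hbj, hj2⟩ := exists_pow hb hc2
  set z := c ^ 2 ^ j with hz
  have hzS : z ∈ (S : Subgroup G) := pow_mem hc _
  have hzN : ∀ g ∈ normalizer ((S : Subgroup G) : Set G), Commute g z := fun g hg => (hN g hg).pow_right _
  have hz2 : ∃ k : ℕ, z ^ 2 ^ k = 1 := by
    obtain ⟨k, hk⟩ := S.2 ⟨z, hzS⟩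
    exact ⟨k, congrArg Subtype.val hk⟩
  haveI : IsMulCommutative (S : Subgroup G) := ⟨⟨fun a b => Subtype.ext (hS a a.2 b b.2)⟩⟩
  -- any conjugate of z in S is z
  have key : ∀ g : G, g⁻¹ * z * g ∈ (S : Subgroup G) → g⁻¹ * z * g = z := by
    intro g hg
    obtain ⟨n, hn, e⟩ := Sylow.conj_eq_normalizer_conj_of_mem S z g hzS hg
    rw [e]
    have := hzN n hn
    have h1 : n⁻¹ * z * n = z := by
      rw [mul_assoc, ← this.eq, inv_mul_cancel_left]
    exact h1
  apply hD hbj hz2 hj2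
  intro g hg
  have hzg2 : ∃ k : ℕ, (g * z * g⁻¹) ^ 2 ^ k = 1 := by
    obtain ⟨k, hk⟩ := hz2
    exact ⟨k, by rw [conj_pow, hk, mul_one, mul_inv_cancel]⟩
  obtain ⟨P, hP, hzP, hgP⟩ := isPGroup_closure_pair hz2 hzg2 hg
  obtain ⟨x, hx⟩ := exists_conj_mem S hP
  have h1 := key x (hx z hzP)
  have h2 := hx _ hgP
  have h3 : x⁻¹ * (g * z * g⁻¹) * x = (g⁻¹ * x)⁻¹ * z * (g⁻¹ * x) := by group
  rw [h3] at h2
  have h4 := key (g⁻¹ * x) h2
  have h5 : g * z * g⁻¹ = x * z * x⁻¹ := by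
    calc g * z * g⁻¹ = x * ((g⁻¹ * x)⁻¹ * z * (g⁻¹ * x)) * x⁻¹ := by group
      _ = x * z * x⁻¹ := by rw [h4]
  have h6 : z = x * z * x⁻¹ := by
    calc z = x * (x⁻¹ * z * x) * x⁻¹ := by group
      _ = x * z * x⁻¹ := by rw [h1]
  rw [h5]; exact h6.symm

/-- the normalizer of `S` is proper -/
theorem normalizer_ne (h : MN G) (S : Sylow 2 G) : normalizer ((S : Subgroup G) : Set G) ≠ ⊤ := by
  intro hT
  exact h.ns (solvable_of_normal_sylow S (normalizer_eq_top_iff.1 hT))

/-- (ii) -/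
theorem solvable_cent (h : Frame G) (hD : ZPrinc G) (S : Sylow 2 G) (hS : ∀ a ∈ S, ∀ b ∈ S, Commute a b) (c : G)
    (hc : c ∈ S) (hb : Bad c) : Group.IsSolvable (centralizer ({c} : Set G)) := by
  haveI : Fact (Nat.Prime 2) := ⟨Nat.prime_two⟩
  have hSC : (S : Subgroup G) ≤ centralizer ({c} : Set G) := fun s hs => mem_ce.2 (hS c hc s hs)
  have hSN : (S : Subgroup G) ≤ normalizer ((S : Subgroup G) : Set G) := le_normalizer
  have hab : ∀ a ∈ normalizer ((S : Subgroup G) : Set G), ∀ b ∈ normalizer ((S : Subgroup G) : Set G),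
      Commute c a → Commute c b → Commute a b := by
    intro a ha b hb' ca cb
    by_contra hn
    have h1 := h.ca _ (normalizer_ne h.toMN S) c (hSN hc) a ha b hb' ca cb hn
    exact no_central_bad hD S hS c hc (fun g hg => (h1 g hg).symm) hb
  apply solvable_of_burnside (S.subtype hSC)
  intro g hg
  rw [mem_centralizer_iff]
  intro p hp
  have hp' : (p : G) ∈ (S : Subgroup G) := hp
  have hgN : (g : G) ∈ normalizer ((S : Subgroup G) : Set G) := by
    rw [mem_normalizer_iff] at hg ⊢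
    intro n
    constructor
    · intro hn
      exact (hg ⟨n, hSC hn⟩).1 hn
    · intro hn
      have h1 : (g : G)⁻¹ * ((g : G) * n * (g : G)⁻¹) * g ∈ centralizer ({c} : Set G) :=
        mul_mem (mul_mem (inv_mem g.2) (hSC hn)) g.2
      have h2 : (g : G)⁻¹ * ((g : G) * n * (g : G)⁻¹) * g = n := by group
      rw [h2] at h1
      exact (hg ⟨n, h1⟩).2 hn
  exact Subtype.ext (hab _ hgN _ (hSN hp') (mem_ce.1 g.2) (mem_ce.1 p.2)).eq.symm

/-- **piece F2** -/
theorem gamma2' (hD : ZPrinc G) (h : Frame G) (S : Sylow 2 G) (hS : ∀ a ∈ S, ∀ b ∈ S, Commute a b) (s : G)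
    (h2 : ∃ k : ℕ, s ^ 2 ^ k = 1) (hs : Bad s) : commutator G = ⊤ ∧
      (∀ z ∈ center G, (∃ k : ℕ, z ^ 2 ^ k = 1) → z = 1) ∧
      ∀ t : G, orderOf t = 2 → Group.IsSolvable (centralizer ({t} : Set G)) := by
  haveI : Fact (Nat.Prime 2) := ⟨Nat.prime_two⟩
  haveI : IsMulCommutative (S : Subgroup G) := ⟨⟨fun a b => Subtype.ext (hS a a.2 b b.2)⟩⟩
  have hSN : (S : Subgroup G) ≤ normalizer ((S : Subgroup G) : Set G) := le_normalizer
  -- move s into S
  obtain ⟨s0, hs0, hs0b⟩ : ∃ s0 ∈ (S : Subgroup G), Bad s0 := by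
    obtain ⟨P, hP, hsP, _⟩ := isPGroup_closure_pair h2 h2 (Commute.refl s)
    obtain ⟨g, hg⟩ := exists_conj_mem S hP
    refine ⟨_, hg s hsP, ?_⟩
    have := bad_conj hs g⁻¹
    rwa [inv_inv] at this
  have hs02 : ∃ k : ℕ, s0 ^ 2 ^ k = 1 := by
    obtain ⟨k, hk⟩ := S.2 ⟨s0, hs0⟩
    exact ⟨k, congrArg Subtype.val hk⟩
  -- elements of S centralized by N are central
  have hcen : ∀ c ∈ (S : Subgroup G), (∀ g ∈ normalizer ((S : Subgroup G) : Set G), Commute g c) → c ∈ center G := by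
    intro c hc hN
    by_contra hcZ
    have hex : ∃ n ∈ normalizer ((S : Subgroup G) : Set G), ¬ Commute n s0 := by
      by_contra hno
      push Not at hno
      exact no_central_bad hD S hS s0 hs0 hno hs0b
    obtain ⟨n, hn, hns⟩ := hex
    exact no_central_bad hD S hS c hc hN ⟨hcZ, n, s0, (hN n hn).symm, hS c hc s0 hs0, hns⟩
  obtain ⟨z, hzS, hzN, m, hm, hsm⟩ := avg S hS s0 hs0
  have hzZ := hcen z hzS hzN
  have hodd : Nat.Coprime (orderOf s0) m := by
    obtain ⟨k, hk⟩ := hs02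
    have h1 : orderOf s0 ∣ 2 ^ k := orderOf_dvd_of_pow_eq_one hk
    exact Nat.Coprime.coprime_dvd_left h1 (Nat.Coprime.pow_left _ ((Nat.Prime.coprime_iff_not_dvd Nat.prime_two).2 hm))
  have hbad1 : Bad (s0 ^ m * z⁻¹) := by
    have hcm : ∀ a, Commute (s0 ^ m * z⁻¹) a → Commute s0 a := by
      intro a ha
      have hza : Commute z a := mem_Z.1 hzZ a
      have h1 : Commute (s0 ^ m) a := by
        have := Commute.mul_left ha hza
        rwa [inv_mul_cancel_right] at this
      obtain ⟨j, hj⟩ := exists_pow_eq_self_of_coprime hodd.symm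
      rw [← hj]
      exact h1.pow_left j
    obtain ⟨hZ, a, b, xa, xb, ab⟩ := hs0b
    refine ⟨?_, a, b, ?_, ?_, ab⟩
    · intro hc
      apply hZ
      rw [mem_Z]
      intro y
      exact hcm y (mem_Z.1 hc y)
    · exact (xa.pow_left m).mul_left (mem_Z.1 hzZ a).inv_left
    · exact (xb.pow_left m).mul_left (mem_Z.1 hzZ b).inv_left
  have hperf : commutator G = ⊤ := by
    by_contra hne
    exact h.noBad (commutator G) inferInstance hne _ hsm hbad1
  have hz1 : ∀ z ∈ center G, (∃ k : ℕ, z ^ 2 ^ k = 1) → z = 1 := by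
    intro z hz hk
    have hzS : z ∈ (S : Subgroup G) := by
      obtain ⟨P, hP, hsP, _⟩ := isPGroup_closure_pair hk hk (Commute.refl z)
      obtain ⟨g, hg⟩ := exists_conj_mem S hP
      have h1 := hg z hsP
      have h3 : g⁻¹ * z * g = z := by
        rw [mul_assoc, (mem_Z.1 hz g).eq, inv_mul_cancel_left]
      rwa [h3] at h1
    letI : CommGroup (S : Subgroup G) := { (inferInstance : Group (S : Subgroup G)) with
      mul_comm := fun a b => Subtype.ext (hS a a.2 b b.2) }
    have hkey : ∀ (k : ℕ) (g₀ : G), g₀⁻¹ * z ^ k * g₀ ∈ (S : Subgroup G) → g₀⁻¹ * z ^ k * g₀ = z ^ k := by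
      intro k g₀ _
      have : Commute (z ^ k) g₀ := (mem_Z.1 hz g₀).pow_left k
      rw [mul_assoc, this.eq, inv_mul_cancel_left]
    have h3 := MonoidHom.transfer_eq_pow (H := (S : Subgroup G)) (MonoidHom.id (S : Subgroup G)) z hkey
    have h4 : ∀ g : G, MonoidHom.transfer (MonoidHom.id (S : Subgroup G)) g = 1 := by
      intro g
      have h5 : commutator G ≤ (MonoidHom.transfer (MonoidHom.id (S : Subgroup G))).ker := by
        rw [commutator_def, Subgroup.commutator_le]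
        intro a _ b _
        rw [MonoidHom.mem_ker, map_commutatorElement]
        exact commutatorElement_eq_one_iff_commute.2 (Commute.all _ _)
      have h6 : g ∈ commutator G := by rw [hperf]; trivial
      exact MonoidHom.mem_ker.1 (h5 h6)
    rw [h4 z] at h3
    have h7 : z ^ (S : Subgroup G).index = 1 := by
      have := congrArg Subtype.val h3
      exact this.symm
    obtain ⟨k, hk⟩ := hk
    have h8 : orderOf z ∣ 2 ^ k := orderOf_dvd_of_pow_eq_one hk
    have h9 : orderOf z ∣ (S : Subgroup G).index := orderOf_dvd_of_pow_eq_one h7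
    have h10 : Nat.Coprime (2 ^ k) (S : Subgroup G).index :=
      Nat.Coprime.pow_left _ ((Nat.Prime.coprime_iff_not_dvd Nat.prime_two).2 S.not_dvd_index)
    exact orderOf_eq_one_iff.1 (Nat.eq_one_of_dvd_coprimes h10 h8 h9)
  refine ⟨hperf, hz1, ?_⟩
  intro t ht
  have ht2 : ∃ k : ℕ, t ^ 2 ^ k = 1 := ⟨1, by rw [pow_one, ← ht]; exact pow_orderOf_eq_one t⟩
  have htZ : t ∉ center G := by
    intro hc
    have := hz1 t hc ht2
    rw [this, orderOf_one] at ht
    omega
  obtain ⟨P, hP, htP, _⟩ := isPGroup_closure_pair ht2 ht2 (Commute.refl t)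
  obtain ⟨g, hg⟩ := exists_conj_mem S hP
  have ht' := hg t htP
  set t' := g⁻¹ * t * g with ht'def
  have hsolv : Group.IsSolvable (centralizer ({t'} : Set G)) := by
    by_cases hb : Bad t'
    · exact solvable_cent h hD S hS t' ht' hb
    · have ht'Z : t' ∉ center G := by
        intro hc
        apply htZ
        rw [mem_Z] at hc ⊢
        intro y
        have h1 := (hc (g⁻¹ * y * g)).eq
        have h2 : g⁻¹ * (t * y) * g = g⁻¹ * (y * t) * g := by
          calc g⁻¹ * (t * y) * g = t' * (g⁻¹ * y * g) := by rw [ht'def]; group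
            _ = (g⁻¹ * y * g) * t' := h1
            _ = _ := by rw [ht'def]; group
        exact mul_left_cancel (mul_right_cancel h2)
      apply Group.isSolvable_of_comm
      intro a b
      by_contra hab
      exact hb ⟨ht'Z, a, b, mem_ce.1 a.2, mem_ce.1 b.2, fun hc => hab (Subtype.ext hc.eq)⟩
  -- conjugate
  let f : centralizer ({t} : Set G) →* centralizer ({t'} : Set G) :=
    { toFun := fun y => ⟨g⁻¹ * y * g, mem_ce.2 (by
        have h1 : Commute t y := mem_ce.1 y.2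
        have h2 := h1.conj g⁻¹
        rw [inv_inv] at h2
        exact h2)⟩
      map_one' := Subtype.ext (by simp)
      map_mul' := fun a b => Subtype.ext (by simp [mul_assoc]) }
  have hf : Function.Injective f := by
    intro a b hab
    have h1 : g⁻¹ * (a : G) * g = g⁻¹ * b * g := congrArg Subtype.val hab
    exact Subtype.ext (mul_left_cancel (mul_right_cancel h1))
  exact Group.isSolvable_of_isSolvable_injective hf

end H69.CAF2
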