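import Cfsg.Agent.Lib.H69.TwoComp

/-!
Core balance, part 1: climbing with a group of order prime to `p` centralized by a `p`-group.
-/

set_option autoImplicit false
set_option linter.unusedSectionVars false
set_option linter.style.haveILetI false

open Subgroup Cfsg H26.Basic H26.LocalFitting H26.OPPrime H26.PComponents H1.Coprime H1.Coprime2
open H38.Basic H37.Comm
open scoped commutatorElement

universe u

namespace H69.CoreBal

variable {X : Type u} [Group X] [Finite X]

theorem climb {p : ℕ} [Fact p.Prime] {E M : Subgroup X} [hE : E.Normal] [hMn : M.Normal]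
    (hM : ∀ U ≤ E, (Nat.card U).Coprime p → U ≤ M) (n : ℕ) :
    ∀ T W : Subgroup X, Nat.card X ≤ n + Nat.card T → IsPGroup p T → (Nat.card W).Coprime p →
      W ≤ centralizer (T : Set X) → E ⊓ centralizer (T : Set X) ≤ normalizer (W : Set X) →
      ∃ S W' : Subgroup X, IsSyl p S E ∧ (Nat.card W').Coprime p ∧ W' ≤ centralizer (S : Set X) ∧
        W ≤ M ⊔ W' := by
  induction n using Nat.strong_induction_on with
  | _ n ih =>
  intro T W hn hT hWc hWT hDW
  have hTN : T ≤ normalizer (T : Set X) := Subgroup.le_normalizer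
  by_cases hbig : ∀ S₀ : Subgroup X, IsPGroup p S₀ → S₀ ≤ E → S₀ ≤ normalizer (T : Set X) → S₀ ≤ T
  · obtain ⟨R, hR, hTR⟩ := exists_isSyl_ge (p := p) hT (le_top : T ≤ ⊤)
    have hS : IsSyl p (R ⊓ E) E := hR.inf_normal le_top (by
      rw [Subgroup.normalizer_eq_top])
    set S := R ⊓ E with hSdef
    have hRS : R ≤ normalizer (S : Set X) :=
      le_normalizer_inf Subgroup.le_normalizer (by rw [Subgroup.normalizer_eq_top]; exact le_top)
    have hST : S ≤ T := by
      by_contra hST
      have hRp : IsPGroup p (T ⊔ S : Subgroup X) := hR.2.1.to_le (sup_le hTR inf_le_left)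
      have hlt : T < T ⊔ S := lt_of_le_of_ne le_sup_left fun h => hST (by rw [h]; exact le_sup_right)
      obtain ⟨x, hx, hxT⟩ := SetLike.exists_of_lt (lt_inf_normalizer hRp hlt)
      obtain ⟨t, ht, s, hs, rfl⟩ := (mem_sup_of_le_normalizer (hTR.trans hRS)).mp hx.1
      have hsN : s ∈ normalizer (T : Set X) := by
        have := mul_mem (inv_mem (hTN ht)) (mem_inf.mp hx).2
        rwa [inv_mul_cancel_left] at this
      have hsT := hbig (zpowers s) (hS.2.1.to_le (zpowers_le.mpr hs)) (zpowers_le.mpr hs.2)
        (zpowers_le.mpr hsN) (mem_zpowers s)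
      exact hxT (T.mul_mem ht hsT)
    exact ⟨S, W, hS, hWc, hWT.trans (centralizer_le (show (S : Set X) ⊆ T from hST)), le_sup_right⟩
  · push Not at hbig
    obtain ⟨S₀, h1, h2, h3, h4⟩ := hbig
    set D := E ⊓ centralizer (T : Set X) with hD
    set N := E ⊓ normalizer (T : Set X) with hN
    set U := W ⊔ D with hU
    have hUT : U ≤ centralizer (T : Set X) := sup_le hWT inf_le_right
    set V := ppc p U with hV
    have hVU : V ≤ U := ppc_le p U
    have hVc : (Nat.card V).Coprime p := card_ppc p U
    have hWV : W ≤ V := le_ppc le_sup_left (sup_le Subgroup.le_normalizer hDW) hWc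
    have hWTc : ⁅W, T⁆ = ⊥ := Subgroup.commutator_eq_bot_iff_le_centralizer.mpr hWT
    have hND : N ≤ normalizer (D : Set X) := by
      refine le_normalizer_inf ?_ ?_
      · rw [Subgroup.normalizer_eq_top]; exact le_top
      · exact le_normalizer_centralizer inf_le_right
    have hNW : ⁅N, W⁆ ≤ D := by
      refine le_inf ?_ ?_
      · exact (Subgroup.commutator_mono inf_le_left le_rfl).trans (Subgroup.commutator_le_left E W)
      · rw [← Subgroup.commutator_eq_bot_iff_le_centralizer]
        exact H69.TwoComp.three hWTc inf_le_right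
    have hNU : N ≤ normalizer (U : Set X) := by
      apply le_normalizer_of_conj_mem
      intro a ha k hk
      have hDU : D ≤ U := le_sup_right
      have hle : U ≤ U.comap (MulAut.conj a).toMonoidHom := by
        rw [hU]
        refine sup_le ?_ ?_
        · intro w hw
          rw [mem_comap]
          change a * w * a⁻¹ ∈ W ⊔ D
          have e : a * w * a⁻¹ = ⁅a, w⁆ * w := by rw [commutatorElement_def]; group
          rw [e]
          exact mul_mem (mem_sup_right (hNW (Subgroup.commutator_mem_commutator ha hw))) (mem_sup_left hw)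
        · intro d hd
          rw [mem_comap]
          change a * d * a⁻¹ ∈ W ⊔ D
          exact mem_sup_right (conj_mem_of_le_normalizer hND ha hd)
      exact hle hk
    have hNV : N ≤ normalizer (V : Set X) := hNU.trans (normalizer_le_normalizer_ppc p U)
    have hS₀N : S₀ ≤ N := le_inf h2 h3
    have hT1 : IsPGroup p (T ⊔ S₀ : Subgroup X) := hT.to_sup_of_normal_left' h1 h3
    set W₁ := V ⊓ centralizer (S₀ : Set X) with hW₁
    have hW₁c : (Nat.card W₁).Coprime p :=
      Nat.Coprime.coprime_dvd_left (card_dvd_of_le inf_le_left) hVc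
    have hW₁T : W₁ ≤ centralizer ((T ⊔ S₀ : Subgroup X) : Set X) := by
      rw [← Subgroup.commutator_eq_bot_iff_le_centralizer, Subgroup.commutator_comm,
        Subgroup.commutator_eq_bot_iff_le_centralizer]
      refine sup_le ?_ ?_
      · rw [← Subgroup.commutator_eq_bot_iff_le_centralizer, Subgroup.commutator_comm,
          Subgroup.commutator_eq_bot_iff_le_centralizer]
        exact inf_le_left.trans (hVU.trans hUT)
      · rw [← Subgroup.commutator_eq_bot_iff_le_centralizer, Subgroup.commutator_comm,
          Subgroup.commutator_eq_bot_iff_le_centralizer]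
        exact inf_le_right
    have hCT : centralizer ((T ⊔ S₀ : Subgroup X) : Set X) ≤ centralizer (T : Set X) :=
      centralizer_le (show (T : Set X) ⊆ (T ⊔ S₀ : Subgroup X) from (le_sup_left : T ≤ T ⊔ S₀))
    have hCS : centralizer ((T ⊔ S₀ : Subgroup X) : Set X) ≤ centralizer (S₀ : Set X) :=
      centralizer_le (show (S₀ : Set X) ⊆ (T ⊔ S₀ : Subgroup X) from (le_sup_right : S₀ ≤ T ⊔ S₀))
    have hDW₁ : E ⊓ centralizer ((T ⊔ S₀ : Subgroup X) : Set X) ≤ normalizer (W₁ : Set X) := by
      refine le_normalizer_inf ?_ ?_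
      · exact (inf_le_inf_left E (hCT.trans (centralizer_le_normalizer _))).trans hNV
      · exact inf_le_right.trans (hCS.trans Subgroup.le_normalizer)
    have hVW₁ : V ≤ M ⊔ W₁ := by
      have h5 := commutator_sup_centralizer S₀ V (hS₀N.trans hNV)
        (H1.Cores.coprime_card_of_isPGroup h1 hVc) (Or.inl (by
          have := h1.isNilpotent
          infer_instance))
      rw [← h5]
      refine sup_le_sup ?_ le_rfl
      apply hM
      · exact (Subgroup.commutator_mono le_rfl h2).trans (Subgroup.commutator_le_right V E)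
      · exact Nat.Coprime.coprime_dvd_left (card_dvd_of_le
          (H1.Coprime2.commutator_le_left (hS₀N.trans hNV))) hVc
    have hlt : Nat.card T < Nat.card (T ⊔ S₀ : Subgroup X) := by
      refine lt_of_le_of_ne (Subgroup.card_le_of_le le_sup_left) fun h => h4 ?_
      rw [Subgroup.eq_of_le_of_card_ge (le_sup_left : T ≤ T ⊔ S₀) h.ge]
      exact le_sup_right
    have hle : Nat.card (T ⊔ S₀ : Subgroup X) ≤ Nat.card X := Subgroup.card_le_card_group _
    obtain ⟨S, W', hS, hW'c, hW'S, hW₁W'⟩ := ih (Nat.card X - Nat.card (T ⊔ S₀ : Subgroup X)) (by omega) _ W₁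
      (by omega) hT1 hW₁c hW₁T hDW₁
    exact ⟨S, W', hS, hW'c, hW'S, hWV.trans (hVW₁.trans (sup_le le_sup_left hW₁W'))⟩

end H69.CoreBal
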