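import Cfsg.Agent.Lib.H69.CoreBal1
import Cfsg.Agent.Lib.H28.ELayer
import Cfsg.Agent.S0227

/-!
Core balance, part 2: the centralizer of a Sylow `2`-subgroup of `L_{2'}(X) O_{2',2}(X)` is `2`-nilpotent.
-/

set_option autoImplicit false
set_option linter.unusedSectionVars false
set_option linter.style.haveILetI false

open Subgroup Cfsg
open scoped commutatorElement

universe u

namespace H69.CoreBal

/-- elements of order prime to `p` lie in the `p'`-core, through a homomorphism with central kernel -/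
theorem mem_core_of {p : ℕ} [hp : Fact p.Prime] {C A : Type u} [Group C] [Finite C] [Group A] (f : C →* A)
    (NA : Subgroup A) [hNn : NA.Normal] (hNA : (Nat.card NA).Coprime p)
    (hodd : ∀ w : C, (orderOf w).Coprime p → f w ∈ NA)
    (hker : ∀ z, f z = 1 → (∀ c, ⁅z, c⁆ ∈ pPrimeCore p C) ∧ ∃ k : ℕ, z ^ p ^ k ∈ pPrimeCore p C)
    (w : C) (hw : (orderOf w).Coprime p) : w ∈ pPrimeCore p C := by
  set O := pPrimeCore p C with hO
  have hOn : O.Normal := inferInstance
  set π := QuotientGroup.mk' O with hπ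
  have hπs : Function.Surjective π := QuotientGroup.mk'_surjective O
  have hOb : pPrimeCore p (C ⧸ O) = ⊥ := H1.Cores.pPrimeCore_quotient_pPrimeCore p
  set Z := f.ker.map π with hZ
  have hZn : Z.Normal := (inferInstance : f.ker.Normal).map π hπs
  have hZc : Z ≤ center (C ⧸ O) := by
    rintro _ ⟨z, hz, rfl⟩
    rw [mem_center_iff]
    intro g
    obtain ⟨c, rfl⟩ := hπs g
    have h1 := (hker z hz).1 c
    have h2 : π ⁅z, c⁆ = 1 := (QuotientGroup.eq_one_iff _).mpr h1
    rw [map_commutatorElement, commutatorElement_eq_one_iff_mul_comm] at h2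
    exact h2.symm
  have hZp : IsPGroup p Z := by
    rintro ⟨_, ⟨z, hz, rfl⟩⟩
    obtain ⟨k, hk⟩ := (hker z hz).2
    refine ⟨k, Subtype.ext ?_⟩
    have h2 : π (z ^ p ^ k) = 1 := (QuotientGroup.eq_one_iff _).mpr hk
    rw [map_pow] at h2
    exact h2
  have h1 := H26.ZStarUse.pPrimeCore_quotient_central hOb Z hZc hZp
  set ρ := (QuotientGroup.mk' Z).comp π with hρ
  have hρs : Function.Surjective ρ := (QuotientGroup.mk'_surjective Z).comp hπs
  set K₁ := NA.comap f with hK₁
  have hK₁n : (K₁.map ρ).Normal := (inferInstance : K₁.Normal).map ρ hρs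
  have hker2 : f.ker ≤ ρ.ker := by
    intro z hz
    rw [MonoidHom.mem_ker]
    change QuotientGroup.mk' Z (π z) = 1
    exact (QuotientGroup.eq_one_iff _).mpr ⟨z, hz, rfl⟩
  have h2 : (Nat.card (K₁.map ρ)).Coprime p := by
    have e1 : Nat.card (K₁.map ρ) = ρ.ker.relIndex K₁ := (Subgroup.relIndex_ker ρ (K := K₁)).symm
    have e2 : Nat.card (K₁.map f) = f.ker.relIndex K₁ := (Subgroup.relIndex_ker f (K := K₁)).symm
    rw [e1]
    refine Nat.Coprime.coprime_dvd_left (Subgroup.relIndex_dvd_of_le_left K₁ hker2) ?_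
    rw [← e2]
    refine Nat.Coprime.coprime_dvd_left ?_ hNA
    exact Subgroup.card_dvd_of_le (Subgroup.map_comap_le f NA)
  have h3 : K₁.map ρ ≤ ⊥ := by
    rw [← h1]
    exact H1.Cores.le_pPrimeCore hK₁n h2
  have h4 : ρ w ∈ (⊥ : Subgroup ((C ⧸ O) ⧸ Z)) := h3 ⟨w, hodd w hw, rfl⟩
  have h5 : π w ∈ Z := (QuotientGroup.eq_one_iff _).mp (Subgroup.mem_bot.mp h4)
  obtain ⟨k, hk⟩ := hZp ⟨π w, h5⟩
  have h6 : (π w) ^ p ^ k = 1 := by simpa using congrArg Subtype.val hk
  have h7 : orderOf (π w) ∣ 1 := by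
    have h8 : Nat.Coprime (orderOf w) (p ^ k) := Nat.Coprime.pow_right k hw
    rw [← h8]
    exact Nat.dvd_gcd (orderOf_map_dvd π w) (orderOf_dvd_of_pow_eq_one h6)
  have h9 : π w = 1 := orderOf_eq_one_iff.mp (Nat.dvd_one.mp h7)
  exact (QuotientGroup.eq_one_iff _).mp h9

end H69.CoreBal
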