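import Cfsg.Agent.Lib.H69.CoreBal2

/-!
Core balance, part 3.
-/

set_option autoImplicit false
set_option linter.unusedSectionVars false
set_option linter.style.haveILetI false

open Subgroup Cfsg
open scoped commutatorElement

universe u

namespace H69.CoreBal

variable {X : Type u} [Group X] [Finite X]

local instance instFactTwo : Fact (Nat.Prime 2) := ⟨Nat.prime_two⟩

omit [Finite X] in
theorem mem_of_pow_mem' {H : Subgroup X} {x : X} {m n : ℕ} (hm : x ^ m ∈ H) (hn : x ^ n ∈ H)
    (h : Nat.Coprime m n) : x ∈ H := by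
  obtain ⟨a, b, hab⟩ := Nat.isCoprime_iff_coprime.mpr h
  have h1 : x = (x ^ m) ^ a * (x ^ n) ^ b := by
    rw [← zpow_natCast, ← zpow_natCast, ← zpow_mul, ← zpow_mul, ← zpow_add, mul_comm (m : ℤ) a,
      mul_comm (n : ℤ) b, hab, zpow_one]
  rw [h1]
  exact mul_mem (zpow_mem hm a) (zpow_mem hn b)

open H28.ELayer in
theorem isSyl_map {N S Y : Subgroup X} [N.Normal] (hNY : N ≤ Y) (hS : H28.RelSyl.IsSyl 2 S Y) :
    H28.RelSyl.IsSyl 2 (S.map (QuotientGroup.mk' N)) (Y.map (QuotientGroup.mk' N)) := by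
  refine ⟨Subgroup.map_mono hS.1, hS.2.1.map _, fun h => hS.2.2 ?_⟩
  rw [Subgroup.relIndex_map_map, QuotientGroup.ker_mk', sup_eq_left.mpr hNY] at h
  exact h.trans (Subgroup.relIndex_dvd_of_le_left Y le_sup_left)

theorem map_Y : (H28.ELayer.Y X).map (QuotientGroup.mk' (pPrimeCore 2 X)) =
    layer (X ⧸ pPrimeCore 2 X) ⊔ pCore 2 (X ⧸ pPrimeCore 2 X) := by
  rw [Subgroup.map_sup]
  congr 1
  · exact H26.PComponents.map_pLayer 2
  · unfold pPrimePCore
    exact Subgroup.map_comap_eq_self_of_surjective (QuotientGroup.mk'_surjective _) _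

theorem core_le_Y : pPrimeCore 2 X ≤ H28.ELayer.Y X := by
  refine le_trans ?_ le_sup_right
  unfold pPrimePCore
  intro x hx
  rw [mem_comap]
  have : QuotientGroup.mk' (pPrimeCore 2 X) x = 1 := by
    rw [← MonoidHom.mem_ker, QuotientGroup.ker_mk']; exact hx
  rw [this]; exact one_mem _

/-- the centralizer of a Sylow `2`-subgroup of `L_{2'}(X) O_{2',2}(X)` is `2`-nilpotent -/
theorem odd_mem {S : Subgroup X} (hS : H28.RelSyl.IsSyl 2 S (H28.ELayer.Y X)) {w : X}
    (hwS : w ∈ centralizer (S : Set X)) (hw : (orderOf w).Coprime 2) :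
    w ∈ H28.ELayer.OO (centralizer (S : Set X)) := by
  classical
  set C := centralizer (S : Set X) with hC
  set O := pPrimeCore 2 X with hO
  have hOn : O.Normal := inferInstance
  set π := QuotientGroup.mk' O with hπ
  have hπs : Function.Surjective π := QuotientGroup.mk'_surjective O
  have hOb : pPrimeCore 2 (X ⧸ O) = ⊥ := H1.Cores.pPrimeCore_quotient_pPrimeCore 2
  set Eb := layer (X ⧸ O) with hEb
  have hEbn : Eb.Normal := inferInstance
  have hSb : H28.RelSyl.IsSyl 2 (S.map π) ((H28.ELayer.Y X).map π) := isSyl_map core_le_Y hS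
  rw [map_Y] at hSb
  have hpcn : (pCore 2 (X ⧸ O)).Normal := inferInstance
  have hsb : H28.RelSyl.IsSyl 2 (S.map π ⊓ Eb) Eb :=
    hSb.inf_normal (by rw [Subgroup.normalizer_eq_top]; exact le_top) le_sup_left
  -- `O_2` is contained in the image of `S`
  have hpS : pCore 2 (X ⧸ O) ≤ S.map π := by
    have h1 : IsPGroup 2 (S.map π ⊔ pCore 2 (X ⧸ O) : Subgroup (X ⧸ O)) :=
      hSb.isPGroup.to_sup_of_normal_right (H1.Cores.isPGroup_pCore 2)
    have h2 := hSb.eq_of_le h1 le_sup_left (sup_le hSb.le le_sup_right)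
    rw [← h2]; exact le_sup_right
  have hcomm : ∀ c ∈ C, ∀ y ∈ S.map π, π c * y = y * π c := by
    rintro c hc _ ⟨s, hs, rfl⟩
    rw [← map_mul, ← map_mul, mem_centralizer_iff.mp hc s hs]
  -- the Sylow subgroup of the layer
  let S' : Sylow 2 Eb := hsb.toSylow
  have hS' : ∀ s : Eb, s ∈ S' → (s : X ⧸ O) ∈ S.map π := fun s hs => (mem_inf.mp (show (s : X ⧸ O) ∈
    S.map π ⊓ Eb from hs)).1
  have hOE : ∀ N : Subgroup Eb, N.Normal → Odd (Nat.card N) → N = ⊥ := by
    intro N hN hNo
    have h1 : N ≤ pPrimeCore 2 Eb := H1.Cores.le_pPrimeCore hN (Nat.coprime_two_right.mpr hNo)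
    have h2 := H1.Cores.map_subtype_pPrimeCore 2 Eb
    rw [hOb, inf_bot_eq] at h2
    have h3 := (Subgroup.map_eq_bot_iff_of_injective _ Eb.subtype_injective).mp h2
    rwa [h3, le_bot_iff] at h1
  let CA : Subgroup (MulAut Eb) :=
    { carrier := {φ | ∀ s : Eb, s ∈ S' → φ s = s}
      mul_mem' := by
        intro φ ψ hφ hψ s hs
        rw [MulAut.mul_apply, hψ s hs, hφ s hs]
      one_mem' := fun s _ => rfl
      inv_mem' := by
        intro φ hφ s hs
        rw [MulAut.inv_apply, MulEquiv.symm_apply_eq]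
        exact (hφ s hs).symm }
  obtain ⟨h1, -⟩ := Cfsg.Agent.S0227.result hOE S' CA (fun φ => Iff.rfl)
  obtain ⟨T⟩ := (inferInstance : Nonempty (Sylow 2 CA))
  obtain ⟨-, NA, hNAn, hNAc⟩ := h1 T
  have hNAodd : (Nat.card NA).Coprime 2 := by
    have h2 := hNAc.card_mul_card
    have h3 := Subgroup.card_mul_index (T : Subgroup CA)
    have h4 : Nat.card NA = (T : Subgroup CA).index := by
      have h5 : Nat.card (T : Subgroup CA) * Nat.card NA = Nat.card (T : Subgroup CA) *
          (T : Subgroup CA).index := by rw [h3, ← h2, mul_comm]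
      exact Nat.eq_of_mul_eq_mul_left Nat.card_pos h5
    rw [h4, Nat.coprime_comm, Nat.Prime.coprime_iff_not_dvd Nat.prime_two]
    exact T.not_dvd_index
  -- the homomorphism
  let f₀ : C →* MulAut Eb := (MulAut.conjNormal (H := Eb)).comp (π.comp C.subtype)
  have hf₀ : ∀ c : C, f₀ c ∈ CA := by
    intro c s hs
    apply Subtype.ext
    change π (c : X) * (s : X ⧸ O) * (π (c : X))⁻¹ = s
    rw [hcomm c c.2 _ (hS' s hs), mul_inv_cancel_right]
  let f : C →* CA := f₀.codRestrict CA hf₀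
  have hfodd : ∀ w : C, (orderOf w).Coprime 2 → f w ∈ NA := by
    intro w hw
    have h2 : (f w) ^ NA.index ∈ NA := Subgroup.pow_index_mem NA (f w)
    have h3 : NA.index = Nat.card (T : Subgroup CA) := by
      have h4 := hNAc.card_mul_card
      have h5 := Subgroup.card_mul_index NA
      exact Nat.eq_of_mul_eq_mul_left Nat.card_pos (h5.trans h4.symm)
    obtain ⟨k, hk⟩ := IsPGroup.iff_card.mp T.isPGroup'
    rw [h3, hk] at h2
    have h6 : (orderOf (f w)).Coprime (2 ^ k) :=
      Nat.Coprime.pow_right k (Nat.Coprime.coprime_dvd_left (orderOf_map_dvd f w) hw)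
    exact mem_of_pow_mem' (n := orderOf (f w)) h2 (by rw [pow_orderOf_eq_one]; exact one_mem _) h6.symm
  have hker : ∀ z, f z = 1 → (∀ c, ⁅z, c⁆ ∈ pPrimeCore 2 C) ∧ ∃ k : ℕ, z ^ 2 ^ k ∈ pPrimeCore 2 C := by
    intro z hz
    -- the part of `O(X)` in `C`
    have hOC : ∀ y : C, (y : X) ∈ O → y ∈ pPrimeCore 2 C := by
      intro y hy
      have h2 : O.subgroupOf C ≤ pPrimeCore 2 C := by
        apply H1.Cores.le_pPrimeCore inferInstance
        have h3 := Subgroup.card_dvd_of_le (inf_le_left : O ⊓ C ≤ O)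
        rw [← subgroupOf_map_subtype, H28.RelSyl.card_map_subtype] at h3
        exact Nat.Coprime.coprime_dvd_left h3 (H1.Cores.coprime_card_pPrimeCore 2)
      exact h2 hy
    have hzE : π (z : X) ∈ centralizer (Eb : Set (X ⧸ O)) := by
      rw [mem_centralizer_iff]
      intro y hy
      have h2 : f₀ z = 1 := congrArg Subtype.val hz
      have h3 : (f₀ z) ⟨y, hy⟩ = ⟨y, hy⟩ := by rw [h2]; rfl
      have h4 : π (z : X) * y * (π (z : X))⁻¹ = y := congrArg Subtype.val h3
      exact (mul_inv_eq_iff_eq_mul.mp h4).symm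
    have hzp : π (z : X) ∈ centralizer (pCore 2 (X ⧸ O) : Set (X ⧸ O)) := by
      rw [mem_centralizer_iff]
      intro y hy
      exact (hcomm z z.2 y (hpS hy)).symm
    have hzF : π (z : X) ∈ centralizer (generalizedFittingSubgroup (X ⧸ O) : Set (X ⧸ O)) := by
      rw [H26.GenFitting.gFitting_eq_of_pPrimeCore_eq_bot hOb, ← Subgroup.zpowers_le,
        Subgroup.le_centralizer_iff]
      refine sup_le ?_ ?_
      · rw [Subgroup.le_centralizer_iff, Subgroup.zpowers_le]; exact hzE
      · rw [Subgroup.le_centralizer_iff, Subgroup.zpowers_le]; exact hzp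
    have hzpc : π (z : X) ∈ pCore 2 (X ⧸ O) := by
      rw [← H1.Cores.fittingSubgroup_eq_pCore_of 2 hOb]
      set F := centralizer (generalizedFittingSubgroup (X ⧸ O) : Set (X ⧸ O)) with hF
      have h2 : F ≤ generalizedFittingSubgroup (X ⧸ O) := H26.Components.centralizer_gFitting_le
      have h3 : IsMulCommutative F := by
        rw [← Subgroup.le_centralizer_iff_isMulCommutative]
        exact Subgroup.centralizer_le h2
      have h4 : F.Normal := inferInstance
      have h5 : Group.IsNilpotent F := by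
        letI : CommGroup F := { (inferInstance : Group F) with mul_comm := h3.is_comm.comm }
        infer_instance
      exact (le_sSup (show F ∈ {N : Subgroup (X ⧸ O) | N.Normal ∧ Group.IsNilpotent N} from ⟨h4, h5⟩)) hzF
    refine ⟨fun c => hOC _ ?_, ?_⟩
    · rw [← QuotientGroup.eq_one_iff]
      change π ⁅(z : X), (c : X)⁆ = 1
      rw [map_commutatorElement, commutatorElement_eq_one_iff_mul_comm]
      exact (hcomm c c.2 _ (hpS hzpc)).symm
    · obtain ⟨k, hk⟩ := (H1.Cores.isPGroup_pCore (G := X ⧸ O) 2) ⟨π (z : X), hzpc⟩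
      refine ⟨k, hOC _ ?_⟩
      rw [← QuotientGroup.eq_one_iff]
      change π ((z : X) ^ 2 ^ k) = 1
      rw [map_pow]
      simpa using congrArg Subtype.val hk
  have h2 := mem_core_of f NA hNAodd hfodd hker ⟨w, hwS⟩ (by rwa [Subgroup.orderOf_mk])
  exact ⟨⟨w, hwS⟩, h2, rfl⟩

/-- odd order subgroups of `L_{2'}(X) O_{2',2}(X)` -/
theorem le_of_odd {U : Subgroup X} (hU : U ≤ H28.ELayer.Y X) (hUo : (Nat.card U).Coprime 2) :
    U ≤ pLayer 2 X ⊔ oddCore X := by
  have hn1 : (pLayer 2 X).Normal := H26.PComponents.pLayer_normal 2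
  have hn2 : (oddCore X).Normal := H1.Cores.pPrimeCore_normal 2
  obtain ⟨k, hk⟩ := H28.ELayer.index_pow (X := X)
  set M := pLayer 2 X ⊔ oddCore X with hM
  have hMn : M.Normal := inferInstance
  intro u hu
  have h1 : u ^ (M.relIndex (H28.ELayer.Y X)) ∈ M := by
    have h2 := Subgroup.pow_index_mem (M.subgroupOf (H28.ELayer.Y X)) ⟨u, hU hu⟩
    exact h2
  have h3 : (orderOf u).Coprime (2 ^ k) := by
    refine Nat.Coprime.pow_right k (Nat.Coprime.coprime_dvd_left ?_ hUo)
    have := orderOf_dvd_natCard (⟨u, hu⟩ : U)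
    rwa [Subgroup.orderOf_mk] at this
  exact mem_of_pow_mem' (n := orderOf u) h1 (by rw [pow_orderOf_eq_one]; exact one_mem _)
    (Nat.Coprime.coprime_dvd_right hk h3).symm

/-- **core balance** for the prime `2` -/
theorem core_balance {R : Subgroup X} (hR : IsPGroup 2 R) :
    H28.ELayer.OO (centralizer (R : Set X)) ≤ extendedTwoLayer X := by
  have hn1 : (pLayer 2 X).Normal := H26.PComponents.pLayer_normal 2
  have hn2 : (oddCore X).Normal := H1.Cores.pPrimeCore_normal 2
  have hYn : (H28.ELayer.Y X).Normal := H28.ELayer.Y_normal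
  obtain ⟨S, W', hS, hW'c, hW'S, hle⟩ := climb (p := 2) (E := H28.ELayer.Y X) (M := pLayer 2 X ⊔ oddCore X)
    (fun U hU hUo => le_of_odd hU hUo) (Nat.card X) R (H28.ELayer.OO (centralizer (R : Set X)))
    (Nat.le_add_right _ _) hR (H28.ELayer.coprime_OO _) (H28.ELayer.OO_le _)
    (inf_le_right.trans (H28.ELayer.le_normalizer_OO _))
  refine hle.trans (sup_le ?_ ?_)
  · rw [H28.ELayer.def_eq]; exact le_sup_left
  · have hS' : H28.RelSyl.IsSyl 2 S (H28.ELayer.Y X) := hS
    refine le_trans ?_ (H28.ELayer.OO_le_ext hS')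
    intro w hw
    refine odd_mem hS' (hW'S hw) (Nat.Coprime.coprime_dvd_left ?_ hW'c)
    have := orderOf_dvd_natCard (⟨w, hw⟩ : W')
    rwa [Subgroup.orderOf_mk] at this

end H69.CoreBal
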