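import Cfsg.Agent.Lib.H69.CoreBal3

/-!
Core balance, part 4: the extended `2`-layer of a normal subgroup of a centralizer of a `2`-group.
-/

set_option autoImplicit false
set_option linter.unusedSectionVars false
set_option linter.style.haveILetI false

open Subgroup Cfsg
open scoped commutatorElement

universe u

namespace H69.CoreBal

variable {X : Type u} [Group X] [Finite X]

local instance instFactTwo4 : Fact (Nat.Prime 2) := ⟨Nat.prime_two⟩

open H28.ELayer

theorem map_OO_le {D₀ : Type u} [Group D₀] [Finite D₀] {f : D₀ →* X} (hf : Function.Injective f)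
    (K : Subgroup D₀) : (OO K).map f ≤ OO (K.map f) := by
  apply le_OO (Subgroup.map_mono (OO_le K))
  · rintro _ ⟨k, hk, rfl⟩
    have h1 := le_normalizer_OO K hk
    rw [Subgroup.mem_normalizer_iff] at h1 ⊢
    intro x
    constructor
    · rintro ⟨y, hy, rfl⟩
      exact ⟨k * y * k⁻¹, (h1 y).mp hy, by simp⟩
    · rintro ⟨y, hy, hyx⟩
      refine ⟨k⁻¹ * y * k, ?_, ?_⟩
      · rw [SetLike.mem_coe, h1]
        have e : k * (k⁻¹ * y * k) * k⁻¹ = y := by group
        rwa [e]
      · rw [map_mul, map_mul, map_inv, hyx]; group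
  · rw [Subgroup.card_map_of_injective hf]
    exact coprime_OO K

theorem OO_mono_of_normal {D H : Subgroup X} (hDH : D ≤ H) (hn : H ≤ normalizer (D : Set X)) :
    OO D ≤ OO H :=
  le_OO ((OO_le D).trans hDH) (hn.trans (normalizer_le_normalizer_OO D)) (coprime_OO D)

/-- the extended layer of a normal subgroup of the centralizer of a `2`-group -/
theorem map_ext_le {D₀ : Type u} [Group D₀] [Finite D₀] {f : D₀ →* X} (hf : Function.Injective f)
    {R : Subgroup X} (hR : IsPGroup 2 R) (hD : f.range ≤ centralizer (R : Set X))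
    (hn : centralizer (R : Set X) ≤ normalizer (f.range : Set X)) :
    (extendedTwoLayer D₀).map f ≤ extendedTwoLayer X := by
  rw [def_eq, Subgroup.map_sup, Subgroup.map_sup, Subgroup.map_iSup]
  refine sup_le (sup_le ?_ ?_) (iSup_le fun T => ?_)
  · -- the `2`-layer
    rw [pLayer, sSup_eq_iSup', Subgroup.map_iSup]
    refine iSup_le fun K => ?_
    have hK : IsPComponent 2 (K : Subgroup D₀) := K.2
    obtain ⟨h1, h2, h3⟩ := H26.PComponents.isPComponent_iff_intrinsic.mp hK
    have hPC : H27.LBalTwo.PC f.range ((K : Subgroup D₀).map f) := by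
      refine ⟨?_, ?_, ?_, ?_⟩
      · rintro _ ⟨k, -, rfl⟩
        exact ⟨k, rfl⟩
      · have h4 := (H26.Subnormal.map_mulEquiv_iff (MonoidHom.ofInjective hf)).mpr h1
        have h5 : (K : Subgroup D₀).map ((MonoidHom.ofInjective hf : D₀ ≃* f.range) : D₀ →* f.range) =
            ((K : Subgroup D₀).map f).subgroupOf f.range := by
          ext y
          constructor
          · rintro ⟨k, hk, rfl⟩
            exact ⟨k, hk, rfl⟩
          · rintro ⟨k, hk, hky⟩
            exact ⟨k, hk, Subtype.ext hky⟩
        rwa [h5] at h4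
      · exact (H26.PComponents.map_equiv_quasisimple_quotient 2
          ((K : Subgroup D₀).equivMapOfInjective f hf)).mp h2
      · rw [← H26.OPPrime.map_opp_of_injective 2 hf, h3]
    have hPC' := hPC.mono_normal hD hn
    refine le_trans (hPC'.le_pLayer H69.TwoComp.zhyp hR) ?_
    rw [def_eq]
    exact le_sup_left.trans le_sup_left
  · -- the odd core
    have h1 : (oddCore D₀).map f ≤ OO f.range := by
      apply le_OO
      · rintro _ ⟨k, -, rfl⟩
        exact ⟨k, rfl⟩
      · rintro _ ⟨k, rfl⟩
        have hOn : (oddCore D₀).Normal := H1.Cores.pPrimeCore_normal 2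
        rw [Subgroup.mem_normalizer_iff]
        intro x
        constructor
        · rintro ⟨y, hy, rfl⟩
          exact ⟨k * y * k⁻¹, hOn.conj_mem y hy k, by simp⟩
        · rintro ⟨y, hy, hyx⟩
          refine ⟨k⁻¹ * y * k, ?_, ?_⟩
          · have := hOn.conj_mem y hy k⁻¹
            rwa [inv_inv] at this
          · rw [map_mul, map_mul, map_inv, hyx]; group
      · rw [Subgroup.card_map_of_injective hf]
        exact H1.Cores.coprime_card_pPrimeCore 2
    exact h1.trans ((OO_mono_of_normal hD hn).trans (core_balance hR))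
  · -- the core of the centralizer of a Sylow subgroup
    set T₀ := (T : Subgroup ↥(Y D₀)).map (Y D₀).subtype with hT₀
    have hT₀p : IsPGroup 2 (T₀.map f) := (T.isPGroup'.map _).map _
    have hle : T₀.map f ≤ centralizer (R : Set X) := by
      refine le_trans ?_ hD
      rintro _ ⟨k, -, rfl⟩
      exact ⟨k, rfl⟩
    have hRT : IsPGroup 2 (R ⊔ T₀.map f : Subgroup X) :=
      hR.to_sup_of_normal_left' hT₀p (hle.trans (centralizer_le_normalizer _))
    have h1 : (centralizer (T₀ : Set D₀)).map f = f.range ⊓ centralizer ((T₀.map f : Subgroup X) : Set X) := by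
      ext y
      constructor
      · rintro ⟨c, hc, rfl⟩
        refine mem_inf.mpr ⟨⟨c, rfl⟩, ?_⟩
        rw [mem_centralizer_iff]
        rintro _ ⟨t, ht, rfl⟩
        rw [← map_mul, ← map_mul, mem_centralizer_iff.mp hc t ht]
      · rintro ⟨⟨c, rfl⟩, hc⟩
        refine ⟨c, ?_, rfl⟩
        rw [SetLike.mem_coe, mem_centralizer_iff]
        intro t ht
        apply hf
        rw [map_mul, map_mul]
        exact mem_centralizer_iff.mp hc (f t) ⟨t, ht, rfl⟩
    refine (map_OO_le hf _).trans ?_
    rw [h1]
    refine le_trans (OO_mono_of_normal (H := centralizer ((R ⊔ T₀.map f : Subgroup X) : Set X)) ?_ ?_)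
      (core_balance hRT)
    · rw [Subgroup.le_centralizer_iff]
      refine sup_le ?_ ?_
      · rw [Subgroup.le_centralizer_iff]; exact inf_le_left.trans hD
      · rw [Subgroup.le_centralizer_iff]; exact inf_le_right
    · have hCR : centralizer ((R ⊔ T₀.map f : Subgroup X) : Set X) ≤ centralizer (R : Set X) :=
        centralizer_le (show (R : Set X) ⊆ (R ⊔ T₀.map f : Subgroup X) from (le_sup_left : R ≤ R ⊔ T₀.map f))
      have hCT : centralizer ((R ⊔ T₀.map f : Subgroup X) : Set X) ≤
          centralizer ((T₀.map f : Subgroup X) : Set X) :=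
        centralizer_le (show ((T₀.map f : Subgroup X) : Set X) ⊆ (R ⊔ T₀.map f : Subgroup X) from
          (le_sup_right : T₀.map f ≤ R ⊔ T₀.map f))
      exact H1.Coprime2.le_normalizer_inf (hCR.trans hn) (hCT.trans Subgroup.le_normalizer)

end H69.CoreBal
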