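import Mathlib

/-!
Counting lemmas: sets which are unions of cosets; sums of class functions.
-/

set_option autoImplicit false

namespace H69.CountLemmas

/-- A finite set `W` such that each `g ∈ W` comes with a subgroup `A g` with `g * A g ⊆ W`, `A`
constant on `g * A g`, and `n ∣ |A g|`, has cardinality divisible by `n`. -/
theorem dvd_card_of_cosets {G : Type*} [Group G] [Finite G] (n : ℕ) (A : G → Subgroup G)
    (W : Set G) (h1 : ∀ g ∈ W, n ∣ Nat.card (A g)) (h2 : ∀ g ∈ W, ∀ a ∈ A g, g * a ∈ W ∧ A (g * a) = A g) :
    n ∣ Nat.card W := by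
  classical
  have key : ∀ (k : ℕ) (W : Set G), W.ncard = k → (∀ g ∈ W, n ∣ Nat.card (A g)) →
      (∀ g ∈ W, ∀ a ∈ A g, g * a ∈ W ∧ A (g * a) = A g) → n ∣ W.ncard := by
    intro k
    induction k using Nat.strong_induction_on with
    | _ k ih =>
      intro W hk h1 h2
      rcases W.eq_empty_or_nonempty with rfl | ⟨g, hg⟩
      · simp
      · set V : Set G := (fun a => g * a) '' (A g : Set G) with hV
        have hVW : V ⊆ W := by
          rintro _ ⟨a, ha, rfl⟩
          exact (h2 g hg a ha).1
        have hVcard : V.ncard = Nat.card (A g) := by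
          rw [hV, Set.ncard_image_of_injective _ (mul_right_injective g)]
          rfl
        have hsum : (W \ V).ncard + V.ncard = W.ncard := Set.ncard_sdiff_add_ncard_of_subset hVW
        have hpos : 0 < Nat.card (A g) := Nat.card_pos
        have h3 : n ∣ (W \ V).ncard := by
          apply ih (W \ V).ncard _ (W \ V) rfl
          · intro x hx
            exact h1 x hx.1
          · intro x hx a ha
            have h4 := h2 x hx.1 a ha
            refine ⟨⟨h4.1, ?_⟩, h4.2⟩
            rintro ⟨b, hb, hbx⟩
            apply hx.2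
            have h5 := (h2 g hg b hb).2
            have hbx' : g * b = x * a := hbx
            have h6 : A x = A g := by rw [← h4.2, ← hbx', h5]
            refine ⟨b * a⁻¹, Subgroup.mul_mem _ hb (Subgroup.inv_mem _ (h6 ▸ ha)), ?_⟩
            show g * (b * a⁻¹) = x
            rw [← mul_assoc, hbx', mul_inv_cancel_right]
          · omega
        rw [← hsum]
        exact dvd_add h3 (hVcard ▸ h1 g hg)
  exact key _ W rfl h1 h2

/-- If `F` is a class function with `s ∣ |G : C(y)| * F y` for all `y`, then `s ∣ ∑ F`. -/
theorem dvd_sum_of_classFun {G : Type*} [Group G] [Fintype G] (s : ℕ) (F : G → ℕ)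
    (hF : ∀ g y, F (g * y * g⁻¹) = F y)
    (h : ∀ y, s ∣ (Subgroup.centralizer ({y} : Set G)).index * F y) : s ∣ ∑ y, F y := by
  classical
  rw [← Finset.sum_fiberwise (s := Finset.univ) (g := fun y : G => ConjClasses.mk y) (f := F)]
  apply Finset.dvd_sum
  intro c _
  obtain ⟨y, rfl⟩ := ConjClasses.mk_surjective c
  have h1 : ∀ x ∈ Finset.univ.filter (fun x : G => ConjClasses.mk x = ConjClasses.mk y), F x = F y := by
    intro x hx
    rw [Finset.mem_filter] at hx
    obtain ⟨g, hg⟩ := isConj_iff.1 (ConjClasses.mk_eq_mk_iff_isConj.1 hx.2).symm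
    rw [← hg, hF]
  rw [Finset.sum_congr rfl h1, Finset.sum_const, smul_eq_mul]
  have h2 : (Finset.univ.filter (fun x : G => ConjClasses.mk x = ConjClasses.mk y)).card =
      (Subgroup.centralizer ({y} : Set G)).index := by
    have h3 : (Finset.univ.filter (fun x : G => ConjClasses.mk x = ConjClasses.mk y)).card =
        Nat.card (MulAction.orbit (ConjAct G) y) := by
      rw [Nat.card_eq_card_toFinset]
      congr 1
      ext x
      rw [Finset.mem_filter, Set.mem_toFinset, ConjAct.mem_orbit_conjAct,
        ConjClasses.mk_eq_mk_iff_isConj]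
      simp
    have h4 := MulAction.index_stabilizer (ConjAct G) y
    rw [h3]
    show (MulAction.orbit (ConjAct G) y).ncard = _
    rw [← h4, ConjAct.stabilizer_eq_centralizer]
    rfl
  rw [h2]
  exact h y

end H69.CountLemmas
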