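import Mathlib

/-!
2-Engel groups without elements of order 3 have class at most two; groups with a fixed point free
automorphism of order 3 are 2-Engel.
-/

set_option autoImplicit false

open scoped commutatorElement

namespace H69.Engel2

universe u

theorem ring_lemma {R : Type*} [Ring R] (Y Z : R) (hY : Y * Y = 0) (hZ : Z * Z = 0)
    (hYZ : (Y + Z + Y * Z) * (Y + Z + Y * Z) = 0) : Y * Z + Z * Y = 0 := by
  have h1 : Y * Z + Z * Y + Z * Y * Z + Y * Z * Y + Y * Z * Y * Z = 0 := by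
    calc Y * Z + Z * Y + Z * Y * Z + Y * Z * Y + Y * Z * Y * Z
        = (Y + Z + Y * Z) * (Y + Z + Y * Z) - (Y * Y) - (Y * Y) * Z - (Z * Z) - Y * (Z * Z) := by
          noncomm_ring
      _ = 0 := by rw [hYZ, hY, hZ]; simp
  have h2 : Y * Z * Y + Y * Z * Y * Z = 0 := by
    calc Y * Z * Y + Y * Z * Y * Z = Y * (Y * Z + Z * Y + Z * Y * Z + Y * Z * Y + Y * Z * Y * Z)
        - (Y * Y) * Z - (Y * Y) * Z * Y - (Y * Y) * Z * Y * Z := by noncomm_ring
      _ = 0 := by rw [h1, hY]; simp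
  have h3 : Y * Z + Z * Y + Z * Y * Z = 0 := by
    calc Y * Z + Z * Y + Z * Y * Z = (Y * Z + Z * Y + Z * Y * Z + Y * Z * Y + Y * Z * Y * Z)
        - (Y * Z * Y + Y * Z * Y * Z) := by noncomm_ring
      _ = 0 := by rw [h1, h2]; simp
  have h4 : Z * Y * Z = 0 := by
    calc Z * Y * Z = Z * (Y * Z + Z * Y + Z * Y * Z) - (Z * Z) * Y - (Z * Z) * Y * Z := by noncomm_ring
      _ = 0 := by rw [h3, hZ]; simp
  calc Y * Z + Z * Y = (Y * Z + Z * Y + Z * Y * Z) - Z * Y * Z := by noncomm_ring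
    _ = 0 := by rw [h3, h4]; simp

theorem action_lemma {K V : Type*} [Group K] [AddCommGroup V] [DistribMulAction K V]
    (h : ∀ (y : K) (v : V), y • (y • v - v) - (y • v - v) = 0) (y z : K) (v : V) :
    y • (z • v - v) - (z • v - v) = -(z • (y • v - v) - (y • v - v)) := by
  let ρ : K →* AddMonoid.End V := DistribMulAction.toAddMonoidEnd K V
  have hsq : ∀ y : K, (ρ y - 1) * (ρ y - 1) = 0 := by
    intro y
    ext v
    exact h y v
  have h1 : (ρ y - 1) + (ρ z - 1) + (ρ y - 1) * (ρ z - 1) = ρ (y * z) - 1 := by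
    rw [map_mul]
    noncomm_ring
  have h2 := ring_lemma (ρ y - 1) (ρ z - 1) (hsq y) (hsq z) (by rw [h1]; exact hsq _)
  have h3 := DFunLike.congr_fun h2 v
  have h4 : y • (z • v - v) - (z • v - v) + (z • (y • v - v) - (y • v - v)) = 0 := h3
  exact eq_neg_of_add_eq_zero_left h4

variable {K : Type u} [Group K] (h2 : ∀ a h : K, a * (h * a * h⁻¹) = (h * a * h⁻¹) * a)

include h2 in
theorem normalClosure_comm (x : K) : ∀ a ∈ Subgroup.normalClosure ({x} : Set K),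
    ∀ b ∈ Subgroup.normalClosure ({x} : Set K), a * b = b * a := by
  have h3 : ∀ a ∈ Group.conjugatesOfSet ({x} : Set K), ∀ b ∈ Group.conjugatesOfSet ({x} : Set K),
      a * b = b * a := by
    intro a ha b hb
    rw [Group.mem_conjugatesOfSet_iff] at ha hb
    obtain ⟨x1, hx1, ha⟩ := ha
    obtain ⟨x2, hx2, hb⟩ := hb
    rw [Set.mem_singleton_iff.1 hx1] at ha
    rw [Set.mem_singleton_iff.1 hx2] at hb
    obtain ⟨g, rfl⟩ := isConj_iff.1 ha
    obtain ⟨h, rfl⟩ := isConj_iff.1 hb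
    have h4 := h2 (g * x * g⁻¹) (h * g⁻¹)
    have h5 : h * g⁻¹ * (g * x * g⁻¹) * (h * g⁻¹)⁻¹ = h * x * h⁻¹ := by group
    rw [h5] at h4
    exact h4
  intro a ha b hb
  rw [Subgroup.normalClosure] at ha hb
  induction ha, hb using Subgroup.closure_induction₂ with
  | mem a b ha hb => exact h3 a ha b hb
  | one_left b hb => simp
  | one_right a ha => simp
  | mul_left a b c ha hb hc h1 h2 => rw [mul_assoc, h2, ← mul_assoc, h1, mul_assoc]
  | mul_right a b c ha hb hc h1 h2 => rw [← mul_assoc, h1, mul_assoc, h2, mul_assoc]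
  | inv_left a b ha hb h => exact (Commute.inv_left h : Commute _ _)
  | inv_right a b ha hb h => exact (Commute.inv_right h : Commute _ _)

include h2 in
theorem comm_comm (x y z : K) : ⁅y, ⁅z, x⁆⁆ = ⁅z, ⁅y, x⁆⁆⁻¹ := by
  let A := Subgroup.normalClosure ({x} : Set K)
  have hA := normalClosure_comm h2 x
  have hn : A.Normal := Subgroup.normalClosure_normal
  letI : CommGroup A :=
    { (inferInstance : Group A) with
      mul_comm := fun a b => Subtype.ext (hA a a.2 b b.2) }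
  letI : DistribMulAction K (Additive A) :=
    { smul := fun g v => Additive.ofMul (MulAut.conjNormal g v.toMul)
      one_smul := fun v => by
        change Additive.ofMul (MulAut.conjNormal 1 v.toMul) = v
        rw [map_one]; rfl
      mul_smul := fun g h v => by
        change Additive.ofMul (MulAut.conjNormal (g * h) v.toMul) = _
        rw [map_mul]; rfl
      smul_zero := fun g => by
        change Additive.ofMul (MulAut.conjNormal g 1) = _
        rw [map_one]; rfl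
      smul_add := fun g v w => by
        change Additive.ofMul (MulAut.conjNormal g (v.toMul * w.toMul)) = _
        rw [map_mul]; rfl }
  have hxA : x ∈ A := Subgroup.subset_normalClosure (Set.mem_singleton x)
  have hD : ∀ (y : K) (v : A), ((Additive.toMul (y • Additive.ofMul v - Additive.ofMul v) : A) : K) = ⁅y, (v : K)⁆ := by
    intro y v
    have h3 : (Additive.toMul (y • Additive.ofMul v - Additive.ofMul v) : A) = (MulAut.conjNormal y v) / v := rfl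
    rw [h3, div_eq_mul_inv]
    rfl
  have hact : ∀ (y : K) (v : Additive A), y • (y • v - v) - (y • v - v) = 0 := by
    intro y v
    apply Additive.toMul.injective
    apply Subtype.ext
    have h3 := hD y (Additive.toMul (y • v - v))
    have h4 := hD y (Additive.toMul v)
    rw [ofMul_toMul] at h3 h4
    rw [h3, h4]
    change ⁅y, ⁅y, ((Additive.toMul v : A) : K)⁆⁆ = 1
    rw [commutatorElement_eq_one_iff_mul_comm]
    have h5 : ⁅y, ((Additive.toMul v : A) : K)⁆ =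
        y * (((Additive.toMul v : A) : K) * y * ((Additive.toMul v : A) : K)⁻¹)⁻¹ := by
      rw [commutatorElement_def]; group
    rw [h5]
    have h6 : Commute y (((Additive.toMul v : A) : K) * y * ((Additive.toMul v : A) : K)⁻¹) := h2 y _
    exact ((Commute.refl y).mul_right h6.inv_right).eq
  have h3 := action_lemma hact y z (Additive.ofMul (⟨x, hxA⟩ : A))
  have h4 := congrArg (fun v => ((Additive.toMul v : A) : K)) h3
  have h5 := hD y (Additive.toMul (z • Additive.ofMul (⟨x, hxA⟩ : A) - Additive.ofMul (⟨x, hxA⟩ : A)))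
  have h6 := hD z (⟨x, hxA⟩ : A)
  have h7 := hD z (Additive.toMul (y • Additive.ofMul (⟨x, hxA⟩ : A) - Additive.ofMul (⟨x, hxA⟩ : A)))
  have h8 := hD y (⟨x, hxA⟩ : A)
  rw [ofMul_toMul] at h5 h7
  rw [h6] at h5
  rw [h8] at h7
  rw [h5] at h4
  rw [h4]
  rw [← h7]
  rfl

include h2 in
theorem comm_inv_right (x y u : K) (hu : u ∈ Subgroup.normalClosure ({x} : Set K)) :
    ⁅y, u⁻¹⁆ = ⁅y, u⁆⁻¹ := by
  have hn : (Subgroup.normalClosure ({x} : Set K)).Normal := Subgroup.normalClosure_normal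
  have h3 := normalClosure_comm h2 x (y * u⁻¹ * y⁻¹) (hn.conj_mem _ (inv_mem hu) y) u hu
  rw [commutatorElement_def, commutatorElement_def, inv_inv, h3]
  group

include h2 in
theorem comm_mem (x y : K) : ⁅y, x⁆ ∈ Subgroup.normalClosure ({x} : Set K) := by
  have hn : (Subgroup.normalClosure ({x} : Set K)).Normal := Subgroup.normalClosure_normal
  have hx : x ∈ Subgroup.normalClosure ({x} : Set K) :=
    Subgroup.subset_normalClosure (Set.mem_singleton x)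
  rw [commutatorElement_def]
  exact mul_mem (hn.conj_mem _ hx y) (inv_mem hx)

include h2 in
theorem swap_right (x y z : K) : ⁅y, ⁅z, x⁆⁆ = ⁅y, ⁅x, z⁆⁆⁻¹ := by
  rw [← commutatorElement_inv x z]
  apply comm_inv_right h2 x
  rw [← commutatorElement_inv z x]
  exact inv_mem (comm_mem h2 x z)

include h2 in
theorem inv_mid (x y z : K) : ⁅y, ⁅z⁻¹, x⁆⁆ = ⁅y, ⁅z, x⁆⁆⁻¹ := by
  have h3 : ⁅z⁻¹, x⁆ = ⁅z, x⁆⁻¹ := by
    have h4 : Commute z (x * z * x⁻¹) := h2 z x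
    have h5 : Commute z⁻¹ (x * z * x⁻¹) := h4.inv_left
    rw [commutatorElement_def, commutatorElement_def]
    calc z⁻¹ * x * z⁻¹⁻¹ * x⁻¹ = z⁻¹ * (x * z * x⁻¹) := by group
      _ = (x * z * x⁻¹) * z⁻¹ := h5.eq
      _ = (z * x * z⁻¹ * x⁻¹)⁻¹ := by group
  rw [h3]
  exact comm_inv_right h2 x y _ (comm_mem h2 x z)

include h2 in
theorem commute_left (y w : K) : Commute y ⁅y, w⁆ := by
  have h5 : ⁅y, w⁆ = y * (w * y * w⁻¹)⁻¹ := by
    rw [commutatorElement_def]; group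
  rw [h5]
  have h6 : Commute y (w * y * w⁻¹) := h2 y _
  exact (Commute.refl y).mul_right h6.inv_right

include h2 in
theorem class_two (h3 : ∀ g : K, g ^ 3 = 1 → g = 1) (a b c : K) : ⁅a, ⁅b, c⁆⁆ = 1 := by
  set t := ⁅a, ⁅b, c⁆⁆ with ht
  have e1 : ⁅a, ⁅b⁻¹, c⁆⁆ = t⁻¹ := inv_mid h2 c a b
  have e2 : ⁅b, ⁅c, a⁆⁆ = t := by
    rw [swap_right h2 a b c, comm_comm h2 c b a, inv_inv]
  have e2' : ⁅b, ⁅c⁻¹, a⁆⁆ = t⁻¹ := by rw [inv_mid h2 a b c, e2]
  have e3 : ⁅c, ⁅a, b⁆⁆ = t := by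
    rw [comm_comm h2 b c a, swap_right h2 b a c, inv_inv]
  have e3' : ⁅c, ⁅a⁻¹, b⁆⁆ = t⁻¹ := by rw [inv_mid h2 b c a, e3]
  have c1 : Commute a t := commute_left h2 a _
  have c2 : Commute b t := by
    have := commute_left h2 b ⁅c, a⁆
    rwa [e2] at this
  have c3 : Commute c t := by
    have := commute_left h2 c ⁅a, b⁆
    rwa [e3] at this
  have hw := conj_commutatorElement_right_commutatorElement_mul a b c
  rw [e1, e2', e3'] at hw
  have d1 : b * t⁻¹ * b⁻¹ = t⁻¹ := mul_inv_eq_iff_eq_mul.2 (c2.inv_right).eq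
  have d2 : c * t⁻¹ * c⁻¹ = t⁻¹ := mul_inv_eq_iff_eq_mul.2 (c3.inv_right).eq
  have d3 : a * t⁻¹ * a⁻¹ = t⁻¹ := mul_inv_eq_iff_eq_mul.2 (c1.inv_right).eq
  have hw' : (b * t⁻¹ * b⁻¹) * (c * t⁻¹ * c⁻¹) * (a * t⁻¹ * a⁻¹) = 1 := by
    rw [← hw]; group
  rw [d1, d2, d3] at hw'
  apply h3
  have : t ^ 3 = (t⁻¹ * t⁻¹ * t⁻¹)⁻¹ := by
    rw [pow_succ, pow_two]
    simp only [mul_inv_rev, inv_inv, mul_assoc]
  rw [this, hw', inv_one]

section fpf

variable {G : Type u} [Group G] (N : Subgroup G) [hN : N.Normal] [hfin : Finite N]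

include hN in
theorem exists_right (y : G) (hC : ∀ n ∈ N, y * n * y⁻¹ = n → n = 1) (a : G) (ha : a ∈ N) :
    ∃ n ∈ N, a = n⁻¹ * (y * n * y⁻¹) := by
  let f : N → N := fun n => ⟨(n : G)⁻¹ * (y * n * y⁻¹), mul_mem (inv_mem n.2) (hN.conj_mem _ n.2 y)⟩
  have hinj : Function.Injective f := by
    intro n m h
    have h1 : (n : G)⁻¹ * (y * n * y⁻¹) = (m : G)⁻¹ * (y * m * y⁻¹) := congrArg Subtype.val h
    have h2 : y * ((m : G) * (n : G)⁻¹) * y⁻¹ = (m : G) * (n : G)⁻¹ := by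
      calc y * ((m : G) * (n : G)⁻¹) * y⁻¹ = m * ((m : G)⁻¹ * (y * m * y⁻¹)) * (y * n * y⁻¹)⁻¹ := by group
        _ = m * ((n : G)⁻¹ * (y * n * y⁻¹)) * (y * n * y⁻¹)⁻¹ := by rw [h1]
        _ = (m : G) * (n : G)⁻¹ := by group
    have h3 := hC _ (mul_mem m.2 (inv_mem n.2)) h2
    exact (Subtype.ext (mul_inv_eq_one.1 h3)).symm
  obtain ⟨n, hn⟩ := Finite.surjective_of_injective hinj ⟨a, ha⟩
  exact ⟨n, n.2, (congrArg Subtype.val hn).symm⟩

include hN in
theorem exists_left (y : G) (hC : ∀ n ∈ N, y * n * y⁻¹ = n → n = 1) (a : G) (ha : a ∈ N) :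
    ∃ n ∈ N, a = (y * n * y⁻¹) * n⁻¹ := by
  obtain ⟨n, hn, h⟩ := exists_right N y hC a⁻¹ (inv_mem ha)
  refine ⟨n⁻¹, inv_mem hn, ?_⟩
  rw [← inv_inv a, h]
  group

include hN in
theorem norm_right (y : G) (hy : y ^ 3 = 1) (hC : ∀ n ∈ N, y * n * y⁻¹ = n → n = 1) (a : G)
    (ha : a ∈ N) : a * (y * a * y⁻¹) * (y ^ 2 * a * (y ^ 2)⁻¹) = 1 := by
  obtain ⟨n, hn, rfl⟩ := exists_right N y hC a ha
  calc n⁻¹ * (y * n * y⁻¹) * (y * (n⁻¹ * (y * n * y⁻¹)) * y⁻¹) * (y ^ 2 * (n⁻¹ * (y * n * y⁻¹)) * (y ^ 2)⁻¹)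
      = n⁻¹ * (y * y * y) * n * (y ^ 3)⁻¹ := by
        group
    _ = n⁻¹ * (y ^ 3) * n * (y ^ 3)⁻¹ := by
        rw [pow_succ y 2, pow_two]
    _ = 1 := by rw [hy]; group

include hN in
theorem norm_left (y : G) (hy : y ^ 3 = 1) (hC : ∀ n ∈ N, y * n * y⁻¹ = n → n = 1) (a : G)
    (ha : a ∈ N) : (y ^ 2 * a * (y ^ 2)⁻¹) * (y * a * y⁻¹) * a = 1 := by
  obtain ⟨n, hn, rfl⟩ := exists_left N y hC a ha
  calc (y ^ 2 * ((y * n * y⁻¹) * n⁻¹) * (y ^ 2)⁻¹) * (y * ((y * n * y⁻¹) * n⁻¹) * y⁻¹) * ((y * n * y⁻¹) * n⁻¹)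
      = (y ^ 3) * n * (y ^ 3)⁻¹ * n⁻¹ := by
        group
    _ = 1 := by rw [hy]; group

include hN in
theorem comm_conj (y : G) (hy : y ^ 3 = 1) (hC : ∀ n ∈ N, y * n * y⁻¹ = n → n = 1) (a : G)
    (ha : a ∈ N) : a * (y * a * y⁻¹) = (y * a * y⁻¹) * a := by
  have h1 := norm_right N y hy hC a ha
  have h2 := norm_left N y hy hC a ha
  have h3 : y ^ 2 * a * (y ^ 2)⁻¹ = (a * (y * a * y⁻¹))⁻¹ := eq_inv_of_mul_eq_one_right h1
  have h4 : y ^ 2 * a * (y ^ 2)⁻¹ = ((y * a * y⁻¹) * a)⁻¹ := by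
    rw [mul_assoc] at h2
    exact eq_inv_of_mul_eq_one_left h2
  rw [h3, inv_inj] at h4
  exact h4

include hN in
theorem comm_conj' (x : G) (hx : x ^ 3 = 1) (hC : ∀ n ∈ N, x * n * x⁻¹ = n → n = 1) (a h : G)
    (ha : a ∈ N) (hh : h ∈ N) :
    a * (h * (x * a * x⁻¹) * h⁻¹) = (h * (x * a * x⁻¹) * h⁻¹) * a := by
  -- h x is conjugate to x
  obtain ⟨n, hn, hnh⟩ := exists_left N x hC h⁻¹ (inv_mem hh)
  have h1 : h * x = n * x * n⁻¹ := by
    rw [← inv_inv h, hnh]; group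
  have h2 : (h * x) ^ 3 = 1 := by
    rw [h1]
    have : (n * x * n⁻¹) ^ 3 = n * x ^ 3 * n⁻¹ := conj_pow
    rw [this, hx]; group
  have h3 : ∀ m ∈ N, (h * x) * m * (h * x)⁻¹ = m → m = 1 := by
    intro m hm hm'
    rw [h1] at hm'
    have h4 : x * (n⁻¹ * m * n) * x⁻¹ = n⁻¹ * m * n := by
      calc x * (n⁻¹ * m * n) * x⁻¹ = n⁻¹ * ((n * x * n⁻¹) * m * (n * x * n⁻¹)⁻¹) * n := by group
        _ = n⁻¹ * m * n := by rw [hm']
    have h5 := hC _ (by
      have := hN.conj_mem m hm n⁻¹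
      rwa [inv_inv] at this) h4
    calc m = n * (n⁻¹ * m * n) * n⁻¹ := by group
      _ = 1 := by rw [h5]; group
  have h4 := comm_conj N (h * x) h2 h3 a ha
  have h5 : h * x * a * (h * x)⁻¹ = h * (x * a * x⁻¹) * h⁻¹ := by group
  rwa [h5] at h4

include hN in
/-- every element of `N` commutes with its conjugates. -/
theorem engel (x : G) (hx : x ^ 3 = 1) (hC : ∀ n ∈ N, x * n * x⁻¹ = n → n = 1) (a h : G)
    (ha : a ∈ N) (hh : h ∈ N) : a * (h * a * h⁻¹) = (h * a * h⁻¹) * a := by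
  have h1 := comm_conj' N x hx hC a h ha hh
  have hx' : x⁻¹ ^ 3 = 1 := by rw [inv_pow, hx, inv_one]
  have hC' : ∀ n ∈ N, x⁻¹ * n * x⁻¹⁻¹ = n → n = 1 := by
    intro n hn h
    apply hC n hn
    calc x * n * x⁻¹ = x * (x⁻¹ * n * x⁻¹⁻¹) * x⁻¹ := by rw [h]
      _ = n := by group
  have h2 := comm_conj' N x⁻¹ hx' hC' a h ha hh
  have h3 := norm_right N x hx hC a ha
  have h4 : x ^ 2 * a * (x ^ 2)⁻¹ = x⁻¹ * a * x⁻¹⁻¹ := by
    have : x ^ 2 = x⁻¹ := by
      rw [pow_succ] at hx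
      exact eq_inv_of_mul_eq_one_left hx
    rw [this]
  rw [h4, mul_assoc] at h3
  have h5 : a⁻¹ = (x * a * x⁻¹) * (x⁻¹ * a * x⁻¹⁻¹) := (eq_inv_of_mul_eq_one_right h3).symm
  have h6 : h * a⁻¹ * h⁻¹ = (h * (x * a * x⁻¹) * h⁻¹) * (h * (x⁻¹ * a * x⁻¹⁻¹) * h⁻¹) := by
    rw [h5]; group
  have h7 : Commute a (h * a⁻¹ * h⁻¹) := by
    rw [h6]
    exact Commute.mul_right h1 h2
  have h8 : h * a * h⁻¹ = (h * a⁻¹ * h⁻¹)⁻¹ := by group
  rw [h8]
  exact h7.inv_right.eq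

include hN in
/-- a finite group without elements of order 3 and with a fixed point free automorphism of order 3
has class at most two. -/
theorem class_two_of_fpf (x : G) (hx : x ^ 3 = 1) (hC : ∀ n ∈ N, x * n * x⁻¹ = n → n = 1)
    (h3 : ∀ n ∈ N, n ^ 3 = 1 → n = 1) (a b c : G) (ha : a ∈ N) (hb : b ∈ N) (hc : c ∈ N) :
    ⁅a, ⁅b, c⁆⁆ = 1 := by
  have h1 := class_two (K := N) (fun a h => Subtype.ext (engel N x hx hC a h a.2 h.2))
    (fun g hg => Subtype.ext (h3 g g.2 (by simpa using congrArg Subtype.val hg))) ⟨a, ha⟩ ⟨b, hb⟩ ⟨c, hc⟩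
  have h2 := congrArg Subtype.val h1
  exact h2

end fpf

end H69.Engel2
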