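import Mathlib
import Cfsg.Agent.Lib.H26.SupCard

/-!
Frattini-type lemmas used for S3982.
-/

set_option autoImplicit false

namespace H69.EvenNormalizer

universe u

variable {G : Type u} [Group G]

/-- a proper subgroup of a finite `p`-group grows in its normalizer. -/
theorem exists_gt_le_normalizer [Finite G] {p : ℕ} [Fact p.Prime] (R P : Subgroup G)
    (hP : IsPGroup p P) (hRP : R < P) : ∃ T : Subgroup G, R < T ∧ T ≤ P ∧
      T ≤ Subgroup.normalizer (R : Set G) := by
  have hnil : Group.IsNilpotent P := hP.isNilpotent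
  have hnc := Group.normalizerCondition_of_isNilpotent (G := P)
  have h1 := hnc (R.subgroupOf P) (by
    rw [lt_top_iff_ne_top, Ne, Subgroup.subgroupOf_eq_top]
    exact fun h => hRP.not_ge h)
  obtain ⟨-, ⟨w, hw, hwQ⟩⟩ := SetLike.lt_iff_le_and_exists.1 h1
  refine ⟨P ⊓ Subgroup.normalizer (R : Set G), ?_, inf_le_left, inf_le_right⟩
  rw [SetLike.lt_iff_le_and_exists]
  refine ⟨le_inf hRP.le Subgroup.le_normalizer, (w : G), Subgroup.mem_inf.2 ⟨w.2, ?_⟩, ?_⟩
  · rw [Subgroup.mem_normalizer_iff]
    intro a
    constructor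
    · intro ha
      have h2 := (Subgroup.mem_normalizer_iff.1 hw ⟨a, hRP.le ha⟩).1 ha
      exact h2
    · intro ha
      have h3 : a ∈ P := by
        have h4 : a = (w : G)⁻¹ * ((w : G) * a * (w : G)⁻¹) * w := by group
        rw [h4]
        exact mul_mem (mul_mem (inv_mem w.2) (hRP.le ha)) w.2
      exact (Subgroup.mem_normalizer_iff.1 hw ⟨a, h3⟩).2 ha
  · exact fun h => hwQ h

/-- `K` of odd order, `y` an involution normalizing `K`; then some Sylow `p`-subgroup of `K` has a
normalizer of even order. -/
theorem exists_sylow_even_normalizer [Finite G] (p : ℕ) [Fact p.Prime] (K : Subgroup G)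
    (hK : Odd (Nat.card K)) (y : G) (hy : orderOf y = 2) (hyK : y ∈ Subgroup.normalizer (K : Set G))
    (S : Sylow p K) : Even (Nat.card (Subgroup.normalizer (((S : Subgroup K).map K.subtype : Subgroup G) : Set G))) := by
  let N := Subgroup.normalizer (K : Set G)
  have hKN : K ≤ N := Subgroup.le_normalizer
  let K' : Subgroup N := K.subgroupOf N
  have hn : K'.Normal := Subgroup.normal_in_normalizer
  let e : K' ≃* K := Subgroup.subgroupOfEquivOfLe hKN
  obtain ⟨S', hS'⟩ : ∃ S' : Sylow p K', (S' : Subgroup K').map e.toMonoidHom = (S : Subgroup K) := by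
    refine ⟨S.comapOfInjective e.toMonoidHom e.injective ?_, ?_⟩
    · rw [MonoidHom.range_eq_top.2 e.surjective]; exact le_top
    · ext x
      constructor
      · rintro ⟨z, hz, rfl⟩
        exact hz
      · intro hx
        refine ⟨e.symm x, ?_, by simp⟩
        change e (e.symm x) ∈ (S : Subgroup K)
        simpa using hx
  have hF := Sylow.normalizer_sup_eq_top S'
  have heven : Even (Nat.card N) := by
    rw [even_iff_two_dvd, ← hy, ← Subgroup.orderOf_mk y hyK]
    exact orderOf_dvd_natCard _
  have h2 : ¬ (2 ∣ Nat.card K') := by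
    rw [Nat.card_congr e.toEquiv]
    rwa [← even_iff_two_dvd, Nat.not_even_iff_odd]
  have h3 : 2 ∣ Nat.card (Subgroup.normalizer (((S' : Subgroup K').map K'.subtype : Subgroup N) : Set N)) := by
    by_contra h
    have h4 := H26.SupCard.not_dvd_card_sup (p := 2) Nat.prime_two
      (X := K') (Y := Subgroup.normalizer (((S' : Subgroup K').map K'.subtype : Subgroup N) : Set N))
      (by rw [Subgroup.normalizer_eq_top_iff.2 hn]; exact le_top) h2 h
    rw [sup_comm, hF, Subgroup.card_top] at h4
    exact h4 (even_iff_two_dvd.1 heven)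
  have h4 : (Subgroup.normalizer (((S' : Subgroup K').map K'.subtype : Subgroup N) : Set N)).map N.subtype ≤
      Subgroup.normalizer (((S : Subgroup K).map K.subtype : Subgroup G) : Set G) := by
    have h5 : ((S' : Subgroup K').map K'.subtype).map N.subtype = (S : Subgroup K).map K.subtype := by
      rw [← hS', Subgroup.map_map, Subgroup.map_map]
      rfl
    rw [← h5]
    exact Subgroup.le_normalizer_map _
  rw [even_iff_two_dvd]
  refine dvd_trans ?_ (Subgroup.card_dvd_of_le h4)
  rw [← Nat.card_congr (Subgroup.equivMapOfInjective _ N.subtype N.subtype_injective).toEquiv]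
  exact h3

end H69.EvenNormalizer
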