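import Mathlib
import Cfsg.Agent.Lib.H69.CountLemmas

/-!
Frobenius' theorem: if `m ∣ |G|` then `m` divides the number of solutions of `g ^ m = 1`
(Isaacs--Robinson).
-/

set_option autoImplicit false

namespace H69.FrobCount

universe u

/-- elements whose `p`-part has order exactly `p ^ (l + 1)` and whose `p'`-part is killed by `s`. -/
def W (G : Type u) [Group G] (p l s : ℕ) : Set G := {g | g ^ (p ^ (l + 1) * s) = 1 ∧ g ^ (p ^ l * s) ≠ 1}

theorem orderOf_of_mem_W {G : Type u} [Group G] {p l s : ℕ} (hp : p.Prime) {g : G}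
    (hg : g ∈ W G p l s) : orderOf (g ^ (p * s)) = p ^ l := by
  have : Fact p.Prime := ⟨hp⟩
  rcases l with _ | l
  · have h := hg.1
    rw [zero_add, pow_one] at h
    rw [pow_zero, orderOf_eq_one_iff]
    exact h
  · apply orderOf_eq_prime_pow
    · rw [← pow_mul]
      have := hg.2
      have h2 : p * s * p ^ l = p ^ (l + 1) * s := by ring
      rwa [h2]
    · rw [← pow_mul]
      have := hg.1
      have h2 : p * s * p ^ (l + 1) = p ^ (l + 1 + 1) * s := by ring
      rwa [h2]

theorem pow_dvd_card_W {G : Type u} [Group G] [Finite G] {p l s : ℕ} (hp : p.Prime) :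
    p ^ l ∣ Nat.card (W G p l s) := by
  apply H69.CountLemmas.dvd_card_of_cosets (p ^ l) (fun g => Subgroup.zpowers (g ^ (p * s)))
  · intro g hg
    rw [Nat.card_zpowers, orderOf_of_mem_W hp hg]
  · intro g hg a ha
    obtain ⟨j, rfl⟩ := Subgroup.mem_zpowers_iff.1 ha
    have hcomm : Commute g ((g ^ (p * s)) ^ j) := ((Commute.refl g).pow_right _).zpow_right _
    have h1 : ((g ^ (p * s)) ^ j) ^ (p ^ l * s) = 1 := by
      have h2 : ((g ^ (p * s)) ^ j) ^ (p ^ l * s) = ((g ^ (p ^ (l + 1) * s)) ^ s) ^ j := by
        rw [← zpow_natCast, ← zpow_mul, mul_comm j, zpow_mul, zpow_natCast, ← pow_mul, ← pow_mul]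
        congr 2
        ring
      rw [h2, hg.1, one_pow, one_zpow]
    have hW : g * (g ^ (p * s)) ^ j ∈ W G p l s := by
      constructor
      · have h2 : p ^ (l + 1) * s = (p ^ l * s) * p := by ring
        rw [h2, pow_mul, hcomm.mul_pow, h1, mul_one, ← pow_mul, ← h2]
        exact hg.1
      · rw [hcomm.mul_pow, h1, mul_one]
        exact hg.2
    refine ⟨hW, ?_⟩
    apply Subgroup.eq_of_le_of_card_ge
    · rw [Subgroup.zpowers_le, hcomm.mul_pow]
      refine Subgroup.mul_mem _ (Subgroup.mem_zpowers _) ?_
      exact Subgroup.pow_mem _ (Subgroup.zpow_mem _ (Subgroup.mem_zpowers _) _) _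
    · rw [Nat.card_zpowers, Nat.card_zpowers, orderOf_of_mem_W hp hg, orderOf_of_mem_W hp hW]

/-- number of solutions of `g ^ s = 1` depends only on `gcd (s, |G|)`. -/
theorem card_pow_eq_one_gcd {G : Type u} [Group G] [Finite G] (s : ℕ) :
    Nat.card {g : G // g ^ s = 1} = Nat.card {g : G // g ^ (Nat.gcd s (Nat.card G)) = 1} := by
  apply Nat.card_congr
  apply Equiv.subtypeEquivRight
  intro g
  rw [← orderOf_dvd_iff_pow_eq_one, ← orderOf_dvd_iff_pow_eq_one, Nat.dvd_gcd_iff]
  exact ⟨fun h => ⟨h, orderOf_dvd_natCard g⟩, fun h => h.1⟩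

/-- solutions of `z ^ s = 1` in `C` and in `C ⧸ ⟨y⟩` for a central `p`-element `y`, `p ∤ s`. -/
theorem card_solutions_quotient {C : Type u} [Group C] [Finite C] (y : C) (p k s : ℕ) (hp : p.Prime)
    (hy : orderOf y = p ^ k) (hcen : y ∈ Subgroup.center C) (hs : ¬ p ∣ s)
    [hN : (Subgroup.zpowers y).Normal] :
    Nat.card {z : C // z ^ s = 1} = Nat.card {z : C ⧸ Subgroup.zpowers y // z ^ s = 1} := by
  have hcop : Nat.Coprime s (orderOf y) := by
    rw [hy]
    exact ((Nat.Prime.coprime_iff_not_dvd hp).2 hs).symm.pow_right k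
  have hcy : ∀ z : C, Commute z y := fun z => Subgroup.mem_center_iff.1 hcen z
  let F : {z : C // z ^ s = 1} → {z : C ⧸ Subgroup.zpowers y // z ^ s = 1} := fun z =>
    ⟨QuotientGroup.mk z.1, by rw [← QuotientGroup.mk_pow, z.2, QuotientGroup.mk_one]⟩
  apply Nat.card_congr
  apply Equiv.ofBijective F
  constructor
  · rintro ⟨a, ha⟩ ⟨b, hb⟩ hab
    have h1 : (QuotientGroup.mk a : C ⧸ Subgroup.zpowers y) = QuotientGroup.mk b :=
      congrArg Subtype.val hab
    rw [QuotientGroup.eq] at h1
    obtain ⟨j, hj⟩ := Subgroup.mem_zpowers_iff.1 h1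
    have hb' : b = a * y ^ j := by rw [hj]; group
    have h2 : (y ^ j) ^ s = 1 := by
      have h3 := hb
      rw [hb', ((hcy a).zpow_right j).mul_pow, ha, one_mul] at h3
      exact h3
    have h4 : orderOf (y ^ j) ∣ s := orderOf_dvd_of_pow_eq_one h2
    have h5 : orderOf (y ^ j) ∣ orderOf y := orderOf_dvd_of_mem_zpowers ⟨j, rfl⟩
    have h6 : orderOf (y ^ j) = 1 := Nat.eq_one_of_dvd_coprimes hcop h4 h5
    rw [orderOf_eq_one_iff] at h6
    apply Subtype.ext
    show a = b
    rw [hb', h6, mul_one]
  · rintro ⟨z, hz⟩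
    obtain ⟨z, rfl⟩ := QuotientGroup.mk_surjective z
    rw [← QuotientGroup.mk_pow, QuotientGroup.eq_one_iff] at hz
    obtain ⟨j, hj⟩ := Subgroup.mem_zpowers_iff.1 hz
    obtain ⟨u, v, huv⟩ := Nat.isCoprime_iff_coprime.2 hcop
    refine ⟨⟨z * y ^ (-j * u), ?_⟩, ?_⟩
    · rw [((hcy z).zpow_right _).mul_pow, ← hj, ← zpow_natCast (y ^ (-j * u)), ← zpow_mul, ← zpow_add]
      have h2 : j + -j * u * (s : ℤ) = (orderOf y : ℤ) * (j * v) := by
        have : u * (s : ℤ) = 1 - v * orderOf y := by linarith
        calc j + -j * u * (s : ℤ) = j - j * (u * s) := by ring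
          _ = _ := by rw [this]; ring
      rw [h2, zpow_mul, zpow_natCast, pow_orderOf_eq_one, one_zpow]
    · apply Subtype.ext
      show (QuotientGroup.mk (z * y ^ (-j * u)) : C ⧸ Subgroup.zpowers y) = QuotientGroup.mk z
      rw [QuotientGroup.eq, mul_inv_rev, mul_assoc, inv_mul_cancel, mul_one, ← zpow_neg]
      exact ⟨_, rfl⟩

/-- the inductive step for the `p'`-part -/
theorem dvd_card_W {G : Type u} [Group G] [Finite G] {p l s : ℕ} (hp : p.Prime) (hs : ¬ p ∣ s)
    (hsG : s ∣ Nat.card G)
    (ih : ∀ (H : Type u) [Group H] [Finite H], Nat.card H < Nat.card G → ∀ m, m ∣ Nat.card H →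
      m ∣ Nat.card {g : H // g ^ m = 1}) :
    s ∣ Nat.card (W G p l s) := by
  classical
  have : Fintype G := Fintype.ofFinite G
  have hcop : Nat.Coprime (p ^ (l + 1)) s :=
    ((Nat.Prime.coprime_iff_not_dvd hp).2 hs).pow_left _
  obtain ⟨e, he1, he2⟩ := Nat.chineseRemainder hcop 1 0
  have hse : s ∣ e := (Nat.modEq_zero_iff_dvd).1 he2
  let F : G → ℕ := fun y => (Finset.univ.filter (fun g : G => g ∈ W G p l s ∧ g ^ e = y)).card
  have hsum : Nat.card (W G p l s) = ∑ y, F y := by
    have h1 : Nat.card (W G p l s) = (Finset.univ.filter (fun g : G => g ∈ W G p l s)).card := by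
      rw [Nat.card_eq_card_toFinset]
      congr 1
      ext x
      simp
    rw [h1, Finset.card_eq_sum_card_fiberwise (f := fun g => g ^ e) (t := Finset.univ)
      (fun _ _ => Finset.mem_univ _)]
    apply Finset.sum_congr rfl
    intro y _
    rw [Finset.filter_filter]
  rw [hsum]
  apply H69.CountLemmas.dvd_sum_of_classFun
  · intro g y
    apply Finset.card_bij' (fun x _ => g⁻¹ * x * g) (fun x _ => g * x * g⁻¹)
    · intro x hx
      rw [Finset.mem_filter] at hx ⊢
      obtain ⟨-, hxW, hxe⟩ := hx
      have hpow : ∀ n : ℕ, (g⁻¹ * x * g) ^ n = g⁻¹ * x ^ n * g := by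
        intro n
        have := conj_pow (i := n) (a := g⁻¹) (b := x)
        rwa [inv_inv] at this
      refine ⟨Finset.mem_univ _, ⟨?_, ?_⟩, ?_⟩
      · rw [hpow, hxW.1]; group
      · rw [hpow]
        intro h
        apply hxW.2
        have h2 : x ^ (p ^ l * s) = g * (g⁻¹ * x ^ (p ^ l * s) * g) * g⁻¹ := by group
        rw [h2, h]; group
      · rw [hpow, hxe]; group
    · intro x hx
      rw [Finset.mem_filter] at hx ⊢
      obtain ⟨-, hxW, hxe⟩ := hx
      refine ⟨Finset.mem_univ _, ⟨?_, ?_⟩, ?_⟩
      · rw [conj_pow, hxW.1]; group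
      · rw [conj_pow]
        intro h
        apply hxW.2
        have h2 : x ^ (p ^ l * s) = g⁻¹ * (g * x ^ (p ^ l * s) * g⁻¹) * g := by group
        rw [h2, h]; group
      · rw [conj_pow, hxe]
    · intro x _
      group
    · intro x _
      group
  · intro y
    by_cases hy0 : F y = 0
    · rw [hy0, mul_zero]; exact dvd_zero _
    · -- y has order p^(l+1)
      obtain ⟨g, hg⟩ := Finset.card_pos.1 (Nat.pos_of_ne_zero hy0)
      rw [Finset.mem_filter] at hg
      obtain ⟨-, hgW, hge⟩ := hg
      have : Fact p.Prime := ⟨hp⟩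
      have hpe : ∀ x : G, x ^ (p ^ (l + 1)) = 1 → x ^ e = x := by
        intro x hx
        have h1 : x ^ e = x ^ 1 := by
          rw [pow_eq_pow_iff_modEq]
          exact he1.of_dvd (orderOf_dvd_of_pow_eq_one hx)
        rw [h1, pow_one]
      have hy1 : y ^ p ^ (l + 1) = 1 := by
        obtain ⟨c, hc⟩ := hse
        rw [← hge, ← pow_mul, hc]
        have : s * c * p ^ (l + 1) = (p ^ (l + 1) * s) * c := by ring
        rw [this, pow_mul, hgW.1, one_pow]
      have hgy : Commute g y := by rw [← hge]; exact (Commute.refl g).pow_right e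
      have hz : (g * y⁻¹) ^ s = 1 := by
        -- g^(1-e) to the s
        have h1 : (g * y⁻¹) ^ s = g ^ s * (g ^ (e * s))⁻¹ := by
          rw [(hgy.inv_right).mul_pow, inv_pow, ← hge, ← pow_mul]
        have h2 : g ^ (e * s) = g ^ s := by
          rw [pow_eq_pow_iff_modEq]
          have h3 : e * s ≡ 1 * s [MOD p ^ (l + 1) * s] := Nat.ModEq.mul_right' s he1
          rw [one_mul] at h3
          exact h3.of_dvd (orderOf_dvd_of_pow_eq_one hgW.1)
        rw [h1, h2, mul_inv_cancel]
      have hy2 : ¬ y ^ p ^ l = 1 := by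
        intro h
        apply hgW.2
        have h1 : g = (g * y⁻¹) * y := by group
        have hc : Commute (g * y⁻¹) y := hgy.mul_left ((Commute.refl y).inv_left)
        rw [h1, hc.mul_pow, mul_comm (p ^ l) s, pow_mul, hz, one_pow, one_mul, mul_comm s, pow_mul,
          h, one_pow]
      have hyo : orderOf y = p ^ (l + 1) := orderOf_eq_prime_pow hy2 hy1
      -- count
      set C := Subgroup.centralizer ({y} : Set G) with hC
      have hyC : y ∈ C := Subgroup.mem_centralizer_singleton_iff.2 rfl
      let y' : C := ⟨y, hyC⟩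
      have hy'cen : y' ∈ Subgroup.center C := by
        rw [Subgroup.mem_center_iff]
        intro z
        exact Subtype.ext (Subgroup.mem_centralizer_singleton_iff.1 z.2)
      have hN : (Subgroup.zpowers y').Normal := by
        constructor
        intro x hx z
        obtain ⟨j, rfl⟩ := Subgroup.mem_zpowers_iff.1 hx
        have h1 : z * y' ^ j = y' ^ j * z := by
          have := Subgroup.mem_center_iff.1 (Subgroup.zpow_mem _ hy'cen j) z
          exact this
        rw [h1, mul_inv_cancel_right]
        exact hx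
      have hFy : F y = Nat.card {z : C // z ^ s = 1} := by
        have h1 : F y = Nat.card {g : G // g ∈ W G p l s ∧ g ^ e = y} := by
          rw [Nat.card_eq_fintype_card, Fintype.card_subtype]
        rw [h1]
        apply Nat.card_congr
        refine ⟨fun g => ⟨⟨g.1 * y⁻¹, ?_⟩, ?_⟩, fun z => ⟨z.1.1 * y, ?_⟩, ?_, ?_⟩
        · have hgy : Commute g.1 y := by
            have := (Commute.refl g.1).pow_right e
            rwa [g.2.2] at this
          rw [Subgroup.mem_centralizer_singleton_iff]
          exact (hgy.mul_left ((Commute.refl y).inv_left)).eq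
        · apply Subtype.ext
          show (g.1 * y⁻¹) ^ s = 1
          have hgy : Commute g.1 y := by
            have := (Commute.refl g.1).pow_right e
            rwa [g.2.2] at this
          have h1 : (g.1 * y⁻¹) ^ s = g.1 ^ s * (g.1 ^ (e * s))⁻¹ := by
            rw [(hgy.inv_right).mul_pow, inv_pow, pow_mul, g.2.2]
          have h2 : g.1 ^ (e * s) = g.1 ^ s := by
            rw [pow_eq_pow_iff_modEq]
            have h3 : e * s ≡ 1 * s [MOD p ^ (l + 1) * s] := Nat.ModEq.mul_right' s he1
            rw [one_mul] at h3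
            exact h3.of_dvd (orderOf_dvd_of_pow_eq_one g.2.1.1)
          rw [h1, h2, mul_inv_cancel]
        · have hcomm : Commute z.1.1 y := Subgroup.mem_centralizer_singleton_iff.1 z.1.2
          have hzs : z.1.1 ^ s = 1 := congrArg Subtype.val z.2
          refine ⟨⟨?_, ?_⟩, ?_⟩
          · rw [hcomm.mul_pow, mul_comm (p ^ (l + 1)) s, pow_mul, hzs, one_pow, one_mul, mul_comm s,
              pow_mul, hy1, one_pow]
          · rw [hcomm.mul_pow, mul_comm (p ^ l) s, pow_mul, hzs, one_pow, one_mul]
            intro h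
            have h4 : orderOf y ∣ s * p ^ l := orderOf_dvd_of_pow_eq_one h
            rw [hyo] at h4
            have h5 : p ^ (l + 1) ∣ p ^ l := hcop.dvd_of_dvd_mul_left h4
            have h6 := Nat.le_of_dvd (pow_pos hp.pos l) h5
            have h7 : p ^ l < p ^ (l + 1) := Nat.pow_lt_pow_right hp.one_lt (Nat.lt_succ_self l)
            omega
          · rw [hcomm.mul_pow, hpe y hy1]
            obtain ⟨c, hc⟩ := hse
            rw [hc, pow_mul, hzs, one_pow, one_mul]
        · intro g
          apply Subtype.ext
          show g.1 * y⁻¹ * y = g.1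
          group
        · intro z
          apply Subtype.ext
          apply Subtype.ext
          show z.1.1 * y * y⁻¹ = z.1.1
          group
      have hy'o : orderOf y' = p ^ (l + 1) := by
        rw [← hyo]
        exact Subgroup.orderOf_mk y hyC
      have hcardC : Nat.card C = Nat.card (C ⧸ Subgroup.zpowers y') * p ^ (l + 1) := by
        rw [Subgroup.card_eq_card_quotient_mul_card_subgroup (Subgroup.zpowers y'), Nat.card_zpowers,
          hy'o]
      have hlt : Nat.card (C ⧸ Subgroup.zpowers y') < Nat.card G := by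
        have h1 : Nat.card C ≤ Nat.card G := Subgroup.card_le_card_group C
        have h2 : 0 < Nat.card (C ⧸ Subgroup.zpowers y') := Nat.card_pos
        have h3 : 2 ≤ p ^ (l + 1) := by
          calc 2 ≤ p := hp.two_le
            _ = p ^ 1 := (pow_one p).symm
            _ ≤ p ^ (l + 1) := Nat.pow_le_pow_right hp.pos (by omega)
        nlinarith
      have h1 := ih (C ⧸ Subgroup.zpowers y') hlt
        (Nat.gcd s (Nat.card (C ⧸ Subgroup.zpowers y'))) (Nat.gcd_dvd_right _ _)
      rw [← card_pow_eq_one_gcd, ← card_solutions_quotient y' p (l + 1) s hp hy'o hy'cen hs,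
        ← hFy] at h1
      -- s divides index * F y
      have h2 : Nat.gcd s (Nat.card C) = Nat.gcd s (Nat.card (C ⧸ Subgroup.zpowers y')) := by
        rw [hcardC]
        exact Nat.Coprime.gcd_mul_right_cancel_right _ hcop
      rw [← h2] at h1
      have h3 : s ∣ C.index * Nat.gcd s (Nat.card C) := by
        rw [← Nat.gcd_mul_left]
        apply Nat.dvd_gcd (dvd_mul_left _ _)
        rw [mul_comm, Subgroup.card_mul_index]
        exact hsG
      exact h3.trans (Nat.mul_dvd_mul_left _ h1)

/-- **Frobenius' theorem**. -/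
theorem frobenius : ∀ (N : ℕ) (G : Type u) [Group G] [Finite G], Nat.card G = N →
    ∀ m, m ∣ Nat.card G → m ∣ Nat.card {g : G // g ^ m = 1} := by
  intro N
  induction N using Nat.strong_induction_on with
  | _ N ih =>
    intro G _ _ hN m hm
    obtain ⟨k, hk⟩ := hm
    induction k using Nat.strong_induction_on generalizing m with
    | _ k ihk =>
      have hGpos : 0 < Nat.card G := Nat.card_pos
      by_cases hk1 : k = 1
      · rw [hk1, mul_one] at hk
        have h1 : Nat.card {g : G // g ^ m = 1} = Nat.card G := by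
          apply Nat.card_congr
          apply Equiv.subtypeUnivEquiv
          intro g
          rw [← hk]
          exact pow_card_eq_one'
        rw [h1, hk]
      · obtain ⟨p, hp, hpk⟩ := Nat.exists_prime_and_dvd hk1
        obtain ⟨k', rfl⟩ := hpk
        have hk'0 : k' ≠ 0 := by
          rintro rfl
          simp at hk
          omega
        have hm0 : m ≠ 0 := by
          rintro rfl
          simp at hk
          omega
        -- write m = p^l * s
        obtain ⟨l, s, hs, hms⟩ := Nat.exists_eq_pow_mul_and_not_dvd hm0 p hp.ne_one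
        have hlt : k' < p * k' := by
          have := hp.two_le
          nlinarith [Nat.pos_of_ne_zero hk'0]
        have h1 := ihk k' hlt (m * p) (by rw [hk]; ring)
        -- card {g^(mp)=1} = card {g^m=1} + card W
        have h2 : Nat.card {g : G // g ^ (m * p) = 1} =
            Nat.card {g : G // g ^ m = 1} + Nat.card (W G p l s) := by
          have h3 : ({g : G | g ^ (m * p) = 1} : Set G).ncard =
              ({g : G | g ^ m = 1} : Set G).ncard + (W G p l s).ncard := by
            rw [← Set.ncard_union_eq]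
            · congr 1
              ext g
              simp only [Set.mem_ofPred_eq, Set.mem_union, W]
              have e1 : p ^ (l + 1) * s = m * p := by rw [hms]; ring
              have e2 : p ^ l * s = m := hms.symm
              rw [e1, e2]
              constructor
              · intro h
                by_cases h' : g ^ m = 1
                · exact Or.inl h'
                · exact Or.inr ⟨h, h'⟩
              · rintro (h | h)
                · rw [pow_mul, h, one_pow]
                · exact h.1
            · rw [Set.disjoint_left]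
              intro g hg hg'
              apply hg'.2
              have e2 : p ^ l * s = m := hms.symm
              rw [e2]
              exact hg
          exact h3
        have h4 : m ∣ Nat.card (W G p l s) := by
          rw [hms]
          apply Nat.Coprime.mul_dvd_of_dvd_of_dvd
          · exact ((Nat.Prime.coprime_iff_not_dvd hp).2 hs).pow_left _
          · exact pow_dvd_card_W hp
          · apply dvd_card_W hp hs
            · rw [hk, hms]
              exact ⟨p ^ l * (p * k'), by ring⟩
            · intro H _ _ hH m hm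
              exact ih _ (hN ▸ hH) H rfl m hm
        have h5 : m ∣ Nat.card {g : G // g ^ (m * p) = 1} := (dvd_mul_right m p).trans h1
        rw [h2] at h5
        exact (Nat.dvd_add_left h4).1 h5

theorem frobenius_dvd {G : Type u} [Group G] [Finite G] (m : ℕ) (hm : m ∣ Nat.card G) :
    m ∣ Nat.card {g : G // g ^ m = 1} := frobenius _ G rfl m hm

end H69.FrobCount
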