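import Cfsg.Agent.Lib.H69.ICS
import Cfsg.Agent.Lib.H27.LBalTwo
import Cfsg.Agent.S0215

/-! S1315, group level forms. -/

set_option autoImplicit false
set_option linter.unusedSectionVars false
set_option linter.style.haveILetI false

open Subgroup Cfsg H26.LocalFitting H37.PCOf
open scoped commutatorElement Pointwise

universe u

namespace H69.IC

variable {G : Type u} [Group G] [Finite G]

theorem map_center {A B : Type u} [Group A] [Group B] (e : A ≃* B) :
    (center A).map (e : A →* B) = center B := by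
  ext b
  constructor
  · rintro ⟨a, ha, rfl⟩
    rw [Subgroup.mem_center_iff]
    intro g
    have h := Subgroup.mem_center_iff.mp ha (e.symm g)
    have h2 := congrArg e h
    simpa using h2
  · intro hb
    refine ⟨e.symm b, ?_, by simp⟩
    change e.symm b ∈ center A
    rw [Subgroup.mem_center_iff]
    intro g
    have h := Subgroup.mem_center_iff.mp hb (e g)
    apply e.injective
    simpa using h

theorem sq_congr {G' : Type u} [Group G'] [Finite G'] {M : Subgroup G} {M' : Subgroup G'} (e : ↥M ≃* ↥M') :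
    sq M = sq M' := by
  unfold sq
  have e1 : (↥M ⧸ pPrimeCore 2 ↥M) ≃* (↥M' ⧸ pPrimeCore 2 ↥M') :=
    QuotientGroup.congr _ _ e (H1.Cores.map_equiv_pPrimeCore 2 e)
  exact Nat.card_congr (QuotientGroup.congr _ _ e1 (map_center e1)).toEquiv

theorem big_congr {G' : Type u} [Group G'] [Finite G'] {M : Subgroup G} {M' : Subgroup G'} (e : ↥M ≃* ↥M')
    {s : ℕ} (h : Big M s) : Big M' s := by
  intro N hN hNt
  have h1 := h (N.comap (e : ↥M →* ↥M')) (hN.comap _) (by
    intro h2
    apply hNt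
    rw [eq_top_iff]
    intro x _
    have h3 : e.symm x ∈ N.comap (e : ↥M →* ↥M') := by rw [h2]; trivial
    simpa using h3)
  rwa [Subgroup.index_comap_of_surjective N e.surjective] at h1

theorem sn_subgroupOf {K Y H : Subgroup G} (h : SN K Y) (hYH : Y ≤ H) :
    SN (K.subgroupOf H) (Y.subgroupOf H) := by
  refine ⟨fun x hx => h.1 hx, ?_⟩
  let ι : (Y.subgroupOf H : Subgroup H) →* Y :=
    { toFun := fun x => ⟨((x : H) : G), x.2⟩
      map_one' := rfl
      map_mul' := fun _ _ => rfl }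
  exact h.2.comap ι

theorem pc_subgroupOf {K Y H : Subgroup G} (h : IsPComponentOf 2 K Y) (hYH : Y ≤ H) :
    IsPComponentOf 2 (K.subgroupOf H) (Y.subgroupOf H) := by
  rw [pcOf_iff] at h ⊢
  have hKH := h.1.1.trans hYH
  refine ⟨sn_subgroupOf h.1 hYH, ?_, ?_⟩
  · exact (H26.PComponents.map_equiv_quasisimple_quotient 2 (subgroupOfEquivOfLe hKH)).mpr h.2.1
  · rw [H26.OPPrime.subgroupOf_opp hKH, h.2.2]

theorem pc_map {H : Subgroup G} {K Y : Subgroup ↥H} (h : IsPComponentOf 2 K Y) :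
    IsPComponentOf 2 (K.map H.subtype) (Y.map H.subtype) := by
  rw [pcOf_iff] at h ⊢
  exact ⟨h.1.map _, h.2.map_of_injective _ H.subtype_injective⟩

/-- the element `a` in `C(z)` -/
def el {z a : G} (haz : a * z = z * a) : ↥(centralizer ({z} : Set G)) :=
  ⟨a, mem_centralizer_singleton_iff.mpr haz⟩

theorem cen_el {z a : G} (haz : a * z = z * a) :
    (centralizer ({el haz} : Set ↥(centralizer ({z} : Set G)))) =
      (centralizer ({z} : Set G) ⊓ centralizer ({a} : Set G)).subgroupOf (centralizer ({z} : Set G)) := by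
  ext x
  constructor
  · intro h
    rw [mem_centralizer_singleton_iff] at h
    exact mem_subgroupOf.mpr (mem_inf.mpr ⟨x.2, mem_centralizer_singleton_iff.mpr (congrArg Subtype.val h)⟩)
  · intro h
    rw [mem_centralizer_singleton_iff]
    exact Subtype.ext (mem_centralizer_singleton_iff.mp (mem_inf.mp (mem_subgroupOf.mp h)).2)

theorem map_cen_el {z a : G} (haz : a * z = z * a) :
    (centralizer ({el haz} : Set ↥(centralizer ({z} : Set G)))).map (centralizer ({z} : Set G)).subtype =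
      (centralizer ({z} : Set G) ⊓ centralizer ({a} : Set G)) := by
  rw [cen_el, map_subgroupOf_eq_of_le inf_le_left]

theorem pc_el {z a : G} (haz : a * z = z * a) {E : Subgroup G}
    (hE : IsPComponentOf 2 E (centralizer ({z} : Set G) ⊓ centralizer ({a} : Set G))) :
    IsPComponentOf 2 (E.subgroupOf (centralizer ({z} : Set G))) (centralizer ({el haz} : Set _)) := by
  rw [cen_el]
  exact pc_subgroupOf hE inf_le_left

theorem el_sq {z a : G} (haz : a * z = z * a) (ha : a * a = 1) : el haz * el haz = 1 :=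
  Subtype.ext ha

theorem le_player {z a : G} (ha : a * a = 1) (haz : a * z = z * a) {E : Subgroup G}
    (hE : IsPComponentOf 2 E (centralizer ({z} : Set G) ⊓ centralizer ({a} : Set G))) :
    E.subgroupOf (centralizer ({z} : Set G)) ≤ pLayer 2 ↥(centralizer ({z} : Set G)) := by
  have h1 := pc_el haz hE
  rw [pcOf_iff] at h1
  have h2 : centralizer ({el haz} : Set ↥(centralizer ({z} : Set G))) =
      centralizer ((zpowers (el haz) : Subgroup _) : Set ↥(centralizer ({z} : Set G))) := by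
    rw [zpowers_eq_closure, centralizer_closure]
  have h3 : H27.LBalTwo.PC (centralizer ((zpowers (el haz) : Subgroup _) : Set ↥(centralizer ({z} : Set G))))
      (E.subgroupOf (centralizer ({z} : Set G))) := by
    rw [← h2]
    exact ⟨h1.1.1, h1.1.2, h1.2.1, h1.2.2⟩
  refine H27.LBalTwo.PC.le_pLayer (fun G _ _ P u h1 h2 h3 => Cfsg.Agent.S0215.result P u h1 h2 h3) ?_ h3
  apply IsPGroup.of_card_dvd_pow (n := 1)
  rw [Nat.card_zpowers, pow_one]
  exact orderOf_dvd_of_pow_eq_one (by rw [pow_two]; exact el_sq haz ha)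

theorem norm_sub {H K E : Subgroup G} (hK : K ≤ H) (hE : E ≤ H)
    (h : E.subgroupOf H ≤ normalizer ((K.subgroupOf H : Subgroup H) : Set H)) :
    E ≤ normalizer (K : Set G) := by
  intro e he
  have h1 := h (show (⟨e, hE he⟩ : H) ∈ E.subgroupOf H from he)
  rw [mem_normalizer_iff] at h1 ⊢
  intro x
  constructor
  · intro hx
    exact (h1 ⟨x, hK hx⟩).mp hx
  · intro hx
    have h2 : e⁻¹ * (e * x * e⁻¹) * e = x := by group
    have h3 : x ∈ H := by
      rw [← h2]
      exact H.mul_mem (H.mul_mem (H.inv_mem (hE he)) (hK hx)) (hE he)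
    exact (h1 ⟨x, h3⟩).mpr hx

theorem le_norm {z a : G} (ha : a * a = 1) (haz : a * z = z * a) {E K : Subgroup G}
    (hE : IsPComponentOf 2 E (centralizer ({z} : Set G) ⊓ centralizer ({a} : Set G)))
    (hK : IsPComponentOf 2 K (centralizer ({z} : Set G))) : E ≤ normalizer (K : Set G) := by
  apply norm_sub hK.1 (hE.1.trans inf_le_left)
  exact (le_player ha haz hE).trans (H26.PComponents.pLayer_le_normalizer hK.2)

theorem mem_ppc_iff {H : Subgroup G} {x : G} (hx : x ∈ H) :
    x ∈ ppc 2 H ↔ (⟨x, hx⟩ : H) ∈ pPrimeCore 2 H := by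
  unfold ppc
  constructor
  · rintro ⟨y, hy, hyx⟩
    have : y = ⟨x, hx⟩ := Subtype.ext hyx
    rwa [← this]
  · intro h
    exact ⟨_, h, rfl⟩

theorem comm_sub {H K E : Subgroup G} (hK : K ≤ H) (hE : E ≤ H)
    (h : ⁅E.subgroupOf H, K.subgroupOf H⁆ ≤ pPrimeCore 2 H) : ⁅E, K⁆ ≤ ppc 2 H := by
  have h1 := Subgroup.map_mono (f := H.subtype) h
  rwa [Subgroup.map_commutator, map_subgroupOf_eq_of_le hK, map_subgroupOf_eq_of_le hE] at h1

/-- dichotomy -/
theorem dichG {z a : G} (ha : a * a = 1) (haz : a * z = z * a) {K E : Subgroup G}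
    (hK : IsPComponentOf 2 K (centralizer ({z} : Set G))) (haK : a ∈ normalizer (K : Set G))
    (hE : IsPComponentOf 2 E (centralizer ({z} : Set G) ⊓ centralizer ({a} : Set G)))
    (hbig : Big E (sq K)) :
    ⁅E, K⁆ ≤ ppc 2 (centralizer ({z} : Set G)) ∨
      ∀ k ∈ K, a * k * a⁻¹ * k⁻¹ ∈ ppc 2 (centralizer ({z} : Set G)) := by
  set H := centralizer ({z} : Set G) with hH
  have hEH : E ≤ H := hE.1.trans inf_le_left
  have h1 := dich (M := K.subgroupOf H) (E := E.subgroupOf H) (t := el haz) hK.2 ?_ ?_ (le_player ha haz hE) ?_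
  · rcases h1 with h1 | h1
    · exact Or.inl (comm_sub hK.1 hEH h1)
    · right
      intro k hk
      have h2 := h1 ⟨k, hK.1 hk⟩ hk
      exact ⟨_, h2, rfl⟩
  · rw [mem_normalizer_iff] at haK ⊢
    intro x
    exact haK x
  · intro e he
    have h2 := hE.1 he
    have h3 := mem_centralizer_singleton_iff.mp (mem_inf.mp h2).2
    exact Subtype.ext h3
  · have h2 : sq (K.subgroupOf H) = sq K := sq_congr (subgroupOfEquivOfLe hK.1)
    rw [h2]
    exact big_congr (subgroupOfEquivOfLe hEH).symm hbig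

theorem diagG {z a : G} (ha : a * a = 1) (haz : a * z = z * a) {K : Subgroup G}
    (hK : IsPComponentOf 2 K (centralizer ({z} : Set G))) (haK : a ∉ normalizer (K : Set G)) :
    ∃ E : Subgroup G, IsPComponentOf 2 E (centralizer ({z} : Set G) ⊓ centralizer ({a} : Set G)) ∧
      Big E (sq K) ∧
      (∀ m ∈ K, ∃ e ∈ E, (m * (a * m * a⁻¹)) * e⁻¹ ∈ ppc 2 (centralizer ({z} : Set G))) ∧
      (∀ e ∈ E, ∃ m ∈ K, (m * (a * m * a⁻¹)) * e⁻¹ ∈ ppc 2 (centralizer ({z} : Set G))) := by
  set H := centralizer ({z} : Set G) with hH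
  obtain ⟨E, h1, h2, h3, h4⟩ := diag_comp (t := el haz) (el_sq haz ha) (M := K.subgroupOf H) hK.2 (by
    intro h
    apply haK
    have h5 := norm_sub (H := H) (K := K) (E := zpowers a) hK.1
      (zpowers_le.mpr (mem_centralizer_singleton_iff.mpr haz)) (by
        have h6 : (zpowers a).subgroupOf H ≤ zpowers (el haz) := by
          rintro x hx
          obtain ⟨n, hn⟩ := mem_zpowers_iff.mp (mem_subgroupOf.mp hx)
          exact mem_zpowers_iff.mpr ⟨n, Subtype.ext (by simpa [el] using hn)⟩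
        exact h6.trans (zpowers_le.mpr h))
    exact h5 (mem_zpowers a))
  refine ⟨E.map H.subtype, ?_, ?_, ?_, ?_⟩
  · have h5 := pc_map h1
    rwa [map_cen_el] at h5
  · have h6 : sq (K.subgroupOf H) = sq K := sq_congr (subgroupOfEquivOfLe hK.1)
    rw [← h6]
    exact big_congr (E.equivMapOfInjective _ H.subtype_injective) h2
  · intro m hm
    obtain ⟨e, he, h7⟩ := h3 ⟨m, hK.1 hm⟩ hm
    exact ⟨e, ⟨e, he, rfl⟩, ⟨_, h7, rfl⟩⟩
  · rintro _ ⟨e, he, rfl⟩
    obtain ⟨m, hm, h7⟩ := h4 e he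
    exact ⟨m, hm, ⟨_, h7, rfl⟩⟩

theorem trivG {z a : G} (ha : a * a = 1) (haz : a * z = z * a) {K : Subgroup G}
    (hK : IsPComponentOf 2 K (centralizer ({z} : Set G)))
    (htr : ∀ k ∈ K, a * k * a⁻¹ * k⁻¹ ∈ ppc 2 (centralizer ({z} : Set G))) :
    ∃ E : Subgroup G, E ≤ K ∧ IsPComponentOf 2 E (centralizer ({z} : Set G) ⊓ centralizer ({a} : Set G)) ∧
      Big E (sq K) ∧ ∀ k ∈ K, k * a = a * k → (∃ n : ℕ, k ^ 2 ^ n = 1) → k ∈ E := by
  set H := centralizer ({z} : Set G) with hH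
  obtain ⟨E, h0, h1, h2, h3⟩ := triv_comp (t := el haz) (el_sq haz ha) (M := K.subgroupOf H) hK.2 (by
    intro m hm
    have h4 := htr m hm
    have h5 : a * m * a⁻¹ * (m : G)⁻¹ ∈ H := ppc_le 2 H h4
    exact (mem_ppc_iff h5).mp h4)
  refine ⟨E.map H.subtype, ?_, ?_, ?_, ?_⟩
  · have h4 := Subgroup.map_mono (f := H.subtype) h0
    rwa [map_subgroupOf_eq_of_le hK.1] at h4
  · have h5 := pc_map h1
    rwa [map_cen_el] at h5
  · have h6 : sq (K.subgroupOf H) = sq K := sq_congr (subgroupOfEquivOfLe hK.1)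
    rw [← h6]
    exact big_congr (E.equivMapOfInjective _ H.subtype_injective) h2
  · intro k hk hka hk2
    obtain ⟨n, hn⟩ := hk2
    exact ⟨⟨k, hK.1 hk⟩, h3 ⟨k, hK.1 hk⟩ hk (Subtype.ext hka) ⟨n, Subtype.ext hn⟩, rfl⟩

theorem mem_of {z a x e : G} {E : Subgroup G}
    (hE : IsPComponentOf 2 E (centralizer ({z} : Set G) ⊓ centralizer ({a} : Set G)))
    (hx : x ∈ centralizer ({z} : Set G) ⊓ centralizer ({a} : Set G)) (hx2 : ∃ n : ℕ, x ^ 2 ^ n = 1)
    (he : e ∈ E) (hxe : x * e⁻¹ ∈ ppc 2 (centralizer ({z} : Set G))) : x ∈ E := by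
  set H := centralizer ({z} : Set G) with hH
  set C := H ⊓ centralizer ({a} : Set G) with hC
  have ho : x * e⁻¹ ∈ ppc 2 C := by
    have h1 : ppc 2 H ⊓ C ≤ ppc 2 C := by
      apply le_ppc inf_le_right
      · intro g hg
        rw [mem_normalizer_iff]
        have hn : g ∈ normalizer ((ppc 2 H : Subgroup G) : Set G) := by
          have := H26.LocalFitting.normalizer_le_normalizer_ppc 2 H
          exact this (Subgroup.le_normalizer (mem_inf.mp hg).1)
        intro y
        have h5 := mem_normalizer_iff.mp hn y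
        have h6 := mem_normalizer_iff.mp (Subgroup.le_normalizer hg) y
        exact ⟨fun h => mem_inf.mpr ⟨h5.mp (mem_inf.mp h).1, h6.mp (mem_inf.mp h).2⟩,
          fun h => mem_inf.mpr ⟨h5.mpr (mem_inf.mp h).1, h6.mpr (mem_inf.mp h).2⟩⟩
      · exact Nat.Coprime.coprime_dvd_left (card_dvd_of_le inf_le_left) (card_ppc 2 H)
    exact h1 (mem_inf.mpr ⟨hxe, C.mul_mem hx (C.inv_mem (hE.1 he))⟩)
  have h2 := H26.PComponents.eq_opp hE.2
  have h3 : (⟨x, hx⟩ : C) ∈ E.subgroupOf C := by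
    rw [h2]
    obtain ⟨n, hn⟩ := hx2
    refine H26.OPPrime.mem_opp ?_ ⟨n, Subtype.ext hn⟩
    have h4 : (⟨x, hx⟩ : C) = ⟨x * e⁻¹, C.mul_mem hx (C.inv_mem (hE.1 he))⟩ * ⟨e, hE.1 he⟩ :=
      Subtype.ext (by simp)
    rw [h4]
    exact mul_mem (mem_sup_right ((mem_ppc_iff _).mp ho)) (mem_sup_left he)
  exact h3

end H69.IC
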