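import Cfsg.Agent.Lib.H69.IC1

/-! S1315, part (ii). -/

set_option autoImplicit false
set_option linter.unusedSectionVars false
set_option linter.style.haveILetI false

open Subgroup Cfsg H26.LocalFitting H37.PCOf
open scoped commutatorElement Pointwise

universe u

namespace H69.IC

variable {G : Type u} [Group G] [Finite G] {z u a : G} {J K : Subgroup G}

theorem mem_smul_iff {H : Subgroup G} {g x : G} : x ∈ MulAut.conj g • H ↔ g⁻¹ * x * g ∈ H := by
  rw [Subgroup.mem_pointwise_smul_iff_inv_smul_mem]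
  rw [← map_inv, MulAut.smul_def, MulAut.conj_apply, inv_inv]

theorem conj_mem_smul {H : Subgroup G} {g x : G} (hx : x ∈ H) : g * x * g⁻¹ ∈ MulAut.conj g • H := by
  rw [mem_smul_iff]
  have : g⁻¹ * (g * x * g⁻¹) * g = x := by group
  rw [this]; exact hx

theorem ppc_smul (H : Subgroup G) (g : G) : ppc 2 (MulAut.conj g • H) = MulAut.conj g • ppc 2 H := by
  change ppc 2 (H.map (MulAut.conj g).toMonoidHom) = (ppc 2 H).map (MulAut.conj g).toMonoidHom
  unfold H26.LocalFitting.ppc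
  have h := H1.Cores.map_equiv_pPrimeCore 2
    (H.equivMapOfInjective (MulAut.conj g).toMonoidHom (MulAut.conj g).injective)
  rw [← h, Subgroup.map_map, Subgroup.map_map]
  rfl

theorem smul_cent (z g : G) : MulAut.conj g • centralizer ({z} : Set G) = centralizer ({g * z * g⁻¹} : Set G) := by
  ext x
  rw [mem_smul_iff, mem_centralizer_singleton_iff, mem_centralizer_singleton_iff]
  constructor
  · intro h
    calc x * (g * z * g⁻¹) = g * ((g⁻¹ * x * g) * z) * g⁻¹ := by group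
      _ = g * (z * (g⁻¹ * x * g)) * g⁻¹ := by rw [h]
      _ = _ := by group
  · intro h
    calc g⁻¹ * x * g * z = g⁻¹ * (x * (g * z * g⁻¹)) * g := by group
      _ = g⁻¹ * (g * z * g⁻¹ * x) * g := by rw [h]
      _ = _ := by group

theorem Dat.sq_one (h : Dat z K) : z * z = 1 := by
  have := pow_orderOf_eq_one z
  rwa [h.ord, pow_two] at this

theorem Dat.ne_one (h : Dat z K) : z ≠ 1 := by
  intro h1
  have := h.ord
  rw [h1, orderOf_one] at this
  omega

theorem Dat.comm (h : Dat z K) (ha : a ∈ normalizer (K : Set G)) : a * z = z * a := by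
  have h1 : a * z * a⁻¹ ∈ K := (mem_normalizer_iff.mp ha z).mp h.mem
  have h2 : a * z * a⁻¹ = z := h.uniq _ h1 (by
    rw [← h.ord]
    have := orderOf_injective (MulAut.conj a).toMonoidHom (MulAut.conj a).injective z
    simpa using this)
  calc a * z = (a * z * a⁻¹) * a := by group
    _ = z * a := by rw [h2]

theorem Dat.conj (h : Dat z K) (g : G) : Dat (g * z * g⁻¹) (MulAut.conj g • K) where
  ord := by
    rw [← h.ord]
    have := orderOf_injective (MulAut.conj g).toMonoidHom (MulAut.conj g).injective z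
    simpa using this
  mem := conj_mem_smul h.mem
  uniq := by
    intro t ht ht2
    rw [mem_smul_iff] at ht
    have h1 : g⁻¹ * t * g = z := h.uniq _ ht (by
      rw [← ht2]
      have := orderOf_injective (MulAut.conj g⁻¹).toMonoidHom (MulAut.conj g⁻¹).injective t
      simpa using this)
    rw [← h1]; group
  pc := by
    have h1 := smul_pc h.pc g
    rwa [smul_cent] at h1
  cen := by
    intro k hk hm
    rw [mem_smul_iff] at hk
    rw [← smul_cent, ppc_smul, mem_smul_iff]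
    have h1 := h.cen _ hk (by
      intro m hmK
      have h2 := hm _ (conj_mem_smul (g := g) hmK)
      rw [← smul_cent, ppc_smul, mem_smul_iff] at h2
      have h3 : g⁻¹ * (k * (g * m * g⁻¹) * k⁻¹ * (g * m * g⁻¹)⁻¹) * g =
          g⁻¹ * k * g * m * (g⁻¹ * k * g)⁻¹ * m⁻¹ := by group
      rwa [h3] at h2)
    have h3 : g⁻¹ * (k * k) * g = g⁻¹ * k * g * (g⁻¹ * k * g) := by group
    rwa [h3]

/-- the elements of `H` centralizing `K` modulo `O(H)` -/
def cm (H K : Subgroup G) : Subgroup G where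
  carrier := {x | x ∈ H ∧ ∀ n ∈ K, x * n * x⁻¹ * n⁻¹ ∈ ppc 2 H}
  mul_mem' := by
    rintro x y ⟨hx, hx'⟩ ⟨hy, hy'⟩
    refine ⟨H.mul_mem hx hy, fun n hn => ?_⟩
    have h1 : x * y * n * (x * y)⁻¹ * n⁻¹ = (x * (y * n * y⁻¹ * n⁻¹) * x⁻¹) * (x * n * x⁻¹ * n⁻¹) := by group
    rw [h1]
    have h2 := H26.LocalFitting.normalizer_le_normalizer_ppc 2 H (Subgroup.le_normalizer hx)
    exact mul_mem ((mem_normalizer_iff.mp h2 _).mp (hy' n hn)) (hx' n hn)
  one_mem' := ⟨H.one_mem, fun n _ => by simp⟩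
  inv_mem' := by
    rintro x ⟨hx, hx'⟩
    refine ⟨H.inv_mem hx, fun n hn => ?_⟩
    have h1 : x⁻¹ * n * x⁻¹⁻¹ * n⁻¹ = x⁻¹ * (x * n * x⁻¹ * n⁻¹)⁻¹ * x⁻¹⁻¹ := by group
    rw [h1]
    have h2 := H26.LocalFitting.normalizer_le_normalizer_ppc 2 H (Subgroup.le_normalizer (H.inv_mem hx))
    exact (mem_normalizer_iff.mp h2 _).mp (inv_mem (hx' n hn))

theorem mem_cm {H K : Subgroup G} {x : G} : x ∈ cm H K ↔ x ∈ H ∧ ∀ n ∈ K, x * n * x⁻¹ * n⁻¹ ∈ ppc 2 H := Iff.rfl

theorem le_cm {H K L : Subgroup G} (hL : L ≤ H) (h : ⁅L, K⁆ ≤ ppc 2 H) : L ≤ cm H K :=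
  fun _ hx => ⟨hL hx, fun _ hn => h (commutator_mem_commutator hx hn)⟩

theorem ppc_le_cm {H K : Subgroup G} (hK : K ≤ H) : ppc 2 H ≤ cm H K := by
  intro x hx
  refine ⟨ppc_le 2 H hx, fun n hn => ?_⟩
  have h2 := H26.LocalFitting.normalizer_le_normalizer_ppc 2 H (Subgroup.le_normalizer (hK hn))
  have h1 : x * n * x⁻¹ * n⁻¹ = x * (n * x⁻¹ * n⁻¹) := by group
  rw [h1]
  exact mul_mem hx ((mem_normalizer_iff.mp h2 _).mp (inv_mem hx))

theorem not_le_cm {H K : Subgroup G} (hK : IsPComponentOf 2 K H) : ¬ K ≤ cm H K := by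
  intro h
  have hq := (pcOf_iff.mp hK).2
  have h1 : ⁅K, K⁆ ≤ ppc 2 H := by
    rw [Subgroup.commutator_le]
    intro x hx y hy
    exact (h hx).2 y hy
  rw [hq.commutator_self] at h1
  exact hq.not_le (card_ppc 2 H) h1

/-- stability of a `2`-component of `C(z) ∩ C(a)` commuting with `K` under elements of `K` -/
theorem stab {E : Subgroup G} {y : G}
    (hE : IsPComponentOf 2 E (centralizer ({z} : Set G) ⊓ centralizer ({a} : Set G)))
    (hEK : ⁅E, K⁆ ≤ ppc 2 (centralizer ({z} : Set G))) (hy : y ∈ K)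
    (hyC : y ∈ centralizer ({z} : Set G) ⊓ centralizer ({a} : Set G)) : ∀ x ∈ E, y * x * y⁻¹ ∈ E := by
  have h1 := (pcOf_iff.mp hE).2.2
  have h2 : H26.OPPrime.opp 2 E ≤ E.comap (MulAut.conj y).toMonoidHom := by
    rw [H26.OPPrime.opp, closure_le]
    rintro x ⟨hx, n, hn⟩
    change y * x * y⁻¹ ∈ E
    refine mem_of hE (mul_mem (mul_mem hyC (hE.1 hx)) (inv_mem hyC)) ⟨n, ?_⟩ hx ?_
    · rw [conj_pow, hn]; simp
    · rw [commutator_comm] at hEK
      exact hEK (commutator_mem_commutator hy hx)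
  intro x hx
  have h3 : x ∈ H26.OPPrime.opp 2 E := by rw [h1]; exact hx
  exact h2 h3

end H69.IC
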