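import Cfsg.Agent.Lib.H69.IC2

/-! S1315, part (ii). -/

set_option autoImplicit false
set_option linter.unusedSectionVars false
set_option linter.style.haveILetI false

open Subgroup Cfsg H26.LocalFitting H37.PCOf
open scoped commutatorElement Pointwise

universe u

namespace H69.IC

variable {G : Type u} [Group G] [Finite G] {J K : Subgroup G}

theorem eq_one_of_ppc {H : Subgroup G} {x : G} (hx : x ∈ ppc 2 H) (hx2 : ∃ n : ℕ, x ^ 2 ^ n = 1) : x = 1 := by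
  obtain ⟨n, hn⟩ := hx2
  have h1 : orderOf x ∣ 2 ^ n := orderOf_dvd_of_pow_eq_one hn
  have h2 : orderOf x ∣ Nat.card (ppc 2 H) := Subgroup.orderOf_dvd_natCard _ hx
  have h3 : Nat.Coprime (2 ^ n) (Nat.card (ppc 2 H)) := Nat.Coprime.pow_left n (card_ppc 2 H).symm
  exact orderOf_eq_one_iff.mp (Nat.Coprime.eq_one_of_dvd (Nat.Coprime.coprime_dvd_left h1 h3) h2)

theorem ppc_conj {H : Subgroup G} {g x : G} (hg : g ∈ H) (hx : x ∈ ppc 2 H) : g * x * g⁻¹ ∈ ppc 2 H :=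
  (mem_normalizer_iff.mp (H26.LocalFitting.normalizer_le_normalizer_ppc 2 H (Subgroup.le_normalizer hg)) _).mp hx

/-- a 2-element of `K` other than `1, z` has a power squaring to `z` -/
theorem exists_pow_sq {z : G} (hK : Dat z K) {x : G} (hx : x ∈ K) (hx1 : x ≠ 1) (hxz : x ≠ z)
    (hx2 : ∃ n : ℕ, x ^ 2 ^ n = 1) : ∃ m : ℕ, x ^ m * x ^ m = z := by
  obtain ⟨n, hn⟩ := hx2
  obtain ⟨k, -, hk⟩ := (Nat.dvd_prime_pow Nat.prime_two).mp (orderOf_dvd_of_pow_eq_one hn)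
  match k, hk with
  | 0, hk => exact absurd (orderOf_eq_one_iff.mp (by simpa using hk)) hx1
  | 1, hk => exact absurd (hK.uniq x hx (by simpa using hk)) hxz
  | k + 2, hk =>
    refine ⟨2 ^ k, ?_⟩
    rw [← pow_add]
    apply hK.uniq _ (K.pow_mem hx _)
    have h1 : 2 ^ k + 2 ^ k = 2 ^ (k + 1) := by ring
    rw [h1, orderOf_pow' x (by positivity), hk]
    have h2 : Nat.gcd (2 ^ (k + 2)) (2 ^ (k + 1)) = 2 ^ (k + 1) :=
      Nat.gcd_eq_right (pow_dvd_pow 2 (by omega))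
    rw [h2, pow_succ 2 (k + 1)]
    exact Nat.mul_div_cancel_left 2 (by positivity)

theorem no_root {u z y : G} (hJ : Dat u J) (hK : Dat z K) (huz' : u * z = z * u)
    (hzJ : z ∉ normalizer (J : Set G)) {E : Subgroup G}
    (hE' : IsPComponentOf 2 E (centralizer ({z} : Set G) ⊓ centralizer ({u} : Set G)))
    (hE1 : ∀ m ∈ J, ∃ e ∈ E, (m * (z * m * z⁻¹)) * e⁻¹ ∈ ppc 2 (centralizer ({u} : Set G)))
    (hE2 : ∀ e ∈ E, ∃ m ∈ J, (m * (z * m * z⁻¹)) * e⁻¹ ∈ ppc 2 (centralizer ({u} : Set G)))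
    (hβ : ⁅E, K⁆ ≤ ppc 2 (centralizer ({z} : Set G)))
    (hy : y ∈ K) (hyy : y * y = z) (hyu : y * u = u * y) : False := by
  set Cu := centralizer ({u} : Set G) with hCu
  set Cz := centralizer ({z} : Set G) with hCz
  have hyCu : y ∈ Cu := mem_centralizer_singleton_iff.mpr hyu
  have hzCu : z ∈ Cu := mem_centralizer_singleton_iff.mpr huz'.symm
  have hyCz : y ∈ Cz := hK.pc.1 hy
  have hst := stab hE' hβ hy (mem_inf.mpr ⟨hyCz, hyCu⟩)
  have hyJ : y ∉ normalizer (J : Set G) := fun h => hzJ (by rw [← hyy]; exact mul_mem h h)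
  have hJ1 := smul_pc' hJ.pc (g := y) (Subgroup.le_normalizer hyCu)
  have hJ2 := smul_pc' hJ.pc (g := z) (Subgroup.le_normalizer hzCu)
  have hJ3 := smul_pc' hJ.pc (g := y * z) (Subgroup.le_normalizer (Cu.mul_mem hyCu hzCu))
  have h01 : J ≠ MulAut.conj y • J := fun h => hyJ (mem_normalizer_of_smul_eq h.symm)
  have h21 : MulAut.conj z • J ≠ MulAut.conj y • J := by
    intro h
    have h1 : MulAut.conj (z⁻¹ * y) • J = J := by
      rw [map_mul, mul_smul, ← h, ← mul_smul, ← map_mul, inv_mul_cancel, map_one, one_smul]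
    have h2 : z⁻¹ * y = y⁻¹ := by rw [← hyy]; group
    rw [h2] at h1
    have h3 := inv_mem (mem_normalizer_of_smul_eq h1)
    rw [inv_inv] at h3
    exact hyJ h3
  have h31 : MulAut.conj (y * z) • J ≠ MulAut.conj y • J := by
    intro h
    rw [map_mul, mul_smul] at h
    have h1 := smul_left_cancel _ h
    exact hzJ (mem_normalizer_of_smul_eq h1)
  have c0 : J ≤ cm Cu (MulAut.conj y • J) := le_cm hJ.pc.1 (H37.PCOf.commutator_le hJ.pc hJ1 h01)
  have c2 : MulAut.conj z • J ≤ cm Cu (MulAut.conj y • J) := le_cm hJ2.1 (H37.PCOf.commutator_le hJ2 hJ1 h21)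
  have c3 : MulAut.conj (y * z) • J ≤ cm Cu (MulAut.conj y • J) :=
    le_cm hJ3.1 (H37.PCOf.commutator_le hJ3 hJ1 h31)
  have cO : ppc 2 Cu ≤ cm Cu (MulAut.conj y • J) := ppc_le_cm hJ1.1
  apply not_le_cm hJ1
  intro x hx
  have hj := mem_smul_iff.mp hx
  obtain ⟨j, hjeq⟩ : ∃ j, j = y⁻¹ * x * y := ⟨_, rfl⟩
  have hx' : x = y * j * y⁻¹ := by rw [hjeq]; group
  rw [← hjeq] at hj
  obtain ⟨e, he, h1⟩ := hE1 j hj
  obtain ⟨m, hm, h2⟩ := hE2 (y * e * y⁻¹) (hst e he)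
  have hx3 : x = (y * ((j * (z * j * z⁻¹)) * e⁻¹) * y⁻¹) * ((m * (z * m * z⁻¹)) * (y * e * y⁻¹)⁻¹)⁻¹ *
      (m * (z * m * z⁻¹)) * ((y * z) * j * (y * z)⁻¹)⁻¹ := by rw [hx']; group
  rw [hx3]
  refine mul_mem (mul_mem (mul_mem (cO (ppc_conj hyCu h1)) (inv_mem (cO h2))) (mul_mem (c0 hm) (c2 (conj_mem_smul hm))))
    (inv_mem (c3 (conj_mem_smul hj)))

end H69.IC
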