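import Cfsg.Agent.Lib.H69.IC3

/-! S1315, part (ii), conclusion. -/

set_option autoImplicit false
set_option linter.unusedSectionVars false
set_option linter.style.haveILetI false

open Subgroup Cfsg H26.LocalFitting H37.PCOf
open scoped commutatorElement Pointwise

universe u

namespace H69.IC

variable {G : Type u} [Group G] [Finite G] {J K : Subgroup G}

theorem isPGroup_sup {a b : G} (ha : a * a = 1) (hb : b * b = 1) (hab : a * b = b * a) :
    IsPGroup 2 (zpowers a ⊔ zpowers b : Subgroup G) := by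
  have h1 : IsPGroup 2 (zpowers a) := by
    apply IsPGroup.of_card_dvd_pow (n := 1)
    rw [Nat.card_zpowers, pow_one]
    exact orderOf_dvd_of_pow_eq_one (by rw [pow_two]; exact ha)
  have h2 : IsPGroup 2 (zpowers b) := by
    apply IsPGroup.of_card_dvd_pow (n := 1)
    rw [Nat.card_zpowers, pow_one]
    exact orderOf_dvd_of_pow_eq_one (by rw [pow_two]; exact hb)
  have h3 : zpowers a ≤ normalizer (zpowers b : Set G) := by
    rw [zpowers_le]
    apply Subgroup.centralizer_le_normalizer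
    rw [mem_centralizer_iff]
    intro x hx
    obtain ⟨n, rfl⟩ := mem_zpowers_iff.mp hx
    have h4 : Commute a b := hab
    exact ((h4.zpow_right n).eq).symm
  exact IsPGroup.to_sup_of_normal_right' h1 h2 h3

theorem part2 {u z : G} (hJ : Dat u J) (hK : Dat z K) (hs : sq J = sq K) (huz : u ≠ z)
    (huK : u ∈ normalizer (K : Set G)) : z ∈ normalizer (J : Set G) := by
  have hu1 := hJ.sq_one
  have hz1 := hK.sq_one
  have huz' : u * z = z * u := hK.comm huK
  have hzu : z ∈ centralizer ({u} : Set G) := mem_centralizer_singleton_iff.mpr huz'.symm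
  have hucz : u ∈ centralizer ({z} : Set G) := mem_centralizer_singleton_iff.mpr huz'
  by_contra hzJ
  obtain ⟨E, hE, hEb, hE1, hE2⟩ := diagG hz1 huz'.symm hJ.pc hzJ
  have hE' : IsPComponentOf 2 E (centralizer ({z} : Set G) ⊓ centralizer ({u} : Set G)) := by
    rw [inf_comm]; exact hE
  rw [hs] at hEb
  have hβ : ⁅E, K⁆ ≤ ppc 2 (centralizer ({z} : Set G)) := by
    rcases dichG hu1 huz' hK.pc huK hE' hEb with hβ | hα
    · exact hβ
    · exfalso
      obtain ⟨E', -, hE'c, -, hE'm⟩ := trivG hu1 huz' hK.pc hα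
      have hzE' : z ∈ E' := hE'm z hK.mem huz'.symm ⟨1, by rw [pow_one, pow_two]; exact hz1⟩
      have hE'c' : IsPComponentOf 2 E' (centralizer ({u} : Set G) ⊓ centralizer ({z} : Set G)) := by
        rw [inf_comm]; exact hE'c
      exact hzJ (le_norm hz1 huz'.symm hE'c' hJ.pc hzE')
  have hno : ∀ y ∈ K, y * y = z → y * u = u * y → False := fun y hy hyy hyu =>
    no_root hJ hK huz' hzJ hE' hE1 hE2 hβ hy hyy hyu
  -- the elements `v`, `e`
  obtain ⟨v, hv, hvv, hvc⟩ := exists_comm_sqrt hJ hz1 huz'.symm hzJ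
  obtain ⟨v', hv'⟩ : ∃ v', v' = z * v * z⁻¹ := ⟨_, rfl⟩
  rw [← hv'] at hvc
  have hzi : z⁻¹ = z := (eq_inv_of_mul_eq_one_left hz1).symm
  have hui : u⁻¹ = u := (eq_inv_of_mul_eq_one_left hu1).symm
  have huv : u * v = v * u := by rw [← hvv]; group
  have hv'v' : v' * v' = u := by
    rw [hv']
    calc z * v * z⁻¹ * (z * v * z⁻¹) = z * (v * v) * z⁻¹ := by group
      _ = u * z * z⁻¹ := by rw [hvv, huz']
      _ = u := by group
  have huv' : u * v' = v' * u := by rw [← hv'v']; group
  have hzv : z * v = v' * z := by rw [hv']; group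
  have hzv' : z * v' = v * z := by
    rw [hv']
    calc z * (z * v * z⁻¹) = (z * z) * v * z⁻¹ := by group
      _ = v * z := by rw [hz1, hzi, one_mul]
  obtain ⟨e, he⟩ : ∃ e, e = v * v' := ⟨_, rfl⟩
  have hee : e * e = 1 := by
    rw [he]
    calc v * v' * (v * v') = v * (v' * v) * v' := by group
      _ = (v * v) * (v' * v') := by rw [← hvc]; group
      _ = 1 := by rw [hvv, hv'v', hu1]
  have hue : u * e = e * u := by
    rw [he]
    calc u * (v * v') = (u * v) * v' := by group
      _ = v * (u * v') := by rw [huv]; group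
      _ = v * v' * u := by rw [huv']; group
  have hze : z * e = e * z := by
    rw [he]
    calc z * (v * v') = (z * v) * v' := by group
      _ = v' * (z * v') := by rw [hzv]; group
      _ = (v' * v) * z := by rw [hzv']; group
      _ = v * v' * z := by rw [hvc]
  have hev : e * v = v * e := by
    rw [he]
    calc v * v' * v = v * (v' * v) := by group
      _ = v * (v * v') := by rw [hvc]
  have heu : e ∈ centralizer ({u} : Set G) := mem_centralizer_singleton_iff.mpr hue.symm
  have hez : e ∈ centralizer ({z} : Set G) := mem_centralizer_singleton_iff.mpr hze.symm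
  have heE : e ∈ E := by
    obtain ⟨e0, he0, h1⟩ := hE1 v hv
    rw [← hv', ← he] at h1
    exact mem_of hE (mem_inf.mpr ⟨heu, hez⟩) ⟨1, by rw [pow_one, pow_two]; exact hee⟩ he0 h1
  have heK : e ∈ normalizer (K : Set G) := le_norm hu1 huz' hE' hK.pc heE
  have heJ : e ∈ normalizer (J : Set G) := le_norm hz1 huz'.symm hE hJ.pc heE
  -- the element `x`
  have hKp : ⁅K, K⁆ = K := (pcOf_iff.mp hK.pc).2.commutator_self
  obtain ⟨S, hS2, hSK, hAS, hzS, -, hx0⟩ := exists_sqrt hKp hK.ord hK.mem hK.uniq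
    (zpowers u ⊔ zpowers e) (isPGroup_sup hu1 hee hue)
    (sup_le (zpowers_le.mpr huK) (zpowers_le.mpr heK))
  have hS2' : ∀ x ∈ S, ∃ n : ℕ, x ^ 2 ^ n = 1 := by
    intro x hx
    obtain ⟨n, hn⟩ := isPGroup_iff_pow_pow_eq_one.mp hS2 ⟨x, hx⟩
    exact ⟨n, by simpa using congrArg Subtype.val hn⟩
  obtain ⟨x, hxS, hx1, hxz, hx⟩ := hx0 u (mem_sup_left (mem_zpowers u))
  have hxK : x ∈ K := hSK hxS
  have hzx : z * x = x * z := (mem_centralizer_singleton_iff.mp (hK.pc.1 hxK)).symm
  have hux : u * x = x * z * u := by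
    rcases hx with hx | hx
    · exfalso
      obtain ⟨m, hm⟩ := exists_pow_sq hK hxK hx1 hxz (hS2' x hxS)
      refine hno (x ^ m) (K.pow_mem hxK m) hm ?_
      have h1 : Commute x u := by
        change x * u = u * x
        calc x * u = (u * x * u⁻¹) * u := by rw [hx]
          _ = u * x := by group
      exact (h1.pow_left m).eq
    · calc u * x = (u * x * u⁻¹) * u := by group
        _ = x * z * u := by rw [hx]
  have hex : e * x = x * e := by
    have h1 : e * x * e⁻¹ * x⁻¹ ∈ S := by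
      have h2 := hAS (mem_sup_right (mem_zpowers e))
      exact mul_mem ((mem_normalizer_iff.mp h2 x).mp hxS) (inv_mem hxS)
    have h3 : e * x * e⁻¹ * x⁻¹ ∈ ppc 2 (centralizer ({z} : Set G)) :=
      hβ (commutator_mem_commutator heE hxK)
    have h4 := eq_one_of_ppc h3 (hS2' _ h1)
    calc e * x = (e * x * e⁻¹ * x⁻¹) * (x * e) := by group
      _ = x * e := by rw [h4, one_mul]
  -- the conjugate of `K`
  obtain ⟨g, hg⟩ : ∃ g, g = (v * x)⁻¹ := ⟨_, rfl⟩
  have hvz : v⁻¹ * z * v = u * e * z := by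
    have h1 : v⁻¹ = u * v := by
      rw [inv_eq_iff_mul_eq_one, ← mul_assoc, ← huv, mul_assoc, hvv, hu1]
    calc v⁻¹ * z * v = v⁻¹ * (z * v) := by group
      _ = u * (v * v') * z := by rw [hzv, h1]; group
      _ = _ := by rw [← he]
  have hxu : x⁻¹ * u * x = z * u := by
    calc x⁻¹ * u * x = x⁻¹ * (u * x) := by group
      _ = x⁻¹ * (x * z * u) := by rw [hux]
      _ = z * u := by group
  have hxe : x⁻¹ * e * x = e := by
    calc x⁻¹ * e * x = x⁻¹ * (e * x) := by group
      _ = x⁻¹ * (x * e) := by rw [hex]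
      _ = e := by group
  have hxz' : x⁻¹ * z * x = z := by
    calc x⁻¹ * z * x = x⁻¹ * (z * x) := by group
      _ = x⁻¹ * (x * z) := by rw [hzx]
      _ = z := by group
  have hgz : g * z * g⁻¹ = u * e := by
    rw [hg]
    calc (v * x)⁻¹ * z * (v * x)⁻¹⁻¹ = x⁻¹ * (v⁻¹ * z * v) * x := by group
      _ = (x⁻¹ * u * x) * (x⁻¹ * e * x) * (x⁻¹ * z * x) := by rw [hvz]; group
      _ = z * (u * e) * z := by rw [hxu, hxe, hxz']; group
      _ = (z * z) * (u * e) := by
        have h5 : (u * e) * z = z * (u * e) := by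
          calc u * e * z = u * (e * z) := by group
            _ = (u * z) * e := by rw [← hze]; group
            _ = z * (u * e) := by rw [huz']; group
        rw [mul_assoc, h5]; group
      _ = u * e := by rw [hz1, one_mul]
  have hve : v⁻¹ * e * v = e := by
    calc v⁻¹ * e * v = v⁻¹ * (e * v) := by group
      _ = v⁻¹ * (v * e) := by rw [hev]
      _ = e := by group
  have hgze : g * (z * e) * g⁻¹ = u := by
    rw [hg]
    calc (v * x)⁻¹ * (z * e) * (v * x)⁻¹⁻¹ = x⁻¹ * ((v⁻¹ * z * v) * (v⁻¹ * e * v)) * x := by group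
      _ = x⁻¹ * (u * (e * z * e)) * x := by rw [hvz, hve]; group
      _ = x⁻¹ * (u * z) * x := by
        have h5 : e * z * e = z := by
          calc e * z * e = (e * e) * z := by rw [mul_assoc, hze]; group
            _ = z := by rw [hee, one_mul]
        rw [h5]
      _ = (x⁻¹ * u * x) * (x⁻¹ * z * x) := by group
      _ = z * u * z := by rw [hxu, hxz']
      _ = (z * z) * u := by rw [mul_assoc, huz']; group
      _ = u := by rw [hz1, one_mul]
  have hKs := hK.conj g
  rw [hgz] at hKs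
  have htr : ∀ k ∈ MulAut.conj g • K, u * k * u⁻¹ * k⁻¹ ∈ ppc 2 (centralizer ({u * e} : Set G)) := by
    intro k hk
    rw [mem_smul_iff] at hk
    rw [← hgz, ← smul_cent, ppc_smul, mem_smul_iff]
    obtain ⟨k0, hk0⟩ : ∃ k0, k0 = g⁻¹ * k * g := ⟨_, rfl⟩
    rw [← hk0] at hk
    have h1 : g⁻¹ * (u * k * u⁻¹ * k⁻¹) * g = (z * e) * k0 * (z * e)⁻¹ * k0⁻¹ := by
      have h2 : k = g * k0 * g⁻¹ := by rw [hk0]; group
      rw [h2]
      nth_rw 1 [← hgze]
      nth_rw 1 [← hgze]
      group
    rw [h1]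
    have h3 : e * k0 * e⁻¹ ∈ K := (mem_normalizer_iff.mp heK k0).mp hk
    have h4 : (e * k0 * e⁻¹) * z = z * (e * k0 * e⁻¹) := mem_centralizer_singleton_iff.mp (hK.pc.1 h3)
    have h5 : (z * e) * k0 * (z * e)⁻¹ * k0⁻¹ = e * k0 * e⁻¹ * k0⁻¹ := by
      calc (z * e) * k0 * (z * e)⁻¹ * k0⁻¹ = (z * (e * k0 * e⁻¹)) * z⁻¹ * k0⁻¹ := by group
        _ = _ := by rw [← h4]; group
    rw [h5]
    exact hβ (commutator_mem_commutator heE hk)
  have huue : u * (u * e) = (u * e) * u := by
    calc u * (u * e) = u * (e * u) := by rw [hue]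
      _ = _ := by group
  obtain ⟨F, -, hF, hFb, hFm⟩ := trivG hu1 huue hKs.pc htr
  have hueF : u * e ∈ F := by
    refine hFm _ hKs.mem huue.symm ⟨1, ?_⟩
    rw [pow_one, pow_two]
    exact hKs.sq_one
  have hF' : IsPComponentOf 2 F (centralizer ({u} : Set G) ⊓ centralizer ({u * e} : Set G)) := by
    rw [inf_comm]; exact hF
  have hsq : sq (MulAut.conj g • K) = sq J := by
    rw [hs]
    exact (sq_congr (K.equivMapOfInjective (MulAut.conj g).toMonoidHom (MulAut.conj g).injective)).symm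
  rw [hsq] at hFb
  have hfin : ∀ j ∈ J, (u * e) * j * (u * e)⁻¹ * j⁻¹ ∈ ppc 2 (centralizer ({u} : Set G)) := by
    rcases dichG hKs.sq_one huue.symm hJ.pc (mul_mem (Subgroup.le_normalizer hJ.mem) heJ) hF' hFb with h | h
    · intro j hj
      exact h (commutator_mem_commutator hueF hj)
    · exact h
  -- conclusion
  have hJC : J ≤ centralizer ({u} : Set G) := hJ.pc.1
  have huC : u ∈ centralizer ({u} : Set G) := mem_centralizer_singleton_iff.mpr rfl
  have c1 : u * e ∈ cm (centralizer ({u} : Set G)) J := ⟨mul_mem huC heu, hfin⟩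
  have c2 : u ∈ cm (centralizer ({u} : Set G)) J := by
    refine ⟨huC, fun n hn => ?_⟩
    have h1 : n * u = u * n := mem_centralizer_singleton_iff.mp (hJC hn)
    have h2 : u * n * u⁻¹ * n⁻¹ = 1 := by rw [← h1]; group
    rw [h2]; exact one_mem _
  have hJ2 := smul_pc' hJ.pc (g := z) (Subgroup.le_normalizer hzu)
  have hne : MulAut.conj z • J ≠ J := fun h => hzJ (mem_normalizer_of_smul_eq h)
  have c3 : v' ∈ cm (centralizer ({u} : Set G)) J :=
    (le_cm hJ2.1 (H37.PCOf.commutator_le hJ2 hJ.pc hne)) (by rw [hv']; exact conj_mem_smul hv)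
  have c4 : v ∈ cm (centralizer ({u} : Set G)) J := by
    have h1 : v = u⁻¹ * (u * e) * v'⁻¹ := by rw [he]; group
    rw [h1]
    exact mul_mem (mul_mem (inv_mem c2) c1) (inv_mem c3)
  have h1 := hJ.cen v hv c4.2
  rw [hvv] at h1
  exact hJ.ne_one (eq_one_of_ppc h1 ⟨1, by rw [pow_one, pow_two]; exact hu1⟩)

end H69.IC
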