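import Cfsg.Agent.Lib.H69.ICS
import Cfsg.Agent.Lib.H63.IcP10
import Cfsg.Agent.Lib.H90.IcP7

/-! S1315: the piece `exists_w` (helper63, helper90). -/

set_option autoImplicit false
open Subgroup Cfsg H26.LocalFitting
open scoped commutatorElement Pointwise
universe u
namespace H69.IC
variable {G : Type u} [Group G] [Finite G]

theorem zc (X : Type u) [Group X] [Finite X] : H63.IcP10.ZC X :=
  fun {_ _} hM hO {_ _} huM hu huniq hz hzu hzM hnt hR hRM hmax hzR =>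
    H90.IcP7.zconj hM hO huM hu huniq hz hzu hzM hnt hR hRM hmax hzR

theorem exists_w {J : Subgroup G} {u z y : G} (hJ : Dat u J) (hz : orderOf z = 2) (hzu : z ≠ u) (hyu : y * u = u * y) (hy2 : ∃ k : ℕ, y ^ 2 ^ k = 1) (hzy : z ∈ zpowers (y * y)) (hyJ : y ∉ normalizer (J : Set G)) (hyyJ : y * y ∈ normalizer (J : Set G)) (hnt : ∃ m ∈ J, z * m * z⁻¹ * m⁻¹ ∉ ppc 2 (centralizer ({u} : Set G))) : ∃ g : G, g * u = u * g ∧ (g * z * g⁻¹) * z = z * (g * z * g⁻¹) ∧ (g * z * g⁻¹) * y * (g * z * g⁻¹)⁻¹ * y⁻¹ ≠ 1 ∧ (∃ k : ℕ, ((g * z * g⁻¹) * y * (g * z * g⁻¹)⁻¹ * y⁻¹) ^ 2 ^ k = 1) ∧ ∀ i : ℕ, ((g * z * g⁻¹) * y * (g * z * g⁻¹)⁻¹ * y⁻¹) ^ i * ((g * z * g⁻¹) * y * (g * z * g⁻¹)⁻¹ * y⁻¹) ^ i = 1 → ((g * z * g⁻¹) * y * (g * z * g⁻¹)⁻¹ * y⁻¹) ^ i = 1 ∨ ((g * z * g⁻¹) * y * (g * z * g⁻¹)⁻¹ * y⁻¹) ^ i = u :=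
  H63.IcP10.exists_w_aux (zc _) hJ hz hzu hyu hy2 hzy hyJ hyyJ hnt

end H69.IC
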