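import Cfsg.Agent.Lib.H69.IC4
import Cfsg.Agent.Lib.H69.ICW

/-! S1315, part (i). -/

set_option autoImplicit false
set_option linter.unusedSectionVars false
set_option linter.style.haveILetI false

open Subgroup Cfsg H26.LocalFitting H37.PCOf
open scoped commutatorElement Pointwise

universe u

namespace H69.IC

variable {G : Type u} [Group G] [Finite G] {J K : Subgroup G}

/-- powers of `A B⁻¹` modulo `O(H)` when `[A, B] ∈ O(H)` -/
theorem pow_mod {H : Subgroup G} {A B : G} (hA : A ∈ H) (hB : B ∈ H)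
    (hAB : A * B * A⁻¹ * B⁻¹ ∈ ppc 2 H) (m : ℕ) : (A * B⁻¹) ^ m * (A ^ m * (B ^ m)⁻¹)⁻¹ ∈ ppc 2 H := by
  have h1 : (⟨A * B * A⁻¹ * B⁻¹, ppc_le 2 H hAB⟩ : H) ∈ pPrimeCore 2 H := (mem_ppc_iff _).mp hAB
  set π := QuotientGroup.mk' (pPrimeCore 2 ↥H) with hπ
  have hc : Commute (π ⟨A, hA⟩) (π ⟨B, hB⟩) := by
    have h2 : π (⟨A, hA⟩ * ⟨B, hB⟩ * (⟨A, hA⟩)⁻¹ * (⟨B, hB⟩)⁻¹) = 1 := (QuotientGroup.eq_one_iff _).mpr h1
    rw [map_mul, map_mul, map_mul, map_inv, map_inv] at h2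
    have h3 := mul_inv_eq_one.mp h2
    exact mul_inv_eq_iff_eq_mul.mp h3
  have h4 : π ((⟨A, hA⟩ * (⟨B, hB⟩)⁻¹) ^ m * ((⟨A, hA⟩ : H) ^ m * ((⟨B, hB⟩ : H) ^ m)⁻¹)⁻¹) = 1 := by
    rw [map_mul, map_pow, map_mul, map_inv, map_inv, map_mul, map_pow, map_inv, map_pow,
      (hc.inv_right).mul_pow, inv_pow]
    exact mul_inv_cancel _
  have h5 := (QuotientGroup.eq_one_iff _).mp h4
  exact ⟨_, h5, by simp⟩

theorem exists_inv_pow {a : G} (ha1 : a ≠ 1) (ha2 : ∃ n : ℕ, a ^ 2 ^ n = 1) : ∃ i : ℕ, orderOf (a ^ i) = 2 := by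
  obtain ⟨n, hn⟩ := ha2
  obtain ⟨k, -, hk⟩ := (Nat.dvd_prime_pow Nat.prime_two).mp (orderOf_dvd_of_pow_eq_one hn)
  match k, hk with
  | 0, hk => exact absurd (orderOf_eq_one_iff.mp (by simpa using hk)) ha1
  | k + 1, hk =>
    refine ⟨2 ^ k, ?_⟩
    rw [orderOf_pow' a (by positivity), hk]
    have h2 : Nat.gcd (2 ^ (k + 1)) (2 ^ k) = 2 ^ k :=
      Nat.gcd_eq_right (pow_dvd_pow 2 (by omega))
    rw [h2, pow_succ 2 k]
    exact Nat.mul_div_cancel_left 2 (by positivity)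

/-- the nontrivial action case -/
theorem caseB2 {u z y : G} (hJ : Dat u J) (hK : Dat z K) (huz : u ≠ z) (hy : y ∈ K)
    (huK : u ∈ normalizer (K : Set G)) (hyu : y * u = u * y) {k : ℕ} (hk : orderOf y = 2 ^ (k + 2))
    (hyJ : y ∉ normalizer (J : Set G)) (hyyJ : y * y ∈ normalizer (J : Set G))
    (hnt : ∃ m ∈ J, z * m * z⁻¹ * m⁻¹ ∉ ppc 2 (centralizer ({u} : Set G))) : False := by
  have hu1 := hJ.sq_one
  have hz1 := hK.sq_one
  have huz' : u * z = z * u := hK.comm huK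
  set m := 2 ^ k with hm
  have hy4 : y ^ m * y ^ m = z := by
    rw [← pow_add]
    apply hK.uniq _ (K.pow_mem hy _)
    have h1 : m + m = 2 ^ (k + 1) := by rw [hm]; ring
    rw [h1, orderOf_pow' y (by positivity), hk]
    have h2 : Nat.gcd (2 ^ (k + 2)) (2 ^ (k + 1)) = 2 ^ (k + 1) :=
      Nat.gcd_eq_right (pow_dvd_pow 2 (by omega))
    rw [h2, pow_succ 2 (k + 1)]
    exact Nat.mul_div_cancel_left 2 (by positivity)
  have hy2 : ∃ n : ℕ, y ^ 2 ^ n = 1 := ⟨k + 2, by rw [← hk]; exact pow_orderOf_eq_one y⟩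
  have hzy : z ∈ zpowers (y * y) := by
    rw [mem_zpowers_iff]
    refine ⟨(m : ℤ), ?_⟩
    rw [zpow_natCast, ← hy4, (Commute.refl y).mul_pow]
  obtain ⟨g, hgu, hwz, ha1, ha2, ha3⟩ := exists_w hJ hK.ord (Ne.symm huz) hyu hy2 hzy hyJ hyyJ hnt
  obtain ⟨w, hw⟩ : ∃ w, w = g * z * g⁻¹ := ⟨_, rfl⟩
  rw [← hw] at hwz ha1 ha2 ha3
  obtain ⟨a, ha⟩ : ∃ a, a = w * y * w⁻¹ * y⁻¹ := ⟨_, rfl⟩
  rw [← ha] at ha1 ha2 ha3
  have hwK : w ∉ normalizer (K : Set G) := by
    intro h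
    have haK : a ∈ K := by
      rw [ha]
      exact mul_mem ((mem_normalizer_iff.mp h y).mp hy) (inv_mem hy)
    obtain ⟨i, hi⟩ := exists_inv_pow ha1 ha2
    have h1 : a ^ i = z := hK.uniq _ (K.pow_mem haK i) hi
    have h2 : a ^ i * a ^ i = 1 := by rw [h1]; exact hz1
    rcases ha3 i h2 with h3 | h3
    · exact hK.ne_one (by rw [← h1, h3])
    · exact huz (by rw [← h1, h3])
  have hKg := hK.conj g
  rw [← hw] at hKg
  have hw1 : w * w = 1 := hKg.sq_one
  have hwC : w ∈ centralizer ({z} : Set G) := mem_centralizer_singleton_iff.mpr hwz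
  have hyC : y ∈ centralizer ({z} : Set G) := hK.pc.1 hy
  have hzC : z ∈ centralizer ({z} : Set G) := mem_centralizer_singleton_iff.mpr rfl
  have huC : u ∈ centralizer ({z} : Set G) := mem_centralizer_singleton_iff.mpr huz'
  have hwu : w * u = u * w := by
    rw [hw]
    have hgu' : Commute g u := hgu
    have hzu' : Commute z u := huz'.symm
    exact ((hgu'.mul_left hzu').mul_left hgu'.inv_left).eq
  -- components
  have hKw := smul_pc' hK.pc (g := w) (Subgroup.le_normalizer hwC)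
  have hne : MulAut.conj w • K ≠ K := fun h => hwK (mem_normalizer_of_smul_eq h)
  have hcm : MulAut.conj w • K ≤ cm (centralizer ({z} : Set G)) K :=
    le_cm hKw.1 (H37.PCOf.commutator_le hKw hK.pc hne)
  obtain ⟨E, hE, -, hE1, -⟩ := diagG hw1 hwz hK.pc hwK
  obtain ⟨A, hA⟩ : ∃ A, A = w * y * w⁻¹ := ⟨_, rfl⟩
  have hAm : ∀ i : ℕ, A ^ i = w * y ^ i * w⁻¹ := by intro i; rw [hA, conj_pow]
  have hAC : A ∈ centralizer ({z} : Set G) := by rw [hA]; exact mul_mem (mul_mem hwC hyC) (inv_mem hwC)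
  have hAcm : ∀ i : ℕ, A ^ i ∈ cm (centralizer ({z} : Set G)) K := fun i => by
    rw [hAm]; exact hcm (conj_mem_smul (K.pow_mem hy i))
  have haA : a = A * y⁻¹ := by rw [ha, hA]
  have hAy : A * y * A⁻¹ * y⁻¹ ∈ ppc 2 (centralizer ({z} : Set G)) := by
    have := (hAcm 1).2 y hy
    rwa [pow_one] at this
  have hpm := fun i => pow_mod hAC hyC hAy i
  rw [← haA] at hpm
  -- `a ^ m` squares to one
  have ha2m : a ^ m * a ^ m = 1 := by
    have h1 := hpm (m + m)
    have h2 : A ^ (m + m) * (y ^ (m + m))⁻¹ = 1 := by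
      rw [hAm, pow_add, hy4, hwz]; group
    rw [h2, inv_one, mul_one, pow_add] at h1
    apply eq_one_of_ppc h1
    obtain ⟨n, hn⟩ := ha2
    refine ⟨n, ?_⟩
    rw [← pow_add, ← pow_mul, mul_comm, pow_mul, hn, one_pow]
  have ham : a ^ m = u := by
    rcases ha3 m ha2m with h | h
    · exfalso
      have h1 := hpm m
      rw [h, one_mul, mul_inv_rev, inv_inv] at h1
      -- `y ^ m * (A ^ m)⁻¹ ∈ O`
      have h2 : y ^ m ∈ cm (centralizer ({z} : Set G)) K := by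
        have h3 : y ^ m = (y ^ m * (A ^ m)⁻¹) * A ^ m := by group
        rw [h3]
        exact mul_mem (ppc_le_cm hK.pc.1 h1) (hAcm m)
      have h4 := hK.cen _ (K.pow_mem hy m) h2.2
      rw [hy4] at h4
      exact hK.ne_one (eq_one_of_ppc h4 ⟨1, by rw [pow_one, pow_two]; exact hz1⟩)
    · exact h
  -- `u z ∈ E`
  have huzE : u * z ∈ E := by
    obtain ⟨e, he, h1⟩ := hE1 (y ^ m) (K.pow_mem hy m)
    rw [← hAm m] at h1
    have h2 := hpm m
    rw [ham] at h2
    -- `u (A^m y^-m)⁻¹ ∈ O`, `y^m A^m e⁻¹ ∈ O`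
    refine mem_of hE (mem_inf.mpr ⟨mul_mem huC hzC, ?_⟩) ⟨1, ?_⟩ he ?_
    · rw [mem_centralizer_singleton_iff]
      calc u * z * w = u * (w * z) := by rw [mul_assoc, hwz]
        _ = (w * u) * z := by rw [hwu]; group
        _ = w * (u * z) := by group
    · rw [pow_one, pow_two]
      calc u * z * (u * z) = u * (z * u) * z := by group
        _ = (u * u) * (z * z) := by rw [← huz']; group
        _ = 1 := by rw [hu1, hz1, one_mul]
    · -- `u z e⁻¹ = [u (A^m y^-m)⁻¹] (A^m y^-m z e⁻¹)`, and `y^-m z = y^m`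
      have h3 : (y ^ m)⁻¹ * z = y ^ m := by rw [← hy4]; group
      have h4 : A ^ m * y ^ m * (A ^ m)⁻¹ * (y ^ m)⁻¹ ∈ ppc 2 (centralizer ({z} : Set G)) :=
        (hAcm m).2 _ (K.pow_mem hy m)
      have h5 : u * z * e⁻¹ = (u * (A ^ m * (y ^ m)⁻¹)⁻¹) * ((A ^ m * y ^ m * (A ^ m)⁻¹ * (y ^ m)⁻¹) *
          (y ^ m * A ^ m * e⁻¹)) := by
        calc u * z * e⁻¹ = (u * (A ^ m * (y ^ m)⁻¹)⁻¹) * (A ^ m * ((y ^ m)⁻¹ * z)) * e⁻¹ := by group
          _ = _ := by rw [h3]; group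
      rw [h5]
      exact mul_mem h2 (mul_mem h4 h1)
  have hEw : IsPComponentOf 2 E (centralizer ({w} : Set G) ⊓ centralizer ({z} : Set G)) := by
    rw [inf_comm]; exact hE
  have h1 : u * z ∈ normalizer ((MulAut.conj g • K : Subgroup G) : Set G) :=
    le_norm hz1 hwz.symm hEw hKg.pc huzE
  have h2 : u ∈ normalizer ((MulAut.conj g • K : Subgroup G) : Set G) := by
    apply mem_normalizer_of_smul_eq
    have hgu' : u * g = g * u := hgu.symm
    rw [← mul_smul, ← map_mul, hgu', map_mul, mul_smul, smul_eq_of_mem_normalizer huK]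
  have h3 : z ∈ normalizer ((MulAut.conj g • K : Subgroup G) : Set G) := by
    have h4 : z = u⁻¹ * (u * z) := by group
    rw [h4]
    exact mul_mem (inv_mem h2) h1
  have hsq : sq K = sq (MulAut.conj g • K) :=
    sq_congr (K.equivMapOfInjective (MulAut.conj g).toMonoidHom (MulAut.conj g).injective)
  refine hwK (part2 hK hKg hsq ?_ h3)
  intro h
  apply hwK
  rw [← h]
  exact Subgroup.le_normalizer hK.mem

theorem part1 {u z y : G} (hJ : Dat u J) (hK : Dat z K) (hs : sq J = sq K) (hy : y ∈ K)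
    (hy2 : ∃ n : ℕ, y ^ 2 ^ n = 1) (hy4 : 4 ≤ orderOf y) (hyu : y * u = u * y) :
    y ∈ normalizer (J : Set G) := by
  by_cases huz : u = z
  · subst huz
    have h1 := H26.PComponents.le_normalizer hK.pc.2 hJ.pc.2
    exact norm_sub hJ.pc.1 hK.pc.1 h1 hy
  have hu1 := hJ.sq_one
  have hz1 := hK.sq_one
  -- order of `y`
  obtain ⟨n, hn⟩ := hy2
  obtain ⟨k0, -, hk0⟩ := (Nat.dvd_prime_pow Nat.prime_two).mp (orderOf_dvd_of_pow_eq_one hn)
  obtain ⟨k, rfl⟩ : ∃ k, k0 = k + 2 := by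
    refine ⟨k0 - 2, ?_⟩
    rcases k0 with _ | _ | k0
    · rw [hk0] at hy4; norm_num at hy4
    · rw [hk0] at hy4; norm_num at hy4
    · omega
  have hzpow : y ^ 2 ^ (k + 1) = z := by
    apply hK.uniq _ (K.pow_mem hy _)
    rw [orderOf_pow' y (by positivity), hk0]
    have h2 : Nat.gcd (2 ^ (k + 2)) (2 ^ (k + 1)) = 2 ^ (k + 1) :=
      Nat.gcd_eq_right (pow_dvd_pow 2 (by omega))
    rw [h2, pow_succ 2 (k + 1)]
    exact Nat.mul_div_cancel_left 2 (by positivity)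
  have hyu' : Commute y u := hyu
  have huz' : u * z = z * u := by
    rw [← hzpow]
    exact ((hyu'.pow_left _).eq).symm
  have huC : u ∈ centralizer ({z} : Set G) := mem_centralizer_singleton_iff.mpr huz'
  have hyC : y ∈ centralizer ({u} : Set G) := mem_centralizer_singleton_iff.mpr hyu
  -- `u` normalizes `K`
  have huK : u ∈ normalizer (K : Set G) := by
    by_contra h
    have hKu := smul_pc' hK.pc (g := u) (Subgroup.le_normalizer huC)
    have hne : MulAut.conj u • K ≠ K := fun h' => h (mem_normalizer_of_smul_eq h')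
    have h1 := le_cm hKu.1 (H37.PCOf.commutator_le hKu hK.pc hne)
    have h2 : y ∈ MulAut.conj u • K := by
      rw [mem_smul_iff]
      have : u⁻¹ * y * u = y := by rw [mul_assoc, hyu]; group
      rwa [this]
    have h3 := hK.cen y hy (h1 h2).2
    have h4 : y * y = 1 := by
      apply eq_one_of_ppc h3
      refine ⟨n, ?_⟩
      rw [(Commute.refl y).mul_pow, hn, one_mul]
    have h5 : orderOf y ∣ 2 := orderOf_dvd_of_pow_eq_one (by rw [pow_two]; exact h4)
    have h6 := Nat.le_of_dvd (by norm_num) h5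
    omega
  have hzJ : z ∈ normalizer (J : Set G) := part2 hJ hK hs huz huK
  by_contra hyJ
  -- replace `y` by a power
  have hex : ∃ i, i ≤ k ∧ y ^ 2 ^ i ∉ normalizer (J : Set G) ∧ y ^ 2 ^ (i + 1) ∈ normalizer (J : Set G) := by
    by_contra hcon
    push Not at hcon
    have h1 : ∀ i, i ≤ k + 1 → y ^ 2 ^ i ∉ normalizer (J : Set G) := by
      intro i
      induction i with
      | zero => intro _; simpa using hyJ
      | succ i ih =>
        intro hi
        exact hcon i (by omega) (ih (by omega))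
    exact h1 (k + 1) le_rfl (by rw [hzpow]; exact hzJ)
  obtain ⟨i, hik, hi1, hi2⟩ := hex
  obtain ⟨y1, hy1⟩ : ∃ y1, y1 = y ^ 2 ^ i := ⟨_, rfl⟩
  rw [← hy1] at hi1
  have hy1K : y1 ∈ K := by rw [hy1]; exact K.pow_mem hy _
  have hy1u : y1 * u = u * y1 := by rw [hy1]; exact (hyu'.pow_left _).eq
  have hy1y1 : y1 * y1 ∈ normalizer (J : Set G) := by
    rw [hy1, ← pow_add]
    have : 2 ^ i + 2 ^ i = 2 ^ (i + 1) := by ring
    rw [this]; exact hi2
  have hord : orderOf y1 = 2 ^ ((k - i) + 2) := by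
    rw [hy1, orderOf_pow' y (by positivity), hk0]
    have h2 : Nat.gcd (2 ^ (k + 2)) (2 ^ i) = 2 ^ i :=
      Nat.gcd_eq_right (pow_dvd_pow 2 (by omega))
    rw [h2]
    have h3 : 2 ^ (k + 2) = 2 ^ i * 2 ^ ((k - i) + 2) := by
      rw [← pow_add]; congr 1; omega
    rw [h3]
    exact Nat.mul_div_cancel_left _ (by positivity)
  by_cases htr : ∀ m ∈ J, z * m * z⁻¹ * m⁻¹ ∈ ppc 2 (centralizer ({u} : Set G))
  · obtain ⟨E, hEJ, hE, hEb, -⟩ := trivG hz1 huz'.symm hJ.pc htr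
    have hE' : IsPComponentOf 2 E (centralizer ({z} : Set G) ⊓ centralizer ({u} : Set G)) := by
      rw [inf_comm]; exact hE
    rw [hs] at hEb
    rcases dichG hu1 huz' hK.pc huK hE' hEb with hβ | hα
    · have hy1C : y1 ∈ centralizer ({u} : Set G) := mem_centralizer_singleton_iff.mpr hy1u
      have hst := stab hE' hβ hy1K (mem_inf.mpr ⟨hK.pc.1 hy1K, hy1C⟩)
      have hJ1 := smul_pc' hJ.pc (g := y1⁻¹) (Subgroup.le_normalizer (inv_mem hy1C))
      have h1 : E ≤ MulAut.conj y1⁻¹ • J := by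
        intro x hx
        rw [mem_smul_iff, inv_inv]
        exact hEJ (hst x hx)
      have h2 := eq_of_le_inf hJ.pc hJ1 (pcOf_iff.mp hE).2 hEJ h1
      have h3 := inv_mem (mem_normalizer_of_smul_eq h2.symm)
      rw [inv_inv] at h3
      exact hi1 h3
    · obtain ⟨E', -, hE'c, -, hE'm⟩ := trivG hu1 huz' hK.pc hα
      have hyE' : y1 ∈ E' := hE'm y1 hy1K hy1u ⟨(k - i) + 2, by rw [← hord]; exact pow_orderOf_eq_one y1⟩
      have hE'c' : IsPComponentOf 2 E' (centralizer ({u} : Set G) ⊓ centralizer ({z} : Set G)) := by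
        rw [inf_comm]; exact hE'c
      exact hi1 (le_norm hz1 huz'.symm hE'c' hJ.pc hyE')
  · push Not at htr
    exact caseB2 hJ hK huz hy1K huK hy1u hord hi1 hy1y1 htr

end H69.IC
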