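import Cfsg.Agent.Lib.H69.IC5

/-! S1315, conclusion. -/

set_option autoImplicit false
set_option linter.unusedSectionVars false
set_option linter.style.haveILetI false

open Subgroup Cfsg H26.LocalFitting H37.PCOf
open scoped commutatorElement Pointwise

universe u

namespace H69.IC

variable {G : Type u} [Group G] [Finite G] {J K : Subgroup G}

theorem datOf {u : G} (h1 : u ∈ J ∧ orderOf u = 2 ∧ ∀ t ∈ J, orderOf t = 2 → t = u)
    (h2 : J ≤ centralizer ({u} : Set G) ∧ IsPComponent 2 (J.subgroupOf (centralizer ({u} : Set G))))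
    (hc : ∀ c ∈ center (↥J ⧸ oddCore ↥J), c * c = 1) : Dat u J where
  ord := h1.2.1
  mem := h1.1
  uniq := h1.2.2
  pc := h2
  cen := by
    intro k hk hm
    have hpc : IsPComponentOf 2 J (centralizer ({u} : Set G)) := h2
    have hpp : ppc 2 J = J ⊓ ppc 2 (centralizer ({u} : Set G)) := (pcOf_iff.mp hpc).1.ppc 2
    have h3 : ((⟨k, hk⟩ : J) : ↥J ⧸ oddCore ↥J) ∈ center (↥J ⧸ oddCore ↥J) := by
      rw [Subgroup.mem_center_iff]
      intro g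
      obtain ⟨m, rfl⟩ := QuotientGroup.mk_surjective g
      have h4 : k * m * k⁻¹ * (m : G)⁻¹ ∈ ppc 2 J := by
        rw [hpp]
        exact mem_inf.mpr ⟨J.mul_mem (J.mul_mem (J.mul_mem hk m.2) (J.inv_mem hk)) (J.inv_mem m.2), hm m m.2⟩
      have h5 := (mem_ppc_iff (ppc_le 2 J h4)).mp h4
      rw [← QuotientGroup.mk_mul, ← QuotientGroup.mk_mul, QuotientGroup.eq]
      have h6 : (m * ⟨k, hk⟩)⁻¹ * (⟨k, hk⟩ * m) =
          (m * ⟨k, hk⟩)⁻¹ * (⟨k, hk⟩ * m * (⟨k, hk⟩ : J)⁻¹ * m⁻¹) * ((m * ⟨k, hk⟩)⁻¹)⁻¹ := by group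
      rw [h6]
      have hn : (oddCore ↥J).Normal := inferInstance
      exact hn.conj_mem _ h5 _
    have h4 := hc _ h3
    rw [← QuotientGroup.mk_mul, QuotientGroup.eq_one_iff] at h4
    have h5 : k * k ∈ ppc 2 J := ⟨_, h4, rfl⟩
    rw [hpp] at h5
    exact (mem_inf.mp h5).2

theorem final (J K : Subgroup G) (zJ zK : G)
    (hzJ : zJ ∈ J ∧ orderOf zJ = 2 ∧ ∀ t ∈ J, orderOf t = 2 → t = zJ)
    (hzK : zK ∈ K ∧ orderOf zK = 2 ∧ ∀ t ∈ K, orderOf t = 2 → t = zK)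
    (hJ : J ≤ Subgroup.centralizer ({zJ} : Set G) ∧ Cfsg.IsPComponent 2 (J.subgroupOf (Subgroup.centralizer ({zJ} : Set G))))
    (hK : K ≤ Subgroup.centralizer ({zK} : Set G) ∧ Cfsg.IsPComponent 2 (K.subgroupOf (Subgroup.centralizer ({zK} : Set G))))
    (htype : (∃ (F : Type) (_ : Field F) (_ : Fintype F), Odd (Fintype.card F) ∧ Nonempty (↥J ⧸ Cfsg.oddCore ↥J ≃* Matrix.SpecialLinearGroup (Fin 2) F) ∧ Nonempty (↥K ⧸ Cfsg.oddCore ↥K ≃* Matrix.SpecialLinearGroup (Fin 2) F)) ∨ (Cfsg.IsNonsplitDoubleCover (↥J ⧸ Cfsg.oddCore ↥J) ↥(alternatingGroup (Fin 7)) ∧ Cfsg.IsNonsplitDoubleCover (↥K ⧸ Cfsg.oddCore ↥K) ↥(alternatingGroup (Fin 7)))) :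
    (∀ y ∈ K, IsPGroup 2 ↥(Subgroup.zpowers y) → 4 ≤ orderOf y → y * zJ = zJ * y → y ∈ Subgroup.normalizer (J : Set G)) ∧
      (zJ ∈ Subgroup.normalizer (K : Set G) → zK ∈ Subgroup.normalizer (J : Set G)) := by
  obtain ⟨h1, h2, h3⟩ := H64.IcP8.types htype
  have dJ := datOf hzJ hJ h2
  have dK := datOf hzK hK h3
  have hs : sq J = sq K := h1
  refine ⟨fun y hy hy2 hy4 hyu => part1 dJ dK hs hy ?_ hy4 hyu, fun h => ?_⟩
  · obtain ⟨n, hn⟩ := isPGroup_iff_pow_pow_eq_one.mp hy2 ⟨y, mem_zpowers y⟩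
    exact ⟨n, by simpa using congrArg Subtype.val hn⟩
  · by_cases huz : zJ = zK
    · rw [← huz]
      exact Subgroup.le_normalizer hzJ.1
    · exact part2 dJ dK hs huz h

end H69.IC
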