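import Cfsg.Agent.Lib.H63.IcP2
import Cfsg.Agent.Lib.H75.IcP4
import Cfsg.Agent.Lib.H25.IcP5
import Cfsg.Agent.Lib.H81.IcP6
import Cfsg.Agent.Lib.H81.IcP9
import Cfsg.Agent.Lib.H64.IcP8

/-! S1315: the pieces (helper63, helper75, helper25, helper81, helper64, with helper41, helper8, helper90). -/

set_option autoImplicit false

open Subgroup Cfsg H26.LocalFitting
open scoped commutatorElement Pointwise

universe u

namespace H69.IC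

variable {G : Type u} [Group G] [Finite G]

theorem dich {M E : Subgroup G} {t : G} (hM : IsPComponent 2 M) (ht : t ∈ normalizer (M : Set G))
    (hEt : ∀ e ∈ E, e * t = t * e) (hE : E ≤ pLayer 2 G) (hbig : Big E (sq M)) :
    ⁅E, M⁆ ≤ pPrimeCore 2 G ∨ ∀ m ∈ M, t * m * t⁻¹ * m⁻¹ ∈ pPrimeCore 2 G :=
  H63.IcP2.dich hM ht hEt hE hbig

theorem diag_comp {t : G} (ht : t * t = 1) {M : Subgroup G} (hM : IsPComponent 2 M)
    (htM : t ∉ normalizer (M : Set G)) :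
    ∃ E : Subgroup G, IsPComponentOf 2 E (centralizer ({t} : Set G)) ∧ Big E (sq M) ∧
      (∀ m ∈ M, ∃ e ∈ E, (m * (t * m * t⁻¹)) * e⁻¹ ∈ pPrimeCore 2 G) ∧
      (∀ e ∈ E, ∃ m ∈ M, (m * (t * m * t⁻¹)) * e⁻¹ ∈ pPrimeCore 2 G) :=
  H75.IcP4.diag_comp ht hM htM

theorem triv_comp {t : G} (ht : t * t = 1) {M : Subgroup G} (hM : IsPComponent 2 M)
    (htM : ∀ m ∈ M, t * m * t⁻¹ * m⁻¹ ∈ pPrimeCore 2 G) :
    ∃ E : Subgroup G, E ≤ M ∧ IsPComponentOf 2 E (centralizer ({t} : Set G)) ∧ Big E (sq M) ∧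
      (∀ m ∈ M, m * t = t * m → (∃ k : ℕ, m ^ 2 ^ k = 1) → m ∈ E) :=
  H25.IcP5.triv_comp ht hM htM

theorem exists_sqrt {M : Subgroup G} (hM : ⁅M, M⁆ = M) {z : G} (hz : orderOf z = 2) (hzM : z ∈ M)
    (hu : ∀ t ∈ M, orderOf t = 2 → t = z) (A : Subgroup G) (hA : IsPGroup 2 A)
    (hAM : A ≤ normalizer (M : Set G)) :
    ∃ S : Subgroup G, IsPGroup 2 S ∧ S ≤ M ∧ A ≤ normalizer (S : Set G) ∧ z ∈ S ∧ (∃ v ∈ S, v * v = z) ∧
      ∀ a ∈ A, ∃ x ∈ S, x ≠ 1 ∧ x ≠ z ∧ (a * x * a⁻¹ = x ∨ a * x * a⁻¹ = x * z) :=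
  H81.IcP6.exists_sqrt hM hz hzM hu A hA hAM

theorem exists_comm_sqrt {u z : G} {J : Subgroup G} (hJ : Dat u J) (hz : z * z = 1)
    (hzu : z * u = u * z) (hzJ : z ∉ normalizer (J : Set G)) :
    ∃ v ∈ J, v * v = u ∧ v * (z * v * z⁻¹) = (z * v * z⁻¹) * v :=
  H81.IcP9.exists_comm_sqrt hJ hz hzu hzJ

end H69.IC
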