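import Cfsg.Agent.Lib.H69.PPA4
import Cfsg.Agent.Lib.H3.SL2Free
import Cfsg.Agent.Lib.H3.QuadGen2

/-!
Groups all of whose `p'`-subgroups are abelian (S1936), part 6: the case `R0 ≠ 1`; Glauberman's ZJ-theorem.
-/

set_option autoImplicit false
set_option linter.all false

namespace H69.PPA

open Subgroup H1.Coprime2 H3.CFun H3.SL2Free
open scoped Pointwise commutatorElement

universe u

variable {G : Type u} [Group G] [Finite G] {p : ℕ} [hp : Fact p.Prime]

namespace CaseB

theorem free (h : Ctx p G) (T : Sylow 2 G) : ¬ Cfsg.Involves (Matrix.SpecialLinearGroup (Fin 2) (ZMod p)) G :=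
  fun h1 => H3.QuadGen2.not_comm_of_involves h.ne_two h1 T (h.comm_two T)

theorem odd_core (h : Ctx p G) (T : Sylow 2 G) {M : Subgroup G} (hM : Emb (T : Subgroup G) M)
    (hR : R0 (T : Subgroup G) ≠ ⊥) (hMR : M = normalizer (R0 (T : Subgroup G) : Set G)) :
    Odd (Nat.card (Cfsg.pPrimeCore p M)) := by
  haveI : Fact (Nat.Prime 2) := ⟨Nat.prime_two⟩
  by_contra hev
  rw [Nat.not_odd_iff_even, even_iff_two_dvd] at hev
  apply hR
  apply h.R0_eq_bot T
  set L := (Cfsg.pPrimeCore p M).map M.subtype with hL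
  have hLc : (Nat.card L).Coprime p := by
    rw [hL, card_map_of_injective M.subtype_injective]
    exact H1.Cores.coprime_card_pPrimeCore p
  have hLM : L ≤ M := map_subtype_le _
  have hML : M ≤ normalizer (L : Set G) := by
    haveI := H1.Cores.pPrimeCore_characteristic (G := M) p
    exact le_normalizer.trans (H13.Cores.normalizer_le_normalizer_map M _)
  obtain ⟨u, hu⟩ := exists_prime_orderOf_dvd_card' 2 hev
  have huL : ((u : M) : G) ∈ L := ⟨u, u.2, rfl⟩
  have hu2 : ((u : M) : G) ^ 2 = 1 := by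
    have : u ^ 2 = 1 := orderOf_dvd_iff_pow_eq_one.1 (by rw [hu])
    exact congrArg (fun x : Cfsg.pPrimeCore p M => ((x : M) : G)) this
  have hu1 : ((u : M) : G) ≠ 1 := by
    intro h1
    have : u = 1 := Subtype.ext (Subtype.ext h1)
    rw [this, orderOf_one] at hu
    omega
  obtain ⟨m, hm, hmu⟩ := exists_conj_mem T (Emb.le _ hM) (hLM huL) hu2
  set s := m * ((u : M) : G) * m⁻¹ with hs
  have hsL : s ∈ L := (mem_normalizer_iff.1 (hML hm) _).1 huL
  have hs1 : s ≠ 1 := by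
    intro h1
    rw [hs, mul_inv_eq_one] at h1
    exact hu1 (mul_eq_left.mp h1)
  have hTL : (T : Subgroup G) ≤ L := by
    intro t ht
    by_cases ht1 : t = 1
    · rw [ht1]; exact one_mem _
    · obtain ⟨n, hn, hnt⟩ := Emb.fusion h T hM hmu ht hs1 (Emb.sq h T hM hmu) ht1 (Emb.sq h T hM ht)
      rw [← hnt]
      exact (mem_normalizer_iff.1 (hML (hM.nt hn)) _).1 hsL
  have hRM : R0 (T : Subgroup G) ≤ M := by rw [hMR]; exact le_normalizer
  have hdisj : L ⊓ R0 (T : Subgroup G) = ⊥ := by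
    apply H1.Coprime.inf_eq_bot_of_coprime_card
    obtain ⟨n, hn⟩ := IsPGroup.iff_card.mp (h.isPGroup_R0 T)
    rw [hn]
    exact Nat.Coprime.pow_right _ hLc
  refine hTL.trans ?_
  rw [← commutator_eq_bot_iff_le_centralizer, eq_bot_iff, ← hdisj]
  apply le_inf
  · exact commutator_le_left (hRM.trans hML)
  · apply H1.Coprime2.commutator_le_right
    rw [← hMR]
    exact hLM

theorem exists_sylow_norm (h : Ctx p G) (T : Sylow 2 G) {M : Subgroup G} (hM : Emb (T : Subgroup G) M)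
    (hodd : Odd (Nat.card (Cfsg.pPrimeCore p M))) :
    ∃ P : Sylow p M, (T : Subgroup G) ≤ normalizer
      ((zeFun.{u} p).W ((P : Subgroup M).map M.subtype) : Set G) := by
  haveI : Fact (Nat.Prime 2) := ⟨Nat.prime_two⟩
  obtain ⟨P₀⟩ : Nonempty (Sylow p M) := inferInstance
  set L := Cfsg.pPrimeCore p M with hL
  haveI hLn : L.Normal := H1.Cores.pPrimeCore_normal p
  set F := zeFun.{u} p with hF
  have hfree : ¬ Cfsg.Involves (Cfsg.qd p) (M ⧸ L) := by
    intro h1
    have h2 := H51.QdStab3.involves_sl2_of_qd h1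
    have h3 := H51.Involves.involves_of_hom (QuotientGroup.mk' L) (QuotientGroup.mk'_surjective L) h2
    exact free h T (H51.Involves.involves_of_injective M.subtype M.subtype_injective h3)
  have hc : centralizer (Cfsg.pCore p (M ⧸ L) : Set (M ⧸ L)) ≤ Cfsg.pCore p (M ⧸ L) :=
    H26.SolvBal.centralizer_pCore_quotient_le_of_isSolvable (h.solv M hM.ne_top)
  have hn := normal_of_qd_free h.ne_two F (hasZJ_zeFun h.ne_two) hfree hc
    (P₀.mapSurjective (QuotientGroup.mk'_surjective L))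
  have hsup : L ⊔ normalizer (F.W (P₀ : Subgroup M) : Set M) = ⊤ :=
    sup_normalizer_of_quotient F P₀ (H1.Cores.coprime_card_pPrimeCore p) hn
  set N := normalizer (F.W (P₀ : Subgroup M) : Set M) with hN
  have hidx : N.relIndex L = N.index := by
    apply H1.Solv.relIndex_eq_index_of_forall_exists_mul
    intro g
    have hg : g ∈ L ⊔ N := by rw [hsup]; trivial
    obtain ⟨x, hx, y, hy, hxy⟩ := Subgroup.mem_sup_of_normal_left.1 hg
    exact ⟨x, hx, y, hy, hxy.symm⟩
  have hNodd : ¬ 2 ∣ N.index := by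
    rw [← hidx]
    intro h1
    have h2 : N.relIndex L ∣ Nat.card L := by
      exact Subgroup.index_dvd_card (N.subgroupOf L)
    have h3 := h1.trans h2
    rw [← even_iff_two_dvd] at h3
    exact (Nat.not_even_iff_odd.2 hodd) h3
  -- a fixed coset
  have hTM := Emb.le _ hM
  set T' : Sylow 2 M := T.subtype hTM with hT'
  obtain ⟨x, hx⟩ := T'.isPGroup'.nonempty_fixed_point_of_prime_not_dvd_card (M ⧸ N) (by
    rw [← index_eq_card]; exact hNodd)
  obtain ⟨m, rfl⟩ := QuotientGroup.mk_surjective x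
  have hfix : ∀ t ∈ (T' : Subgroup M), m⁻¹ * t * m ∈ N := by
    intro t ht
    have h1 := hx ⟨t, ht⟩
    have h2 : ((t * m : M) : M ⧸ N) = (m : M ⧸ N) := h1
    rw [QuotientGroup.eq] at h2
    have h3 := N.inv_mem h2
    have e : ((t * m)⁻¹ * m)⁻¹ = m⁻¹ * t * m := by group
    rwa [e] at h3
  refine ⟨m • P₀, ?_⟩
  intro t ht
  have h1 := hfix ⟨t, hTM ht⟩ ht
  have h2 : (⟨t, hTM ht⟩ : M) ∈ normalizer (F.W ((m • P₀ : Sylow p M) : Subgroup M) : Set M) := by
    have e1 : ((m • P₀ : Sylow p M) : Subgroup M) = (P₀ : Subgroup M).map (MulAut.conj m).toMonoidHom := by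
      rw [Sylow.coe_subgroup_smul]; rfl
    rw [e1, W_conj]
    have e2 : (F.W (P₀ : Subgroup M)).map (MulAut.conj m).toMonoidHom = MulAut.conj m • F.W (P₀ : Subgroup M) := rfl
    rw [e2, ← smul_normalizer, H1.SZ.mem_conj_smul]
    exact h1
  rw [F.map M.subtype_injective]
  exact le_normalizer_map M.subtype ⟨_, h2, rfl⟩

theorem false (h : Ctx p G) (T : Sylow 2 G) {M : Subgroup G} (hM : Emb (T : Subgroup G) M)
    (hR : R0 (T : Subgroup G) ≠ ⊥) (hMR : M = normalizer (R0 (T : Subgroup G) : Set G)) : False := by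
  haveI : Fact (Nat.Prime 2) := ⟨Nat.prime_two⟩
  haveI := h.simple
  obtain ⟨P, hP⟩ := exists_sylow_norm h T hM (odd_core h T hM hR hMR)
  set F := zeFun.{u} p with hF
  set Q := (P : Subgroup M).map M.subtype with hQ
  have hQp : IsPGroup p Q := P.isPGroup'.map _
  have hRM : R0 (T : Subgroup G) ≤ M := by rw [hMR]; exact le_normalizer
  have hRQ : R0 (T : Subgroup G) ≤ Q := by
    have hn : ((R0 (T : Subgroup G)).subgroupOf M).Normal :=
      (Subgroup.normal_subgroupOf_iff_le_normalizer hRM).mpr hMR.le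
    have h1 : (R0 (T : Subgroup G)).subgroupOf M ≤ (P : Subgroup M) :=
      IsPGroup.le_sylow_of_normal (N := (R0 (T : Subgroup G)).subgroupOf M) ((h.isPGroup_R0 T).comap_subtype) P
    have h2 := Subgroup.map_mono (f := M.subtype) h1
    rwa [Subgroup.map_subgroupOf_eq_of_le hRM] at h2
  have hQ1 : Q ≠ ⊥ := by
    intro h1
    rw [h1, le_bot_iff] at hRQ
    exact hR hRQ
  have hW1 : F.W Q ≠ ⊥ := F.ne_bot hQp hQ1
  have hWM : normalizer (F.W Q : Set G) ≤ M :=
    Emb.u1 h T hM (h.normalizer_ne_top hW1 (h.ne_top_of_isPGroup (hQp.to_le (F.le Q)))) hP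
  -- `Q` is a Sylow subgroup of `G`
  obtain ⟨S, hS⟩ := hQp.exists_le_sylow
  have hSQ : (S : Subgroup G) = Q := by
    by_contra hne
    have hlt : Q < (S : Subgroup G) := lt_of_le_of_ne hS (fun h1 => hne h1.symm)
    obtain ⟨R, hQR, hRS, hRN⟩ := H69.EvenNormalizer.exists_gt_le_normalizer Q (S : Subgroup G) S.isPGroup' hlt
    have hRM' : R ≤ M := hRN.trans ((normalizer_le_normalizer F Q).trans hWM)
    have h1 : (P : Subgroup M) ≤ R.subgroupOf M := by
      intro x hx
      rw [mem_subgroupOf]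
      exact hQR.le ⟨x, hx, rfl⟩
    have h2 := P.is_maximal' ((S.isPGroup'.to_le hRS).comap_subtype) h1
    apply hQR.ne
    rw [hQ, ← h2]
    exact Subgroup.map_subgroupOf_eq_of_le hRM'
  -- focal subgroup
  have hctl := controls_sl2 h.ne_two F (hasZJ_zeFun h.ne_two) (free h T) S
  have hfoc : (S : Subgroup G).focalSubgroup ≤ ⁅(S : Subgroup G), normalizer (F.W Q : Set G)⁆ := by
    apply H2.Control.focal_le_commutator_of_control
    intro x hx g hg
    obtain ⟨n, hn, h1⟩ := set_form hctl (A := {x}) (by rintro _ rfl; exact hx) g (by rintro _ rfl; exact hg)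
    rw [hSQ] at hn
    exact ⟨n, hn, h1 x rfl⟩
  have hSM : (S : Subgroup G) ≤ ⁅M, M⁆ := by
    have h1 := Subgroup.commutator_inf_eq_focalSubgroup S
    rw [H58.AbSyl.commutator_eq_top h.nab, top_inf_eq] at h1
    rw [h1]
    refine hfoc.trans (commutator_mono ?_ hWM)
    rw [hSQ]
    exact map_subtype_le _
  -- structure of the commutator subgroup of `M`
  have hO := le_normalizer_O2 M
  have hCM : centralizer ((T : Subgroup G) : Set G) ≤ M := (centralizer_le_normalizer _).trans hM.nt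
  have hD : ⁅M, M⁆ ≤ O2 M ⊔ centralizer ((T : Subgroup G) : Set G) := by
    rw [Subgroup.commutator_le]
    intro a ha b hb
    obtain ⟨o₁, ho1, n₁, hn1, rfl⟩ := h.decomp T hM.ne_top (Emb.le _ hM) ha
    obtain ⟨o₂, ho2, n₂, hn2, hb2⟩ := h.decomp T hM.ne_top (Emb.le _ hM) hb
    have hmem : ∀ {x : G}, x ∈ O2 M → x ∈ O2 M ⊔ centralizer ((T : Subgroup G) : Set G) :=
      fun hx => (le_sup_left : O2 M ≤ _) hx
    rw [commutatorElement_mul_left]
    have h1 : ⁅o₁, b⁆ ∈ O2 M := by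
      rw [commutatorElement_def]
      have : o₁ * b * o₁⁻¹ * b⁻¹ = o₁ * (b * o₁⁻¹ * b⁻¹) := by group
      rw [this]
      exact mul_mem ho1 ((mem_normalizer_iff.1 (hO hb) _).1 (inv_mem ho1))
    refine mul_mem (mul_mem (mul_mem (hmem ho1) ?_) (hmem (inv_mem ho1))) (hmem h1)
    have h2 : ⁅n₁, b⁆ = ⁅n₁, o₂⁆ * (o₂ * ⁅n₁, n₂⁆ * o₂⁻¹) := by
      rw [hb2, commutatorElement_def, commutatorElement_def, commutatorElement_def]; group
    rw [h2]
    have h3 : ⁅n₁, o₂⁆ ∈ O2 M := by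
      rw [commutatorElement_def]
      exact mul_mem ((mem_normalizer_iff.1 (hO hn1.1) _).1 ho2) (inv_mem ho2)
    refine mul_mem (hmem h3) (mul_mem (mul_mem (hmem ho2) ?_) (hmem (inv_mem ho2)))
    exact (le_sup_right : centralizer ((T : Subgroup G) : Set G) ≤ _)
      (Emb.commutator_le h T hM (commutator_mem_commutator hn1.2 hn2.2))
  -- the contradiction
  obtain ⟨t, ht, ht1, ht2⟩ := h.exists_invol T
  obtain ⟨y, hy, ⟨k, hk⟩, hyt⟩ := h.exists_moving T ht ht1
  have hyM := hM.nt hy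
  have hpy : IsPGroup p (zpowers (⟨y, hyM⟩ : M)) :=
    IsPGroup.of_card (n := k) (by rw [Nat.card_zpowers, Subgroup.orderOf_mk, hk])
  obtain ⟨P', hP'⟩ := hpy.exists_le_sylow
  obtain ⟨m, hm⟩ := MulAction.exists_smul_eq M P' P
  have hyP : m * ⟨y, hyM⟩ * m⁻¹ ∈ (P : Subgroup M) := by
    rw [← hm, Sylow.coe_subgroup_smul, H1.SZ.mem_conj_smul]
    have : m⁻¹ * (m * ⟨y, hyM⟩ * m⁻¹) * m = ⟨y, hyM⟩ := by group
    rw [this]
    exact hP' (mem_zpowers _)
  have hyD : y ∈ O2 M ⊔ centralizer ((T : Subgroup G) : Set G) := by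
    apply hD
    have h1 : (m : G) * y * (m : G)⁻¹ ∈ ⁅M, M⁆ := by
      apply hSM
      rw [hSQ]
      exact ⟨_, hyP, rfl⟩
    have h2 : M ≤ normalizer ((⁅M, M⁆ : Subgroup G) : Set G) := le_normalizer_commutator_left M M
    exact (mem_normalizer_iff.1 (h2 m.2) y).2 h1
  have h3 := Subgroup.coe_mul_of_right_le_normalizer_left (O2 M) _ (hCM.trans hO)
  have h4 : y ∈ ((O2 M ⊔ centralizer ((T : Subgroup G) : Set G) : Subgroup G) : Set G) := hyD
  rw [h3] at h4
  obtain ⟨o, ho, c, hc, hoc⟩ := Set.mem_mul.mp h4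
  have hoN : o ∈ normalizer ((T : Subgroup G) : Set G) := by
    have : o = y * c⁻¹ := by rw [← hoc]; group
    rw [this]
    exact mul_mem hy (inv_mem ((centralizer_le_normalizer _) hc))
  have hoC : o * t = t * o := by
    have h5 : o * t * o⁻¹ * t⁻¹ ∈ (T : Subgroup G) ⊓ O2 M := by
      refine Subgroup.mem_inf.2 ⟨mul_mem ((mem_normalizer_iff.1 hoN t).1 ht) (inv_mem ht), ?_⟩
      have : o * t * o⁻¹ * t⁻¹ = o * (t * o⁻¹ * t⁻¹) := by group
      rw [this]
      exact mul_mem ho ((mem_normalizer_iff.1 (hO (Emb.le _ hM ht)) _).1 (inv_mem ho))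
    rw [H1.Coprime.inf_eq_bot_of_coprime_card (coprime_of_odd T.isPGroup' (odd_O2 M)), mem_bot] at h5
    rw [mul_inv_eq_one, mul_inv_eq_iff_eq_mul] at h5
    exact h5
  apply hyt
  rw [← hoc, mul_assoc, ← mem_centralizer_iff.1 hc t ht, ← mul_assoc, hoC, mul_assoc]

end CaseB

end H69.PPA
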