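import Mathlib
import Cfsg.Agent.Lib.H69.RuO1
import Cfsg.Agent.Lib.H69.RuA1
import Cfsg.Agent.Lib.H69.RuR2
import Cfsg.Agent.Lib.H63.OutTab

/-! Checks for elements of the Rudvalis group (partly generated) -/

set_option autoImplicit false
set_option maxRecDepth 100000
set_option exponentiation.threshold 1000000
set_option linter.all false
set_option Elab.async false

namespace H69.RuO

open H35.TC H35.Net H10.RuKit
open H10.Ru (AV full)

/-- letters -/
inductive Lq | x | X | y | Y | t | z | g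
  deriving DecidableEq

/-- networks -/
noncomputable def netq : Lq → ℕ → ℕ
  | .x => runNet H10.Ru.nl_g1
  | .X => runNet H10.Ru.nl_g1i
  | .y => runNet nl_y
  | .Y => runNet nl_Y
  | .t => runNet nl_t
  | .z => runNet nl_z
  | .g => runNet H10.Ru.nl_g2

theorem ck_y : chkNet 4096 nl_y = true := by decide +kernel
theorem ck_Y : chkNet 4096 nl_Y = true := by decide +kernel
theorem ck_t : chkNet 4096 nl_t = true := by decide +kernel
theorem ck_z : chkNet 4096 nl_z = true := by decide +kernel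

theorem bp_y : ∃ π : Equiv.Perm ℕ, BP (2 ^ 12) (runNet nl_y) π := runNet_BP ck_y
theorem bp_Y : ∃ π : Equiv.Perm ℕ, BP (2 ^ 12) (runNet nl_Y) π := runNet_BP ck_Y
theorem bp_t : ∃ π : Equiv.Perm ℕ, BP (2 ^ 12) (runNet nl_t) π := runNet_BP ck_t
theorem bp_z : ∃ π : Equiv.Perm ℕ, BP (2 ^ 12) (runNet nl_z) π := runNet_BP ck_z

/-- permutations of the letters -/
noncomputable def pq : Lq → Equiv.Perm ℕ
  | .x => H10.Ru.π .g1
  | .X => H10.Ru.π .g1i
  | .y => bp_y.choose
  | .Y => bp_Y.choose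
  | .t => bp_t.choose
  | .z => bp_z.choose
  | .g => H10.Ru.π .g2

theorem hbq : ∀ l, BP (2 ^ 12) (netq l) (pq l) := by
  intro l
  cases l
  · exact H10.Ru.hbp .g1
  · exact H10.Ru.hbp .g1i
  · exact bp_y.choose_spec
  · exact bp_Y.choose_spec
  · exact bp_t.choose_spec
  · exact bp_z.choose_spec
  · exact H10.Ru.hbp .g2

theorem hiq : chkFixHi netq [.x, .X, .y, .Y, .t, .z, .g] 12 4060 = true := by decide +kernel

/-- orbit of `0` under `x` -/
def fx : List ℕ := [0, 3551, 1239, 877, 2578, 2301, 658, 200, 3968, 395, 2061, 2964, 1697, 3452, 3868, 1103, 3561, 1355, 1707, 2157, 2360, 1208, 2314, 2375, 114, 1862, 1636, 993, 1110]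
/-- orbit of `0` under `y` -/
def fy : List ℕ := [0, 242, 2411, 3168, 445, 420, 884, 3387, 1492, 2492, 2452, 1489, 599, 2086]
/-- orbit of `81` under `x` -/
def fx2 : List ℕ := [81, 1209, 3723, 1506, 111, 4004, 3523, 3607, 2357, 1247, 3847, 3815, 647, 3337, 2668, 449, 2245, 3057, 2193, 442, 144, 2748, 1772, 3190, 2891, 556, 3352, 3387, 1053]
/-- further points -/
def addy : List ℕ := [1, 2, 4, 5, 6, 7, 8, 9, 10, 11]

end H69.RuO
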