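import Mathlib
import Cfsg.Agent.Lib.H69.RuO2

/-! Checks for elements of the Rudvalis group (partly generated) -/

set_option autoImplicit false
set_option maxRecDepth 100000
set_option exponentiation.threshold 1000000
set_option linter.all false
set_option Elab.async false

namespace H69.RuO

open H35.TC H35.Net H10.RuKit
open H10.Ru (AV full)

theorem inv_y_0 : (chkInv (netq .y) AV 9 0) = true := by decide +kernel
theorem inv_y_1 : (chkInv (netq .y) AV 9 512) = true := by decide +kernel
theorem inv_y_2 : (chkInv (netq .y) AV 9 1024) = true := by decide +kernel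
theorem inv_y_3 : (chkInv (netq .y) AV 9 1536) = true := by decide +kernel
theorem inv_y_4 : (chkInv (netq .y) AV 9 2048) = true := by decide +kernel
theorem inv_y_5 : (chkInv (netq .y) AV 9 2560) = true := by decide +kernel
theorem inv_y_6 : (chkInv (netq .y) AV 9 3072) = true := by decide +kernel
theorem inv_y_7 : (chkInv (netq .y) AV 9 3584) = true := by decide +kernel

theorem inv_y (y x : ℕ) (hy : y < 4060) : adj AV (pq .y y) (pq .y x) = adj AV y x := by
  by_cases h0 : 0 ≤ y ∧ y < 512
  · exact chkInv_spec (hbq _) inv_y_0 y x h0.1 h0.2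
  by_cases h1 : 512 ≤ y ∧ y < 1024
  · exact chkInv_spec (hbq _) inv_y_1 y x h1.1 h1.2
  by_cases h2 : 1024 ≤ y ∧ y < 1536
  · exact chkInv_spec (hbq _) inv_y_2 y x h2.1 h2.2
  by_cases h3 : 1536 ≤ y ∧ y < 2048
  · exact chkInv_spec (hbq _) inv_y_3 y x h3.1 h3.2
  by_cases h4 : 2048 ≤ y ∧ y < 2560
  · exact chkInv_spec (hbq _) inv_y_4 y x h4.1 h4.2
  by_cases h5 : 2560 ≤ y ∧ y < 3072
  · exact chkInv_spec (hbq _) inv_y_5 y x h5.1 h5.2
  by_cases h6 : 3072 ≤ y ∧ y < 3584
  · exact chkInv_spec (hbq _) inv_y_6 y x h6.1 h6.2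
  exact chkInv_spec (hbq _) inv_y_7 y x (by omega) (by norm_num; omega)


end H69.RuO
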