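import Mathlib
import Cfsg.Agent.Lib.H69.RuO2

/-! Checks for elements of the Rudvalis group (partly generated) -/

set_option autoImplicit false
set_option maxRecDepth 100000
set_option exponentiation.threshold 1000000
set_option linter.all false
set_option Elab.async false

namespace H69.RuO

open H35.TC H35.Net H10.RuKit
open H10.Ru (AV full)

theorem rel_yY : (chkW netq 12 [.y, .Y] 1 0 12) = true := by decide +kernel
theorem rel_xX : (chkW netq 12 [.x, .X] 1 0 12) = true := by decide +kernel
theorem rel_y14 : (chkW netq 12 [.y] 14 0 12) = true := by decide +kernel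
theorem rel_zz : (chkW netq 12 [.z] 2 0 12) = true := by decide +kernel
theorem rel_tt : (chkW netq 12 [.t] 2 0 12) = true := by decide +kernel
theorem rel_yx : (chkW netq 12 [.y, .x, .Y, .X, .X, .X, .X] 1 0 12) = true := by decide +kernel
theorem rel_ty : (chkW netq 12 [.t, .y, .t, .y] 1 0 12) = true := by decide +kernel
theorem rel_zy : (chkW netq 12 [.z, .y, .z, .Y] 1 0 12) = true := by decide +kernel
theorem rel_R1 : (chkW netq 12 [.x, .t] 7 0 12) = true := by decide +kernel
theorem rel_R2 : (chkW netq 12 [.x, .x, .y, .y, .y, .y, .y, .y, .t] 7 0 12) = true := by decide +kernel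
theorem rel_g : (chkW netq 12 [.x, .t, .y, .y, .y, .y, .X, .t, .Y, .X, .t, .X, .t, .Y, .Y, .X, .t, .x, .y, .y, .t, .X, .t, .X, .g] 1 0 12) = true := by decide +kernel


end H69.RuO
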