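import Mathlib
import Cfsg.Agent.Lib.H69.RuO2

/-! Checks for elements of the Rudvalis group (partly generated) -/

set_option autoImplicit false
set_option maxRecDepth 100000
set_option exponentiation.threshold 1000000
set_option linter.all false
set_option Elab.async false

namespace H69.RuO

open H35.TC H35.Net H10.RuKit
open H10.Ru (AV full)

theorem nt_x : H63.OT.chkNetTab (netq .x) 12 4060 tx = true := by decide +kernel
theorem lt_x : H63.PC.allN (fun b => Nat.blt (H63.OT.a12 tx b) 4060) 4060 = true := by decide +kernel
theorem nt_y : H63.OT.chkNetTab (netq .y) 12 4060 ty = true := by decide +kernel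
theorem lt_y : H63.PC.allN (fun b => Nat.blt (H63.OT.a12 ty b) 4060) 4060 = true := by decide +kernel


end H69.RuO
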