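import Mathlib
import Cfsg.Agent.Lib.H69.RuO2

/-! Excluded candidates (partly generated) -/

set_option autoImplicit false
set_option maxRecDepth 100000
set_option exponentiation.threshold 1000000
set_option linter.all false
set_option Elab.async false

namespace H69.RuO

open H35.TC H35.Net H10.RuKit
open H10.Ru (AV full)

/-- iterated application -/
noncomputable def itN (f : ℕ → ℕ) (n : ℕ) : ℕ → ℕ :=
  Nat.rec (motive := fun _ => ℕ → ℕ) (fun W => W) (fun _ ih W => force (f W) ih) n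

/-- the candidate -/
noncomputable def cF (a b j k W : ℕ) : ℕ :=
  force (itN (netq .x) a W) fun W => force (itN (netq .y) b W) fun W => force (netq .t W) fun W =>
    force (itN (netq .y) j W) fun W => itN (netq .z) k W

/-- the candidate is excluded: the entries are `κ, j, k`, the relator and a point -/
noncomputable def chkBad (q : ℕ × ℕ × ℕ × ℕ × ℕ) : Bool :=
  force (Nat.shiftLeft 1 q.2.2.2.2) fun m => Bool.not (Nat.beq (itN (Bool.rec (motive := fun _ => ℕ → ℕ)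
    (cF (Nat.mul 2 q.1) 6 q.2.1 q.2.2.1) (cF q.1 0 q.2.1 q.2.2.1) (Nat.beq q.2.2.2.1 1)) 7 m) m)

/-- excluded candidates -/
def bad : List (ℕ × ℕ × ℕ × ℕ × ℕ) := [(1, 0, 1, 2, 0), (1, 1, 0, 1, 0), (1, 1, 1, 2, 0), (1, 2, 0, 1, 0), (1, 2, 1, 1, 0), (1, 3, 0, 1, 0), (1, 3, 1, 1, 0), (1, 4, 0, 1, 0), (1, 4, 1, 1, 0), (1, 5, 0, 1, 0), (1, 5, 1, 1, 0), (1, 6, 0, 1, 0), (1, 6, 1, 1, 0), (1, 7, 0, 1, 0), (1, 7, 1, 1, 0), (1, 8, 0, 1, 0), (1, 8, 1, 2, 0), (1, 9, 0, 1, 0), (1, 9, 1, 1, 0), (1, 10, 0, 1, 0), (1, 10, 1, 1, 0), (1, 11, 0, 1, 0), (1, 11, 1, 1, 0), (1, 12, 0, 1, 0), (1, 12, 1, 1, 0), (1, 13, 0, 1, 0), (1, 13, 1, 1, 0), (2, 0, 0, 1, 0), (2, 0, 1, 2, 0), (2, 1, 0, 1, 0), (2, 1, 1, 1, 0), (2, 2, 0, 1, 0), (2, 2, 1, 1, 0), (2, 3, 0, 1, 0), (2, 3, 1, 1, 0), (2, 4, 0, 1, 0), (2, 4, 1, 1, 0), (2, 5, 0, 1, 0), (2, 5, 1, 1, 0), (2, 6, 0, 1, 0), (2, 6, 1, 1, 0), (2, 7, 0, 1, 0), (2, 7, 1, 2, 0), (2, 8, 0,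 2, 0), (2, 8, 1, 1, 0), (2, 9, 0, 1, 0), (2, 9, 1, 1, 0), (2, 10, 0, 1, 0), (2, 10, 1, 1, 0), (2, 11, 0, 1, 0), (2, 11, 1, 1, 0), (2, 12, 0, 1, 0), (2, 12, 1, 1, 0), (2, 13, 0, 1, 0), (2, 13, 1, 2, 0)]

theorem b0 : chkBad (1, 0, 1, 2, 0) = true := by decide +kernel
theorem b1 : chkBad (1, 1, 0, 1, 0) = true := by decide +kernel
theorem b2 : chkBad (1, 1, 1, 2, 0) = true := by decide +kernel
theorem b3 : chkBad (1, 2, 0, 1, 0) = true := by decide +kernel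
theorem b4 : chkBad (1, 2, 1, 1, 0) = true := by decide +kernel
theorem b5 : chkBad (1, 3, 0, 1, 0) = true := by decide +kernel
theorem b6 : chkBad (1, 3, 1, 1, 0) = true := by decide +kernel
theorem b7 : chkBad (1, 4, 0, 1, 0) = true := by decide +kernel
theorem b8 : chkBad (1, 4, 1, 1, 0) = true := by decide +kernel
theorem b9 : chkBad (1, 5, 0, 1, 0) = true := by decide +kernel
theorem b10 : chkBad (1, 5, 1, 1, 0) = true := by decide +kernel
theorem b11 : chkBad (1, 6, 0, 1, 0) = true := by decide +kernel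
theorem b12 : chkBad (1, 6, 1, 1, 0) = true := by decide +kernel
theorem b13 : chkBad (1, 7, 0, 1, 0) = true := by decide +kernel
theorem b14 : chkBad (1, 7, 1, 1, 0) = true := by decide +kernel
theorem b15 : chkBad (1, 8, 0, 1, 0) = true := by decide +kernel
theorem b16 : chkBad (1, 8, 1, 2, 0) = true := by decide +kernel
theorem b17 : chkBad (1, 9, 0, 1, 0) = true := by decide +kernel
theorem b18 : chkBad (1, 9, 1, 1, 0) = true := by decide +kernel
theorem b19 : chkBad (1, 10, 0, 1, 0) = true := by decide +kernel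
theorem b20 : chkBad (1, 10, 1, 1, 0) = true := by decide +kernel
theorem b21 : chkBad (1, 11, 0, 1, 0) = true := by decide +kernel
theorem b22 : chkBad (1, 11, 1, 1, 0) = true := by decide +kernel
theorem b23 : chkBad (1, 12, 0, 1, 0) = true := by decide +kernel
theorem b24 : chkBad (1, 12, 1, 1, 0) = true := by decide +kernel
theorem b25 : chkBad (1, 13, 0, 1, 0) = true := by decide +kernel
theorem b26 : chkBad (1, 13, 1, 1, 0) = true := by decide +kernel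
theorem b27 : chkBad (2, 0, 0, 1, 0) = true := by decide +kernel
theorem b28 : chkBad (2, 0, 1, 2, 0) = true := by decide +kernel
theorem b29 : chkBad (2, 1, 0, 1, 0) = true := by decide +kernel
theorem b30 : chkBad (2, 1, 1, 1, 0) = true := by decide +kernel
theorem b31 : chkBad (2, 2, 0, 1, 0) = true := by decide +kernel
theorem b32 : chkBad (2, 2, 1, 1, 0) = true := by decide +kernel
theorem b33 : chkBad (2, 3, 0, 1, 0) = true := by decide +kernel
theorem b34 : chkBad (2, 3, 1, 1, 0) = true := by decide +kernel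
theorem b35 : chkBad (2, 4, 0, 1, 0) = true := by decide +kernel
theorem b36 : chkBad (2, 4, 1, 1, 0) = true := by decide +kernel
theorem b37 : chkBad (2, 5, 0, 1, 0) = true := by decide +kernel
theorem b38 : chkBad (2, 5, 1, 1, 0) = true := by decide +kernel
theorem b39 : chkBad (2, 6, 0, 1, 0) = true := by decide +kernel
theorem b40 : chkBad (2, 6, 1, 1, 0) = true := by decide +kernel
theorem b41 : chkBad (2, 7, 0, 1, 0) = true := by decide +kernel
theorem b42 : chkBad (2, 7, 1, 2, 0) = true := by decide +kernel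
theorem b43 : chkBad (2, 8, 0, 2, 0) = true := by decide +kernel
theorem b44 : chkBad (2, 8, 1, 1, 0) = true := by decide +kernel
theorem b45 : chkBad (2, 9, 0, 1, 0) = true := by decide +kernel
theorem b46 : chkBad (2, 9, 1, 1, 0) = true := by decide +kernel
theorem b47 : chkBad (2, 10, 0, 1, 0) = true := by decide +kernel
theorem b48 : chkBad (2, 10, 1, 1, 0) = true := by decide +kernel
theorem b49 : chkBad (2, 11, 0, 1, 0) = true := by decide +kernel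
theorem b50 : chkBad (2, 11, 1, 1, 0) = true := by decide +kernel
theorem b51 : chkBad (2, 12, 0, 1, 0) = true := by decide +kernel
theorem b52 : chkBad (2, 12, 1, 1, 0) = true := by decide +kernel
theorem b53 : chkBad (2, 13, 0, 1, 0) = true := by decide +kernel
theorem b54 : chkBad (2, 13, 1, 2, 0) = true := by decide +kernel

theorem chkBads : ∀ q ∈ bad, chkBad q = true :=
  List.forall_mem_cons.2 ⟨b0,
  List.forall_mem_cons.2 ⟨b1,
  List.forall_mem_cons.2 ⟨b2,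
  List.forall_mem_cons.2 ⟨b3,
  List.forall_mem_cons.2 ⟨b4,
  List.forall_mem_cons.2 ⟨b5,
  List.forall_mem_cons.2 ⟨b6,
  List.forall_mem_cons.2 ⟨b7,
  List.forall_mem_cons.2 ⟨b8,
  List.forall_mem_cons.2 ⟨b9,
  List.forall_mem_cons.2 ⟨b10,
  List.forall_mem_cons.2 ⟨b11,
  List.forall_mem_cons.2 ⟨b12,
  List.forall_mem_cons.2 ⟨b13,
  List.forall_mem_cons.2 ⟨b14,
  List.forall_mem_cons.2 ⟨b15,
  List.forall_mem_cons.2 ⟨b16,
  List.forall_mem_cons.2 ⟨b17,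
  List.forall_mem_cons.2 ⟨b18,
  List.forall_mem_cons.2 ⟨b19,
  List.forall_mem_cons.2 ⟨b20,
  List.forall_mem_cons.2 ⟨b21,
  List.forall_mem_cons.2 ⟨b22,
  List.forall_mem_cons.2 ⟨b23,
  List.forall_mem_cons.2 ⟨b24,
  List.forall_mem_cons.2 ⟨b25,
  List.forall_mem_cons.2 ⟨b26,
  List.forall_mem_cons.2 ⟨b27,
  List.forall_mem_cons.2 ⟨b28,
  List.forall_mem_cons.2 ⟨b29,
  List.forall_mem_cons.2 ⟨b30,
  List.forall_mem_cons.2 ⟨b31,
  List.forall_mem_cons.2 ⟨b32,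
  List.forall_mem_cons.2 ⟨b33,
  List.forall_mem_cons.2 ⟨b34,
  List.forall_mem_cons.2 ⟨b35,
  List.forall_mem_cons.2 ⟨b36,
  List.forall_mem_cons.2 ⟨b37,
  List.forall_mem_cons.2 ⟨b38,
  List.forall_mem_cons.2 ⟨b39,
  List.forall_mem_cons.2 ⟨b40,
  List.forall_mem_cons.2 ⟨b41,
  List.forall_mem_cons.2 ⟨b42,
  List.forall_mem_cons.2 ⟨b43,
  List.forall_mem_cons.2 ⟨b44,
  List.forall_mem_cons.2 ⟨b45,
  List.forall_mem_cons.2 ⟨b46,
  List.forall_mem_cons.2 ⟨b47,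
  List.forall_mem_cons.2 ⟨b48,
  List.forall_mem_cons.2 ⟨b49,
  List.forall_mem_cons.2 ⟨b50,
  List.forall_mem_cons.2 ⟨b51,
  List.forall_mem_cons.2 ⟨b52,
  List.forall_mem_cons.2 ⟨b53,
  List.forall_mem_cons.2 ⟨b54,
  fun _ h => absurd h List.not_mem_nil⟩⟩⟩⟩⟩⟩⟩⟩⟩⟩⟩⟩⟩⟩⟩⟩⟩⟩⟩⟩⟩⟩⟩⟩⟩⟩⟩⟩⟩⟩⟩⟩⟩⟩⟩⟩⟩⟩⟩⟩⟩⟩⟩⟩⟩⟩⟩⟩⟩⟩⟩⟩⟩⟩⟩

end H69.RuO
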