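import Mathlib
import Cfsg.Agent.Lib.H69.RuO2
import Cfsg.Agent.Lib.H69.RuO2e

/-! Checks for centralizers in the Rudvalis group -/

set_option autoImplicit false
set_option maxRecDepth 100000
set_option exponentiation.threshold 1000000
set_option linter.all false
set_option Elab.async false

namespace H69.RuO

open H35.TC H35.Net H10.RuKit
open H10.Ru (AV full)
open H63.OT (a12 itx)

/-- mark the orbit of `c` -/
noncomputable def orbM (T k : ℕ) : ℕ → ℕ → ℕ :=
  Nat.rec (motive := fun _ => ℕ → ℕ → ℕ) (fun _ acc => acc)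
    (fun _ ih c acc => force (Nat.lor acc (Nat.shiftLeft 1 c)) fun acc' => force (a12 T c) fun c' => ih c' acc') k

/-- mark the orbits of all representatives -/
noncomputable def covM (T k : ℕ) (l : List (ℕ × ℕ)) : ℕ → ℕ :=
  List.rec (motive := fun _ => ℕ → ℕ) (fun acc => acc) (fun q _ ih acc => force (orbM T k q.1 acc) ih) l

/-- mismatch checks -/
noncomputable def chkMis (T : ℕ) (l : List (ℕ × ℕ)) : Bool :=
  force (rowX AV 0 0) fun R => H69.Ru.allL (fun q : ℕ × ℕ => Bool.rec (motive := fun _ => Bool)
    (Bool.not (Nat.beq (bt (rowX AV q.1 0) (itx T q.2 q.1)) (bt R (itx T q.2 0)))) true (Nat.beq q.2 0)) l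

theorem cov_x : Nat.beq (covM tx 29 exx 0) (Nat.sub (Nat.pow 2 4060) 1) = true := by decide +kernel
theorem cov_y : Nat.beq (covM ty 14 exy 0) (Nat.sub (Nat.pow 2 4060) 1) = true := by decide +kernel
theorem mis_x : chkMis tx exx = true := by decide +kernel
theorem mis_y : chkMis ty exy = true := by decide +kernel

/-- points given as iterates of `c` -/
noncomputable def chkIt (T c : ℕ) (l : List ℕ) : Bool :=
  H69.Ru.allI (fun i v => Nat.beq (itx T i c) v) l 0

theorem it_x : chkIt tx 0 fx = true := by decide +kernel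
theorem it_x2 : chkIt tx 81 fx2 = true := by decide +kernel
theorem it_y : chkIt ty 0 fy = true := by decide +kernel

/-- every point of `vs` is determined by its bits in the rows of `ys` -/
noncomputable def chkDet (ys vs : List ℕ) : Bool :=
  rowsL AV ys fun ms => force full fun F => H69.Ru.allL (fun v => Nat.beq (sepL F ms v F) (Nat.shiftLeft 1 v)) vs

theorem det_x : chkDet fx [2780, 2779, 0, 4059] = true := by decide +kernel
theorem det_y : chkDet fy (2780 :: 0 :: 4059 :: addy) = true := by decide +kernel
theorem det_y2 : chkDet (fy ++ addy) [2779] = true := by decide +kernel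

/-- points with the bits of `v` in other rows -/
noncomputable def sep2 (F v : ℕ) (l : List (ℕ × ℕ)) : ℕ → ℕ :=
  List.rec (motive := fun _ => ℕ → ℕ) (fun acc => acc)
    (fun q _ ih acc => force (Bool.rec (motive := fun _ => ℕ) (Nat.land acc (Nat.xor (rowX AV q.2 0) F))
      (Nat.land acc (rowX AV q.2 0)) (Nat.beq (bt (rowX AV q.1 0) v) 1)) ih) l

theorem twin_x : Nat.beq (force full fun F => sep2 F 1 (fx.zip fx2) F) 0 = true := by decide +kernel

/-- image of a point -/
theorem im_z : Nat.beq (appF netq [.z, .y, .y, .y, .y, .y, .y, .y, .y, .y, .y, .y, .y] (Nat.shiftLeft 1 172))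
  (Nat.shiftLeft 1 0) = true := by decide +kernel
theorem x_mv : Nat.beq (netq .x (Nat.shiftLeft 1 0)) (Nat.shiftLeft 1 0) = false := by decide +kernel
theorem yx_mv : Nat.beq (appF netq [.y, .x] (Nat.shiftLeft 1 0)) (appF netq [.x, .y] (Nat.shiftLeft 1 0)) = false := by
  decide +kernel

end H69.RuO
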