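import Mathlib
import Cfsg.Agent.Lib.H69.RuO2a
import Cfsg.Agent.Lib.H69.RuO2b
import Cfsg.Agent.Lib.H69.RuO2c
import Cfsg.Agent.Lib.H69.RuO2d
import Cfsg.Agent.Lib.H69.RuO2e
import Cfsg.Agent.Lib.H69.RuO2f
import Cfsg.Agent.Lib.H69.RuO3
import Cfsg.Agent.Lib.H63.OutAbs
import Cfsg.Agent.Lib.H69.RuIso

/-! Centralizers of two elements of the Rudvalis group -/

set_option autoImplicit false
set_option maxRecDepth 100000
set_option exponentiation.threshold 1000000
set_option linter.all false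

namespace H69.RuO

open H35.TC H35.Net H10.RuKit H69.RuA
open H10.Ru (AV full Γ)
open H63.OT (a12 itx)

/-! ### the elements lie in the group -/

theorem fixhi (l : Lq) (b : ℕ) (hb : 4060 ≤ b) : pq l b = b := by
  refine fix_of_chk hbq hiq l ?_ b hb
  cases l <;> decide

theorem pq_mem (l : Lq) : pq l ∈ 𝒜 := by
  have hle := H10.Ru.Γ_le
  cases l
  · exact hle (H10.Ru.gs_mem .g1 (by simp))
  · exact hle (H10.Ru.gs_mem .g1i (by simp))
  · exact mem_Aut (fixhi .y) H10.Ru.bd_av (fun y x hy => inv_y y x hy)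
  · have h : pq .Y = (pq .y)⁻¹ := inv_of_pair hbq rel_yY
    rw [h]
    exact 𝒜.inv_mem (mem_Aut (fixhi .y) H10.Ru.bd_av (fun y x hy => inv_y y x hy))
  · exact mem_Aut (fixhi .t) H10.Ru.bd_av (fun y x hy => inv_t y x hy)
  · exact mem_Aut (fixhi .z) H10.Ru.bd_av (fun y x hy => inv_z y x hy)
  · exact hle (H10.Ru.gs_mem .g2 (by simp))

theorem A_lt {g : Equiv.Perm ℕ} (hg : g ∈ 𝒜) (b : ℕ) : g b < 4060 ↔ b < 4060 := lt_iff_of_fix (fun b hb => A_fix hg b hb) b

theorem tab_x (b : ℕ) (hb : b < 4060) : a12 tx b = pq .x b :=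
  H63.OT.netTab (hbq .x) (by norm_num) (by norm_num) lt_x (A_lt (pq_mem .x)) nt_x b hb

theorem tab_y (b : ℕ) (hb : b < 4060) : a12 ty b = pq .y b :=
  H63.OT.netTab (hbq .y) (by norm_num) (by norm_num) lt_y (A_lt (pq_mem .y)) nt_y b hb

section gen

variable {T : ℕ} {p : Equiv.Perm ℕ}

theorem itx_eq (hp : p ∈ 𝒜) (hT : ∀ b, b < 4060 → a12 T b = p b) (i : ℕ) {c : ℕ} (hc : c < 4060) :
    itx T i c = (p ^ i) c := by
  induction i with
  | zero => rfl
  | succ i ih =>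
    have e : itx T (i + 1) c = a12 T (itx T i c) := rfl
    rw [e, ih, hT _ ((A_lt (𝒜.pow_mem hp i) c).2 hc), pow_succ', Equiv.Perm.mul_apply]

theorem orbM_bit (hp : p ∈ 𝒜) (hT : ∀ b, b < 4060 → a12 T b = p b) (k b : ℕ) : ∀ c acc, c < 4060 →
    (orbM T k c acc).testBit b = true → acc.testBit b = true ∨ ∃ i < k, b = (p ^ i) c := by
  induction k with
  | zero => intro c acc _ h; exact Or.inl h
  | succ k ih =>
    intro c acc hc h
    change (force (Nat.lor acc (Nat.shiftLeft 1 c)) fun acc' => force (a12 T c) fun c' => orbM T k c' acc').testBit b = true at h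
    rw [force_eq, force_eq] at h
    have hc' : a12 T c < 4060 := by rw [hT c hc]; exact (A_lt hp c).2 hc
    rcases ih _ _ hc' h with h1 | ⟨i, hi, h1⟩
    · change (acc ||| (1 <<< c)).testBit b = true at h1
      rw [Nat.testBit_or, Nat.one_shiftLeft, Nat.testBit_two_pow, Bool.or_eq_true] at h1
      rcases h1 with h1 | h1
      · exact Or.inl h1
      · right
        refine ⟨0, by omega, ?_⟩
        have : c = b := by simpa using h1
        rw [← this]; rfl
    · right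
      refine ⟨i + 1, by omega, ?_⟩
      rw [h1, hT c hc, pow_succ, Equiv.Perm.mul_apply]

theorem covM_bit (hp : p ∈ 𝒜) (hT : ∀ b, b < 4060 → a12 T b = p b) (k b : ℕ) (l : List (ℕ × ℕ)) : ∀ acc,
    (∀ q ∈ l, q.1 < 4060) →
    (covM T k l acc).testBit b = true → acc.testBit b = true ∨ ∃ q ∈ l, ∃ i < k, b = (p ^ i) q.1 := by
  induction l with
  | nil => intro acc _ h; exact Or.inl h
  | cons q l ih =>
    intro acc hl h
    change (force (orbM T k q.1 acc) (covM T k l)).testBit b = true at h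
    rw [force_eq] at h
    rcases ih _ (fun q hq => hl q (List.mem_cons_of_mem _ hq)) h with h1 | ⟨q', hq', h1⟩
    · rcases orbM_bit hp hT k b _ _ (hl q List.mem_cons_self) h1 with h2 | h2
      · exact Or.inl h2
      · exact Or.inr ⟨q, List.mem_cons_self, h2⟩
    · exact Or.inr ⟨q', List.mem_cons_of_mem _ hq', h1⟩

/-- the surviving representatives -/
theorem root (hp : p ∈ 𝒜) (hT : ∀ b, b < 4060 → a12 T b = p b) {k : ℕ} {l : List (ℕ × ℕ)}
    (hl : ∀ q ∈ l, q.1 < 4060) (hc : Nat.beq (covM T k l 0) (Nat.sub (Nat.pow 2 4060) 1) = true)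
    (hm : chkMis T l = true) {σ : Equiv.Perm ℕ} (hσ : σ ∈ 𝒜) (hcomm : σ * p = p * σ) :
    ∃ i < k, ∃ r, (r, 0) ∈ l ∧ σ 0 = (p ^ i) r := by
  have h0 : σ 0 < 4060 := (A_lt hσ 0).2 (by norm_num)
  have h1 : (covM T k l 0).testBit (σ 0) = true := by
    rw [eqOfBeq hc]
    change (2 ^ 4060 - 1).testBit _ = true
    rw [Nat.testBit_two_pow_sub_one]; exact decide_eq_true h0
  rcases covM_bit hp hT k _ l 0 hl h1 with h2 | ⟨q, hq, i, hi, h2⟩
  · rw [Nat.zero_testBit] at h2; exact absurd h2 (by simp)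
  refine ⟨i, hi, q.1, ?_, h2⟩
  obtain ⟨r, m⟩ := q
  change (r, 0) ∈ l
  have hr : r < 4060 := hl _ hq
  by_cases hm0 : m = 0
  · rw [hm0] at hq; exact hq
  exfalso
  unfold chkMis at hm
  rw [force_eq] at hm
  have h3 := H69.Ru.allL_spec hm _ hq
  have hmb : Nat.beq m 0 = false := by
    rw [← Bool.not_eq_true]; exact fun h' => hm0 (Nat.eq_of_beq_eq_true h')
  change Bool.rec (motive := fun _ => Bool) (Bool.not (Nat.beq (bt (rowX AV r 0) (itx T m r)) (bt (rowX AV 0 0) (itx T m 0))))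
    true (Nat.beq m 0) = true at h3
  rw [hmb] at h3
  have h4 := H69.Ru.not_beq h3
  apply h4
  rw [bt_eq, bt_eq, row_bit, row_bit, itx_eq hp hT m hr, itx_eq hp hT m (by norm_num)]
  have h5 : r = ((p ^ i)⁻¹ * σ) 0 := by
    rw [Equiv.Perm.mul_apply, h2, isa]
  have hc1 : Commute σ p := hcomm
  have hc2 : Commute ((p ^ i)⁻¹ * σ) (p ^ m) :=
    (((Commute.refl p).pow_left i).inv_left.mul_left hc1).pow_right m
  have h6 : (p ^ m) r = ((p ^ i)⁻¹ * σ) ((p ^ m) 0) := by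
    rw [h5, ← Equiv.Perm.mul_apply, ← hc2.eq, Equiv.Perm.mul_apply]
  have hmem : (p ^ i)⁻¹ * σ ∈ 𝒜 := 𝒜.mul_mem (𝒜.inv_mem (𝒜.pow_mem hp i)) hσ
  have h7 := hmem.2 0 ((p ^ m) 0)
  rw [← h5, ← h6] at h7
  rw [h7]

theorem det_fix {ys vs : List ℕ} (h : chkDet ys vs = true) {g : Equiv.Perm ℕ} (hg : g ∈ 𝒜) (hfix : ∀ y ∈ ys, g y = y)
    (hv : ∀ v ∈ vs, v < 4060) : ∀ v ∈ vs, g v = v := by
  intro v hvm
  unfold chkDet at h
  rw [rowsL_eq, force_eq] at h
  have h5 := eqOfBeq (H69.Ru.allL_spec h v hvm)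
  have hfull : full = 2 ^ 4060 - 1 := rfl
  have hF : full.testBit (g v) = true := by
    rw [hfull, Nat.testBit_two_pow_sub_one]; exact decide_eq_true ((A_lt hg v).2 (hv v hvm))
  have h6 : (sepL full (ys.map fun y => rowX AV y 0) v full).testBit (g v) = true := by
    refine sepL_bit _ hF ?_ _ hF
    intro m hm
    obtain ⟨y, hy, rfl⟩ := List.mem_map.1 hm
    rw [row_bit, row_bit]
    have := hg.2 y v
    rwa [hfix y hy] at this
  rw [h5] at h6
  change (1 <<< v).testBit (g v) = true at h6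
  rw [Nat.one_shiftLeft, Nat.testBit_two_pow] at h6
  have : v = g v := by simpa using h6
  exact this.symm

theorem chkIt_spec {c : ℕ} {l : List ℕ} (h : chkIt T c l = true) (hp : p ∈ 𝒜)
    (hT : ∀ b, b < 4060 → a12 T b = p b) (hc : c < 4060) {i : ℕ} (hi : i < l.length) : l[i] = (p ^ i) c := by
  have h1 := eqOfBeq (H69.Ru.allI_spec h i hi)
  rw [Nat.zero_add, itx_eq hp hT i hc] at h1
  exact h1.symm

theorem fix_orb {c : ℕ} {l : List ℕ} (h : chkIt T c l = true) (hp : p ∈ 𝒜)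
    (hT : ∀ b, b < 4060 → a12 T b = p b) (hc : c < 4060) {g : Equiv.Perm ℕ} (hcomm : g * p = p * g) (hgc : g c = c) :
    ∀ v ∈ l, g v = v := by
  intro v hv
  obtain ⟨i, hi, rfl⟩ := List.getElem_of_mem hv
  rw [chkIt_spec h hp hT hc hi]
  have h1 : Commute g p := hcomm
  have h2 : g * p ^ i = p ^ i * g := (h1.pow_right i).eq
  rw [← Equiv.Perm.mul_apply, h2, Equiv.Perm.mul_apply, hgc]

end gen

theorem base_of {g : Equiv.Perm ℕ} (hg : g ∈ 𝒜) (h : ∀ v ∈ [2780, 2779, 0, 4059], g v = v) : g = 1 :=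
  base_fix (mem_stabs hg h)

theorem exx_lt : ∀ q ∈ exx, q.1 < 4060 := by decide
theorem exy_lt : ∀ q ∈ exy, q.1 < 4060 := by decide
theorem exx_live {r : ℕ} (h : (r, 0) ∈ exx) : r = 0 ∨ r = 81 := by
  have h1 : ∀ q ∈ exx, q.2 = 0 → q.1 = 0 ∨ q.1 = 81 := by decide
  exact h1 _ h rfl
theorem exy_live {r : ℕ} (h : (r, 0) ∈ exy) : r = 0 ∨ r = 172 := by
  have h1 : ∀ q ∈ exy, q.2 = 0 → q.1 = 0 ∨ q.1 = 172 := by decide
  exact h1 _ h rfl

theorem fix0_x {g : Equiv.Perm ℕ} (hg : g ∈ 𝒜) (hcomm : g * pq .x = pq .x * g) (h0 : g 0 = 0) : g = 1 := by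
  have h1 := fix_orb it_x (pq_mem .x) tab_x (by norm_num) hcomm h0
  exact base_of hg (det_fix det_x hg h1 (by decide))

theorem fix0_y {g : Equiv.Perm ℕ} (hg : g ∈ 𝒜) (hcomm : g * pq .y = pq .y * g) (h0 : g 0 = 0) : g = 1 := by
  have h1 := fix_orb it_y (pq_mem .y) tab_y (by norm_num) hcomm h0
  have h2 := det_fix det_y hg h1 (by decide)
  have h3 := det_fix det_y2 hg (by
    intro v hv
    rcases List.mem_append.1 hv with h | h
    · exact h1 v h
    · exact h2 v (by simp [h])) (by decide)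
  apply base_of hg
  intro v hv
  simp only [List.mem_cons, List.not_mem_nil, or_false] at hv
  rcases hv with rfl | rfl | rfl | rfl
  · exact h2 _ (by simp)
  · exact h3 _ (by simp)
  · exact h2 _ (by simp)
  · exact h2 _ (by simp)

theorem sep2_bit {F v u : ℕ} (hF : F.testBit u = true) (l : List (ℕ × ℕ))
    (h : ∀ q ∈ l, adj AV q.2 u = adj AV q.1 v) : ∀ acc, acc.testBit u = true → (sep2 F v l acc).testBit u = true := by
  induction l with
  | nil => intro acc ha; exact ha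
  | cons q l ih =>
    intro acc ha
    change (force (Bool.rec (motive := fun _ => ℕ) (Nat.land acc (Nat.xor (rowX AV q.2 0) F))
      (Nat.land acc (rowX AV q.2 0)) (Nat.beq (bt (rowX AV q.1 0) v) 1)) (sep2 F v l)).testBit u = true
    rw [force_eq]
    refine ih (fun q hq => h q (List.mem_cons_of_mem _ hq)) _ ?_
    have hq := h q List.mem_cons_self
    rw [beq_bt, row_bit]
    cases hb : adj AV q.1 v with
    | false =>
      change (acc &&& (rowX AV q.2 0 ^^^ F)).testBit u = true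
      rw [Nat.testBit_and, Nat.testBit_xor, ha, hF, row_bit, hq, hb]; rfl
    | true =>
      change (acc &&& rowX AV q.2 0).testBit u = true
      rw [Nat.testBit_and, ha, row_bit, hq, hb]; rfl

theorem no_twin {g : Equiv.Perm ℕ} (hg : g ∈ 𝒜) (hcomm : g * pq .x = pq .x * g) (h0 : g 0 = 81) : False := by
  have h1 : ∀ q ∈ fx.zip fx2, adj AV q.2 (g 1) = adj AV q.1 1 := by
    intro q hq
    obtain ⟨i, hi, rfl⟩ := List.getElem_of_mem hq
    rw [List.getElem_zip]
    have hi1 : i < fx.length := by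
      have := hi; rw [List.length_zip] at this; omega
    have hi2 : i < fx2.length := by
      have := hi; rw [List.length_zip] at this; omega
    have e1 := chkIt_spec it_x (pq_mem .x) tab_x (by norm_num) hi1
    have e2 := chkIt_spec it_x2 (pq_mem .x) tab_x (by norm_num) hi2
    change adj AV (fx2[i]'hi2) (g 1) = adj AV (fx[i]'hi1) 1
    rw [e1, e2]
    have hc1 : Commute g (pq .x) := hcomm
    have h2 : g * pq .x ^ i = pq .x ^ i * g := (hc1.pow_right i).eq
    have h3 : (pq .x ^ i) 81 = g ((pq .x ^ i) 0) := by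
      rw [← h0, ← Equiv.Perm.mul_apply, ← h2, Equiv.Perm.mul_apply]
    rw [h3]
    exact hg.2 _ _
  have hF : full.testBit (g 1) = true := by
    have hfull : full = 2 ^ 4060 - 1 := rfl
    rw [hfull, Nat.testBit_two_pow_sub_one]; exact decide_eq_true ((A_lt hg 1).2 (by norm_num))
  have h2 := sep2_bit hF _ h1 full hF
  have h3 := twin_x
  rw [force_eq] at h3
  rw [eqOfBeq h3, Nat.zero_testBit] at h2
  exact absurd h2 (by simp)

/-- the centralizer of `x` -/
theorem cent_x {σ : Equiv.Perm ℕ} (hσ : σ ∈ 𝒜) (hcomm : σ * pq .x = pq .x * σ) : ∃ i : ℕ, σ = pq .x ^ i := by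
  obtain ⟨i, _, r, hr, h0⟩ := root (pq_mem .x) tab_x exx_lt cov_x mis_x hσ hcomm
  have hc1 : Commute σ (pq .x) := hcomm
  have hc2 : Commute ((pq .x ^ i)⁻¹ * σ) (pq .x) := ((Commute.refl (pq .x)).pow_left i).inv_left.mul_left hc1
  have hmem : (pq .x ^ i)⁻¹ * σ ∈ 𝒜 := 𝒜.mul_mem (𝒜.inv_mem (𝒜.pow_mem (pq_mem .x) i)) hσ
  have h1 : ((pq .x ^ i)⁻¹ * σ) 0 = r := by rw [Equiv.Perm.mul_apply, h0, isa]
  rcases exx_live hr with rfl | rfl
  · have := fix0_x hmem hc2.eq h1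
    exact ⟨i, (inv_mul_eq_one.1 this).symm⟩
  · exact (no_twin hmem hc2.eq h1).elim

theorem y_pow : pq .y ^ 14 = 1 := by
  have := pow_eq_one_of_chk hbq rel_y14
  simpa using this

theorem z_y : pq .z * pq .y = pq .y * pq .z := by
  have h := pow_eq_one_of_chk hbq rel_zy
  have h1 : pq .Y = (pq .y)⁻¹ := inv_of_pair hbq rel_yY
  have h2 := pow_eq_one_of_chk hbq rel_zz
  simp only [List.map_cons, List.map_nil, List.prod_cons, List.prod_nil, mul_one, pow_one, h1] at h h2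
  have h3 : pq .z * pq .z = 1 := by rw [← pow_two]; exact h2
  have h4 : pq .z = (pq .z)⁻¹ := eq_inv_of_mul_eq_one_left h3
  have h5 : pq .z * pq .y * pq .z * (pq .y)⁻¹ = 1 := by rw [← h]; group
  have h6 : pq .z * pq .y * pq .z = pq .y := mul_inv_eq_one.1 h5
  calc pq .z * pq .y = (pq .z * pq .y * pq .z) * (pq .z)⁻¹ := by group
    _ = pq .y * pq .z := by rw [h6, ← h4]

/-- the centralizer of `y` -/
theorem cent_y {σ : Equiv.Perm ℕ} (hσ : σ ∈ 𝒜) (hcomm : σ * pq .y = pq .y * σ) :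
    ∃ j < 14, ∃ k < 2, σ = pq .y ^ j * pq .z ^ k := by
  obtain ⟨i, _, r, hr, h0⟩ := root (pq_mem .y) tab_y exy_lt cov_y mis_y hσ hcomm
  have hc1 : Commute σ (pq .y) := hcomm
  have hc2 : Commute ((pq .y ^ i)⁻¹ * σ) (pq .y) := ((Commute.refl (pq .y)).pow_left i).inv_left.mul_left hc1
  have hmem : (pq .y ^ i)⁻¹ * σ ∈ 𝒜 := 𝒜.mul_mem (𝒜.inv_mem (𝒜.pow_mem (pq_mem .y) i)) hσ
  have h1 : ((pq .y ^ i)⁻¹ * σ) 0 = r := by rw [Equiv.Perm.mul_apply, h0, isa]
  have hmod : ∀ m : ℕ, pq .y ^ m = pq .y ^ (m % 14) := by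
    intro m
    conv_lhs => rw [← Nat.div_add_mod m 14, pow_add, pow_mul, y_pow, one_pow, one_mul]
  rcases exy_live hr with rfl | rfl
  · have := fix0_y hmem hc2.eq h1
    refine ⟨i % 14, Nat.mod_lt _ (by norm_num), 0, by norm_num, ?_⟩
    rw [← hmod, pow_zero, mul_one]
    exact (inv_mul_eq_one.1 this).symm
  · -- the other coset
    have hz : Commute (pq .z) (pq .y) := z_y
    have hw : (pq .z * pq .y ^ 12) 0 = 172 ∨ (pq .z * pq .y ^ 12) 0 = 172 := by
      left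
      have h2 := eqOfBeq im_z
      rw [appF_eq] at h2
      have h3 := (app_BP hbq [.z, .y, .y, .y, .y, .y, .y, .y, .y, .y, .y, .y, .y]).bit (Nat.shiftLeft 1 172) 0
      rw [h2] at h3
      change (1 <<< 0).testBit 0 = (1 <<< 172).testBit _ at h3
      rw [Nat.one_shiftLeft, Nat.one_shiftLeft, Nat.testBit_two_pow_self, Nat.testBit_two_pow] at h3
      have h4 := of_decide_eq_true h3.symm
      have h5 : (List.map pq [.z, .y, .y, .y, .y, .y, .y, .y, .y, .y, .y, .y, .y]).prod = pq .z * pq .y ^ 12 := by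
        simp only [List.map_cons, List.map_nil, List.prod_cons, List.prod_nil, mul_one, pow_succ, pow_zero, one_mul,
          mul_assoc]
      rw [h5] at h4
      exact h4.symm
    have hw := hw.elim id id
    have hwc : Commute (pq .z * pq .y ^ 12) (pq .y) := hz.mul_left ((Commute.refl (pq .y)).pow_left 12)
    have hwm : pq .z * pq .y ^ 12 ∈ 𝒜 := 𝒜.mul_mem (pq_mem .z) (𝒜.pow_mem (pq_mem .y) 12)
    have h2 := fix0_y (g := (pq .z * pq .y ^ 12)⁻¹ * ((pq .y ^ i)⁻¹ * σ)) (𝒜.mul_mem (𝒜.inv_mem hwm) hmem)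
      (hwc.inv_left.mul_left hc2).eq (by
        rw [Equiv.Perm.mul_apply, h1, ← hw, isa])
    have h3 : (pq .y ^ i)⁻¹ * σ = pq .z * pq .y ^ 12 := (inv_mul_eq_one.1 h2).symm
    refine ⟨(i + 12) % 14, Nat.mod_lt _ (by norm_num), 1, by norm_num, ?_⟩
    rw [← hmod, pow_one, pow_add]
    have h4 : σ = pq .y ^ i * (pq .z * pq .y ^ 12) := by rw [← h3]; group
    rw [h4, mul_assoc, (hz.pow_right 12).eq]

end H69.RuO
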