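import Mathlib
import Cfsg.Agent.Lib.H69.RuO4

/-! The outer automorphism group of the Rudvalis group is trivial -/

set_option autoImplicit false
set_option maxRecDepth 100000
set_option exponentiation.threshold 1000000
set_option linter.all false

namespace H69.RuO

open H35.TC H35.Net H10.RuKit H69.RuA
open H10.Ru (AV full Γ)

theorem mem_Γ (l : Lq) : pq l ∈ Γ := by rw [← A_eq]; exact pq_mem l

/-- the elements -/
noncomputable def e (l : Lq) : Γ := ⟨pq l, mem_Γ l⟩

theorem sub_ext {a b : Γ} (h : (a : Equiv.Perm ℕ) = b) : a = b := Subtype.ext h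

theorem px_pow : pq .x ^ 29 = 1 := by
  have h : H10.Ru.π .g1 ^ 29 = 1 := by
    have := pow_eq_one_of_chk H10.Ru.hbp H10.Ru.o_g1
    simpa using this
  exact h

theorem px_ne : pq .x ≠ 1 := by
  intro h
  have h1 := x_mv
  have h2 : netq .x (Nat.shiftLeft 1 0) = Nat.shiftLeft 1 0 := by
    apply Nat.eq_of_testBit_eq
    intro b
    rw [(hbq .x).bit, h]; rfl
  rw [h2, Nat.beq_refl] at h1
  exact absurd h1 (by simp)

instance : Fact (Nat.Prime 29) := ⟨by norm_num⟩

theorem ord_x : orderOf (e .x) = 29 := by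
  apply orderOf_eq_prime
  · apply sub_ext
    exact px_pow
  · intro h
    exact px_ne (congrArg Subtype.val h)

theorem card_not : ¬ 29 ^ 2 ∣ Nat.card Γ := by
  rw [H69.Ru.card_Γ]; norm_num

theorem pX : pq .X = (pq .x)⁻¹ := inv_of_pair hbq rel_xX
theorem pY : pq .Y = (pq .y)⁻¹ := inv_of_pair hbq rel_yY

theorem y_x : pq .y * pq .x * (pq .y)⁻¹ = pq .x ^ 4 := by
  have h := pow_eq_one_of_chk hbq rel_yx
  simp only [List.map_cons, List.map_nil, List.prod_cons, List.prod_nil, mul_one, pow_one, pX, pY] at h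
  have h2 : (pq .y * pq .x * (pq .y)⁻¹) * (pq .x ^ 4)⁻¹ = 1 := by
    rw [← h]
    simp only [pow_succ, pow_zero, one_mul, mul_inv_rev, mul_assoc]
  exact mul_inv_eq_one.1 h2

theorem yx_ne : pq .y * pq .x ≠ pq .x * pq .y := by
  intro h
  have h1 := yx_mv
  have h2 : appF netq [.y, .x] (Nat.shiftLeft 1 0) = appF netq [.x, .y] (Nat.shiftLeft 1 0) := by
    rw [appF_eq, appF_eq]
    apply Nat.eq_of_testBit_eq
    intro b
    rw [(app_BP hbq [.y, .x]).bit, (app_BP hbq [.x, .y]).bit]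
    simp only [List.map_cons, List.map_nil, List.prod_cons, List.prod_nil, mul_one]
    rw [h]
  rw [h2, Nat.beq_refl] at h1
  exact absurd h1 (by simp)

theorem t_t : pq .t * pq .t = 1 := by
  have h := pow_eq_one_of_chk hbq rel_tt
  simp only [List.map_cons, List.map_nil, List.prod_cons, List.prod_nil, mul_one, pow_two] at h
  exact h

theorem t_y : pq .t * pq .y * (pq .t)⁻¹ = pq .y ^ 13 := by
  have h := pow_eq_one_of_chk hbq rel_ty
  simp only [List.map_cons, List.map_nil, List.prod_cons, List.prod_nil, mul_one, pow_one] at h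
  have h4 : (pq .t)⁻¹ = pq .t := inv_eq_of_mul_eq_one_left t_t
  have h5 : pq .t * pq .y * pq .t * pq .y = 1 := by rw [← h]; simp only [mul_assoc]
  have h6 : pq .y ^ 13 = (pq .y)⁻¹ := by
    apply eq_inv_of_mul_eq_one_left
    rw [← pow_succ]; exact y_pow
  rw [h4, h6]
  exact eq_inv_of_mul_eq_one_left h5

theorem R1 : (pq .x * pq .t) ^ 7 = 1 := by
  have h := pow_eq_one_of_chk hbq rel_R1
  simpa only [List.map_cons, List.map_nil, List.prod_cons, List.prod_nil, mul_one] using h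

theorem word_aux {G : Type} [Group G] (x y t : G) :
    x ^ 2 * (y ^ 6 * t) = x * (x * (y * (y * (y * (y * (y * (y * t))))))) := by
  simp only [pow_succ, pow_zero, one_mul, mul_assoc]

theorem R2 : (pq .x ^ 2 * (pq .y ^ 6 * pq .t)) ^ 7 = 1 := by
  have h := pow_eq_one_of_chk hbq rel_R2
  simp only [List.map_cons, List.map_nil, List.prod_cons, List.prod_nil, mul_one] at h
  rw [word_aux]
  exact h

/-! ### the excluded candidates -/

theorem itN_BP {S : ℕ} {f : ℕ → ℕ} {p : Equiv.Perm ℕ} (h : BP S f p) (n : ℕ) : BP S (itN f n) (p ^ n) := by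
  induction n with
  | zero => exact BP.id S
  | succ n ih =>
    have e : itN f (n + 1) = fun W => itN f n (f W) := by
      funext W
      change force (f W) (itN f n) = _
      rw [force_eq]
    rw [e, pow_succ']
    exact BP.comp h ih

theorem cF_BP (a b j k : ℕ) : BP (2 ^ 12) (cF a b j k)
    (pq .x ^ a * (pq .y ^ b * (pq .t * (pq .y ^ j * pq .z ^ k)))) := by
  have e : cF a b j k = fun W => (fun W => (fun W => (fun W => itN (netq .z) k (itN (netq .y) j W)) (netq .t W))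
      (itN (netq .y) b W)) (itN (netq .x) a W) := by
    funext W
    unfold cF
    rw [force_eq, force_eq, force_eq, force_eq]
  rw [e]
  refine BP.comp (f := itN (netq .x) a) (g := fun W => (fun W => (fun W => itN (netq .z) k (itN (netq .y) j W)) (netq .t W))
      (itN (netq .y) b W)) (itN_BP (hbq .x) a) ?_
  refine BP.comp (f := itN (netq .y) b) (g := fun W => (fun W => itN (netq .z) k (itN (netq .y) j W)) (netq .t W))
    (itN_BP (hbq .y) b) ?_
  refine BP.comp (f := netq .t) (g := fun W => itN (netq .z) k (itN (netq .y) j W)) (hbq .t) ?_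
  exact BP.comp (f := itN (netq .y) j) (g := itN (netq .z) k) (itN_BP (hbq .y) j) (itN_BP (hbq .z) k)

theorem bad_aux {a b j k m : ℕ} (h : Bool.not (Nat.beq (itN (cF a b j k) 7 m) m) = true) :
    (pq .x ^ a * (pq .y ^ b * (pq .t * (pq .y ^ j * pq .z ^ k)))) ^ 7 ≠ 1 := by
  intro h1
  apply H69.Ru.not_beq h
  apply Nat.eq_of_testBit_eq
  intro i
  rw [(itN_BP (cF_BP a b j k) 7).bit, h1]; rfl

theorem bad_spec (q : ℕ × ℕ × ℕ × ℕ × ℕ) (h : chkBad q = true) :
    (pq .x ^ q.1 * (pq .y ^ 0 * (pq .t * (pq .y ^ q.2.1 * pq .z ^ q.2.2.1)))) ^ 7 ≠ 1 ∨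
    (pq .x ^ (2 * q.1) * (pq .y ^ 6 * (pq .t * (pq .y ^ q.2.1 * pq .z ^ q.2.2.1)))) ^ 7 ≠ 1 := by
  unfold chkBad at h
  rw [force_eq] at h
  cases hb : Nat.beq q.2.2.2.1 1 with
  | true => rw [hb] at h; exact Or.inl (bad_aux h)
  | false => rw [hb] at h; exact Or.inr (bad_aux h)

theorem all_bad : ∀ κ ∈ [1, 2], ∀ j < 14, ∀ k < 2, (κ, j, k) = (1, 0, 0) ∨
    ∃ q ∈ bad, q.1 = κ ∧ q.2.1 = j ∧ q.2.2.1 = k := by decide

/-! ### generation -/

theorem gen : Subgroup.closure ({e .x, e .y, e .t} : Set Γ) = ⊤ := by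
  have h1 : Γ ≤ Subgroup.closure ({pq .x, pq .y, pq .t} : Set (Equiv.Perm ℕ)) := by
    have hx : pq .x ∈ Subgroup.closure ({pq .x, pq .y, pq .t} : Set (Equiv.Perm ℕ)) := Subgroup.subset_closure (by simp)
    have hy : pq .y ∈ Subgroup.closure ({pq .x, pq .y, pq .t} : Set (Equiv.Perm ℕ)) := Subgroup.subset_closure (by simp)
    have ht : pq .t ∈ Subgroup.closure ({pq .x, pq .y, pq .t} : Set (Equiv.Perm ℕ)) := Subgroup.subset_closure (by simp)
    have h : Γ = Subgroup.closure {H10.Ru.π .g1, H10.Ru.π .g2} := rfl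
    rw [h, Subgroup.closure_le]
    rintro g (rfl | rfl)
    · exact hx
    · refine mem_of_word (x := Lq.g) hbq (w := [.x, .t, .y, .y, .y, .y, .X, .t, .Y, .X, .t, .X, .t, .Y, .Y, .X, .t, .x, .y, .y, .t, .X, .t, .X]) ?_ rel_g
      intro l hl
      have h3 : l = .x ∨ l = .X ∨ l = .y ∨ l = .Y ∨ l = .t := by
        revert hl
        revert l
        decide
      rcases h3 with rfl | rfl | rfl | rfl | rfl
      · exact hx
      · rw [pX]; exact inv_mem hx
      · exact hy
      · rw [pY]; exact inv_mem hy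
      · exact ht
  have h2 : (Subgroup.closure ({e .x, e .y, e .t} : Set Γ)).map Γ.subtype =
      Subgroup.closure ({pq .x, pq .y, pq .t} : Set (Equiv.Perm ℕ)) := by
    rw [MonoidHom.map_closure]
    congr 1
    simp only [Set.image_insert_eq, Set.image_singleton]
    rfl
  rw [eq_top_iff]
  intro g _
  have h3 := h1 g.2
  rw [← h2] at h3
  obtain ⟨g', hg', h4⟩ := h3
  have : g' = g := Subtype.ext h4
  rwa [← this]

theorem gcomm {a b : Γ} (h : a * b = b * a) : (a : Equiv.Perm ℕ) * b = b * a := congrArg Subtype.val h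

theorem K_chk : ∀ j, 0 < j → j < 29 → ∃ m < 29, j * 4 ^ m % 29 ∈ ([1, 2] : List ℕ) := by
  intro j h0 h1
  interval_cases j
  · exact ⟨0, by norm_num, by norm_num⟩
  · exact ⟨0, by norm_num, by norm_num⟩
  · exact ⟨12, by norm_num, by norm_num⟩
  · exact ⟨13, by norm_num, by norm_num⟩
  · exact ⟨3, by norm_num, by norm_num⟩
  · exact ⟨11, by norm_num, by norm_num⟩
  · exact ⟨8, by norm_num, by norm_num⟩
  · exact ⟨13, by norm_num, by norm_num⟩
  · exact ⟨9, by norm_num, by norm_num⟩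
  · exact ⟨3, by norm_num, by norm_num⟩
  · exact ⟨2, by norm_num, by norm_num⟩
  · exact ⟨11, by norm_num, by norm_num⟩
  · exact ⟨5, by norm_num, by norm_num⟩
  · exact ⟨8, by norm_num, by norm_num⟩
  · exact ⟨1, by norm_num, by norm_num⟩
  · exact ⟨12, by norm_num, by norm_num⟩
  · exact ⟨4, by norm_num, by norm_num⟩
  · exact ⟨9, by norm_num, by norm_num⟩
  · exact ⟨10, by norm_num, by norm_num⟩
  · exact ⟨2, by norm_num, by norm_num⟩
  · exact ⟨6, by norm_num, by norm_num⟩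
  · exact ⟨1, by norm_num, by norm_num⟩
  · exact ⟨4, by norm_num, by norm_num⟩
  · exact ⟨10, by norm_num, by norm_num⟩
  · exact ⟨6, by norm_num, by norm_num⟩
  · exact ⟨5, by norm_num, by norm_num⟩
  · exact ⟨7, by norm_num, by norm_num⟩
  · exact ⟨7, by norm_num, by norm_num⟩

theorem out_Γ (α : MulAut Γ) : ∃ g : Γ, MulAut.conj g * α = 1 := by
  have hyx : e .y * e .x * (e .y)⁻¹ = e .x ^ 4 := sub_ext y_x
  have hr : e .y * e .x ≠ e .x * e .y := fun h => yx_ne (gcomm h)
  have hC : ∀ g : Γ, g * e .x = e .x * g → g ∈ Subgroup.zpowers (e .x) := by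
    intro g hg
    obtain ⟨i, hi⟩ := cent_x (by rw [A_eq]; exact g.2) (gcomm hg)
    exact ⟨i, sub_ext (by rw [hi]; simp [e])⟩
  obtain ⟨g, κ, hκ, h1, h2⟩ := H63.OA.adjust2 (K := [1, 2]) ord_x card_not hyx hr hC K_chk α
  refine ⟨g, ?_⟩
  generalize MulAut.conj g * α = β at h1 h2
  have hty : e .t * e .y * (e .t)⁻¹ = e .y ^ 13 := sub_ext t_y
  have h3 := H63.OA.t_coset h2 hty
  obtain ⟨j, hj, k, hk, h4⟩ := cent_y (by rw [A_eq]; exact ((e .t)⁻¹ * β (e .t)).2) (gcomm h3)
  have h5 : β (e .t) = e .t * (e .y ^ j * e .z ^ k) := by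
    have h6 : (e .t)⁻¹ * β (e .t) = e .y ^ j * e .z ^ k := sub_ext h4
    rw [← h6]; group
  have r1 : (e .x * e .t) ^ 7 = 1 := sub_ext R1
  have r2 : (e .x ^ 2 * (e .y ^ 6 * e .t)) ^ 7 = 1 := sub_ext R2
  have b1 : (pq .x ^ κ * (pq .y ^ 0 * (pq .t * (pq .y ^ j * pq .z ^ k)))) ^ 7 = 1 := by
    have h7 := congrArg β r1
    rw [map_pow, map_mul, h1, h5, map_one] at h7
    have h8 := congrArg Subtype.val h7
    rw [pow_zero, one_mul]
    exact h8
  have b2 : (pq .x ^ (2 * κ) * (pq .y ^ 6 * (pq .t * (pq .y ^ j * pq .z ^ k)))) ^ 7 = 1 := by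
    have h7 := congrArg β r2
    rw [map_pow, map_mul, map_mul, map_pow, map_pow, h1, h2, h5, map_one, ← pow_mul, mul_comm κ 2] at h7
    exact congrArg Subtype.val h7
  have h0 : (κ, j, k) = (1, 0, 0) := by
    rcases all_bad κ hκ j hj k hk with h | ⟨q, hq, hq1, hq2, hq3⟩
    · exact h
    · exfalso
      have h9 := bad_spec q (chkBads q hq)
      rw [hq1, hq2, hq3] at h9
      rcases h9 with h9 | h9
      · exact h9 b1
      · exact h9 b2
  have hκ1 : κ = 1 := congrArg Prod.fst h0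
  have hj1 : j = 0 := congrArg (fun z => z.2.1) h0
  have hk1 : k = 0 := congrArg (fun z => z.2.2) h0
  subst hκ1 hj1 hk1
  apply H63.OA.aut_ext gen
  rintro s (rfl | rfl | rfl)
  · rw [h1, pow_one]; rfl
  · exact h2
  · rw [h5, pow_zero, pow_zero, mul_one, mul_one]; rfl

theorem out_transfer {G H : Type} [Group G] [Group H] (f : G ≃* H) (h : ∀ α : MulAut G, ∃ g : G, MulAut.conj g * α = 1)
    (α : MulAut H) : ∃ g : H, MulAut.conj g * α = 1 := by
  obtain ⟨g, hg⟩ := h ((f.trans α).trans f.symm)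
  refine ⟨f g, ?_⟩
  ext1 r
  have h1 := DFunLike.congr_fun hg (f.symm r)
  change g * f.symm (α (f (f.symm r))) * g⁻¹ = f.symm r at h1
  change f g * α r * (f g)⁻¹ = r
  have h2 := congrArg f h1
  rw [map_mul, map_mul, map_inv, f.apply_symm_apply, f.apply_symm_apply] at h2
  exact h2

theorem s2077 : Nat.card (Cfsg.Out Cfsg.Spor.Ru) = 1 := by
  obtain ⟨f⟩ := H69.Ru.iso
  have hfin : Finite Cfsg.Spor.Ru := Finite.of_equiv _ f.toEquiv
  exact H63.OA.card_out_one (out_transfer f out_Γ)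

end H69.RuO
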