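import Mathlib
import Cfsg.Agent.Lib.H16.NA1
import Cfsg.Agent.Lib.H69.RuOut

/-! The Sylow 2-subgroups of the Rudvalis group are not abelian -/

set_option autoImplicit false
set_option maxRecDepth 100000
set_option exponentiation.threshold 1000000
set_option linter.all false

namespace H69.RuNAS

open H35.TC H35.Net H10.RuKit
open H10.Ru (AV full)
open H69.RuO

theorem rel_p8 : (chkW netq 12 [.t, .X, .z, .x] 8 0 12) = true := by decide +kernel

theorem mv_p : Nat.beq (appF netq [.t, .X, .z, .x, .t, .X, .z, .x] (Nat.shiftLeft 1 0)) (Nat.shiftLeft 1 0) = false := by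
  decide +kernel

theorem z_z : pq .z * pq .z = 1 := by
  have h := pow_eq_one_of_chk hbq rel_zz
  simp only [List.map_cons, List.map_nil, List.prod_cons, List.prod_nil, mul_one, pow_two] at h
  exact h

/-- an element of order 8 -/
noncomputable def w : H10.Ru.Γ := e .t * (e .X * (e .z * e .x))

theorem e_X : e .X = (e .x)⁻¹ := sub_ext pX

theorem w8 : w ^ (2 ^ 3) = 1 := by
  have h := pow_eq_one_of_chk hbq rel_p8
  simp only [List.map_cons, List.map_nil, List.prod_cons, List.prod_nil, mul_one] at h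
  exact sub_ext h

theorem e_tt : e .t * e .t = 1 := sub_ext t_t
theorem e_zz : e .z * e .z = 1 := sub_ext z_z

theorem w_t : e .t * w * (e .t)⁻¹ = w⁻¹ := by
  have h1 : (e .t)⁻¹ = e .t := inv_eq_of_mul_eq_one_left e_tt
  have h2 : (e .z)⁻¹ = e .z := inv_eq_of_mul_eq_one_left e_zz
  unfold w
  rw [e_X]
  simp only [mul_inv_rev, h1, h2, inv_inv, mul_assoc]
  rw [← mul_assoc (e .t) (e .t), e_tt, one_mul]

theorem w2 : w ^ 2 ≠ 1 := by
  intro h
  have h1 := mv_p
  have h3 : ((([.t, .X, .z, .x, .t, .X, .z, .x] : List Lq).map pq).prod) = 1 := by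
    simp only [List.map_cons, List.map_nil, List.prod_cons, List.prod_nil, mul_one]
    have h4 := congrArg Subtype.val h
    rw [pow_two] at h4
    have h5 : ((w * w : H10.Ru.Γ) : Equiv.Perm ℕ) = (pq .t * (pq .X * (pq .z * pq .x))) * (pq .t * (pq .X * (pq .z * pq .x))) := rfl
    have h6 : (pq .t * (pq .X * (pq .z * pq .x))) * (pq .t * (pq .X * (pq .z * pq .x))) = 1 := by
      rw [← h5]; exact h4
    rw [← h6]
    simp only [mul_assoc]
  have h2 : appF netq [.t, .X, .z, .x, .t, .X, .z, .x] (Nat.shiftLeft 1 0) = Nat.shiftLeft 1 0 := by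
    rw [appF_eq]
    apply Nat.eq_of_testBit_eq
    intro b
    rw [(app_BP hbq [.t, .X, .z, .x, .t, .X, .z, .x]).bit, h3]
    rfl
  rw [h2, Nat.beq_refl] at h1
  exact absurd h1 (by simp)

theorem Γ_not {h : H16.NA.AbS H10.Ru.Γ} (hf : Finite H10.Ru.Γ) : False :=
  w2 (H16.NA.sq_of_inv h (k := 1) (l := 3) (x := e .t) (by rw [pow_one, pow_two]; exact e_tt) w8 w_t)

/-- the Sylow 2-subgroups of `Ru` are not abelian -/
theorem not_abs {K : Type*} [Group K] [Finite K] (hK : Cfsg.Spor.IsoRu K) (h : H16.NA.AbS K) : False := by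
  obtain ⟨f⟩ := hK
  obtain ⟨f2⟩ := H69.Ru.iso
  have e := f2.trans f.symm
  have hf : Finite H10.Ru.Γ := Finite.of_equiv _ e.symm.toEquiv
  exact Γ_not (h := H16.NA.AbS.of_equiv h e) hf

end H69.RuNAS
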