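import Mathlib

/-!
Wielandt's proof that the number of subgroups of order `p ^ b` is `≡ 1 (mod p)`.
-/

set_option autoImplicit false

open scoped Pointwise

namespace H69.SubgroupCount

universe u v

theorem dvd_ncard_of_orbits {G : Type u} {X : Type v} [Group G] [MulAction G X] [Finite X] (d : ℕ)
    (W : Set X) (h1 : ∀ x ∈ W, ∀ g : G, g • x ∈ W)
    (h2 : ∀ x ∈ W, d ∣ (MulAction.orbit G x).ncard) : d ∣ W.ncard := by
  have key : ∀ (k : ℕ) (W : Set X), W.ncard = k → (∀ x ∈ W, ∀ g : G, g • x ∈ W) →
      (∀ x ∈ W, d ∣ (MulAction.orbit G x).ncard) → d ∣ W.ncard := by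
    intro k
    induction k using Nat.strong_induction_on with
    | _ k ih =>
      intro W hk h1 h2
      rcases W.eq_empty_or_nonempty with rfl | ⟨x, hx⟩
      · simp
      · have hVW : MulAction.orbit G x ⊆ W := by
          rintro _ ⟨g, rfl⟩
          exact h1 x hx g
        have hsum : (W \ MulAction.orbit G x).ncard + (MulAction.orbit G x).ncard = W.ncard :=
          Set.ncard_sdiff_add_ncard_of_subset hVW
        have hpos : 0 < (MulAction.orbit G x).ncard := by
          rw [Set.ncard_pos]
          exact ⟨x, MulAction.mem_orbit_self x⟩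
        have h3 : d ∣ (W \ MulAction.orbit G x).ncard := by
          apply ih (W \ MulAction.orbit G x).ncard _ _ rfl
          · intro y hy g
            refine ⟨h1 y hy.1 g, ?_⟩
            intro h
            apply hy.2
            obtain ⟨g', hg'⟩ := h
            refine ⟨g⁻¹ * g', ?_⟩
            have hg'' : g' • x = g • y := hg'
            change (g⁻¹ * g') • x = y
            rw [mul_smul, hg'', inv_smul_smul]
          · intro y hy
            exact h2 y hy.1
          · omega
        rw [← hsum]
        exact dvd_add h3 (h2 x hx)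
  exact key _ W rfl h1 h2

variable {G : Type u} [Group G] [Finite G]

theorem card_stabilizer_dvd [DecidableEq G] (A : Finset G) :
    Nat.card (MulAction.stabilizer G A) ∣ A.card := by
  -- the stabilizer acts freely on A
  let S := MulAction.stabilizer G A
  have h := dvd_ncard_of_orbits (G := S) (X := G) (Nat.card S) (A : Set G) (by
    intro x hx g
    have h1 : (g : G) • A = A := g.2
    have h2 : (g : G) • x ∈ (g : G) • A := Finset.smul_mem_smul_finset hx
    rw [h1] at h2
    exact h2) (by
    intro x _
    have h1 := MulAction.index_stabilizer S x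
    have h2 : MulAction.stabilizer S x = ⊥ := by
      rw [Subgroup.eq_bot_iff_forall]
      intro g hg
      have h3 : (g : G) * x = x := hg
      exact Subtype.ext (mul_eq_right.1 h3)
    rw [h2, Subgroup.index_bot] at h1
    rw [← h1])
  rwa [Set.ncard_coe_finset] at h

/-- the finset `(x H)⁻¹` attached to a left coset `x H`. -/
noncomputable def cosetInv (H : Subgroup G) (q : G ⧸ H) : Finset G := by
  classical
  exact (Set.toFinite {g : G | (QuotientGroup.mk g⁻¹ : G ⧸ H) = q}).toFinset

theorem mem_cosetInv (H : Subgroup G) (q : G ⧸ H) (g : G) :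
    g ∈ cosetInv H q ↔ (QuotientGroup.mk g⁻¹ : G ⧸ H) = q := by
  rw [cosetInv, Set.Finite.mem_toFinset]
  rfl

theorem card_cosetInv (H : Subgroup G) (q : G ⧸ H) : (cosetInv H q).card = Nat.card H := by
  classical
  obtain ⟨x, rfl⟩ := QuotientGroup.mk_surjective q
  have h1 : (cosetInv H (QuotientGroup.mk x) : Set G) = (fun h : G => h * x⁻¹) '' (H : Set G) := by
    ext g
    rw [Finset.mem_coe, mem_cosetInv]
    constructor
    · intro h
      rw [QuotientGroup.eq, inv_inv] at h
      exact ⟨g * x, h, by simp⟩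
    · rintro ⟨h, hh, rfl⟩
      rw [QuotientGroup.eq]
      simpa using hh
  rw [← Set.ncard_coe_finset, h1, Set.ncard_image_of_injective _ (mul_left_injective _)]
  rfl

theorem stabilizer_cosetInv [DecidableEq G] (H : Subgroup G) (q : G ⧸ H) :
    MulAction.stabilizer G (cosetInv H q) = H := by
  obtain ⟨x, rfl⟩ := QuotientGroup.mk_surjective q
  ext t
  rw [MulAction.mem_stabilizer_iff]
  constructor
  · intro h
    have h1 : x⁻¹ ∈ cosetInv H (QuotientGroup.mk x) := by
      rw [mem_cosetInv, inv_inv]
    have h2 : t • x⁻¹ ∈ cosetInv H (QuotientGroup.mk x) := by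
      rw [← h]
      exact Finset.smul_mem_smul_finset h1
    rw [mem_cosetInv, smul_eq_mul, mul_inv_rev, inv_inv, QuotientGroup.eq] at h2
    simpa using h2
  · intro ht
    ext g
    rw [← Finset.inv_smul_mem_iff]
    rw [mem_cosetInv, mem_cosetInv, smul_eq_mul, mul_inv_rev, inv_inv, QuotientGroup.eq,
      QuotientGroup.eq]
    have h1 : (g⁻¹ * t)⁻¹ * x = t⁻¹ * (g * x) := by group
    rw [h1, inv_inv]
    exact Subgroup.mul_mem_cancel_left _ (Subgroup.inv_mem _ ht)

theorem eq_cosetInv [DecidableEq G] (H : Subgroup G) (A : Finset G)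
    (hst : MulAction.stabilizer G A = H) (hcard : A.card = Nat.card H) : ∃ q, A = cosetInv H q := by
  have hne : A.Nonempty := by
    rw [← Finset.card_pos, hcard]
    exact Nat.card_pos
  obtain ⟨a, ha⟩ := hne
  refine ⟨QuotientGroup.mk a⁻¹, ?_⟩
  symm
  apply Finset.eq_of_subset_of_card_le
  · intro g hg
    rw [mem_cosetInv, QuotientGroup.eq, inv_inv] at hg
    have h1 : g * a⁻¹ ∈ MulAction.stabilizer G A := by rw [hst]; exact hg
    have h2 : (g * a⁻¹) • a ∈ (g * a⁻¹) • A := Finset.smul_mem_smul_finset ha
    rw [MulAction.mem_stabilizer_iff.1 h1, smul_eq_mul, inv_mul_cancel_right] at h2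
    exact h2
  · rw [card_cosetInv, hcard]

/-- `C(|G|, p^b) ≡ m N (mod p m)`. -/
theorem choose_modEq (p b m : ℕ) (hp : p.Prime) (hG : Nat.card G = p ^ b * m) :
    Nat.choose (Nat.card G) (p ^ b) ≡ m * Nat.card {H : Subgroup G // Nat.card H = p ^ b} [MOD m * p] := by
  classical
  have : Fintype G := Fintype.ofFinite G
  have hm0 : 0 < m := by
    rcases Nat.eq_zero_or_pos m with h | h
    · rw [h, mul_zero] at hG
      have := Nat.card_pos (α := G)
      omega
    · exact h
  let X : Set (Finset G) := {A | A.card = p ^ b}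
  let X₁ : Set (Finset G) := {A | A.card = p ^ b ∧ Nat.card (MulAction.stabilizer G A) = p ^ b}
  let X₂ : Set (Finset G) := {A | A.card = p ^ b ∧ Nat.card (MulAction.stabilizer G A) ≠ p ^ b}
  have hX : X.ncard = Nat.choose (Nat.card G) (p ^ b) := by
    have h1 : X = ((Finset.univ : Finset G).powersetCard (p ^ b) : Finset (Finset G)) := by
      ext A
      simp [X, Finset.mem_powersetCard]
    rw [h1, Set.ncard_coe_finset, Finset.card_powersetCard, Finset.card_univ, Nat.card_eq_fintype_card]
  have hsum : X.ncard = X₁.ncard + X₂.ncard := by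
    rw [← Set.ncard_union_eq]
    · congr 1
      ext A
      simp only [X, X₁, X₂, Set.mem_union, Set.mem_ofPred_eq]
      tauto
    · rw [Set.disjoint_left]
      intro A h1 h2
      exact h2.2 h1.2
  have hX₂ : m * p ∣ X₂.ncard := by
    apply dvd_ncard_of_orbits (G := G)
    · intro A hA g
      refine ⟨?_, ?_⟩
      · rw [Finset.card_smul_finset]
        exact hA.1
      · have h1 : Nat.card (MulAction.stabilizer G (g • A)) = Nat.card (MulAction.stabilizer G A) :=
          (Nat.card_congr (MulAction.stabilizerEquivStabilizer (G := G) (g := g) (a := A) (b := g • A) rfl).toEquiv).symm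
        rw [h1]
        exact hA.2
    · intro A hA
      have h1 := MulAction.index_stabilizer G A
      rw [← h1]
      have h2 := Subgroup.card_mul_index (MulAction.stabilizer G A)
      have h3 := card_stabilizer_dvd A
      rw [hA.1] at h3
      obtain ⟨c, hc, hc'⟩ := (Nat.dvd_prime_pow hp).1 h3
      have h4 : c < b := by
        rcases lt_or_eq_of_le hc with h | h
        · exact h
        · rw [h] at hc'
          exact absurd hc' hA.2
      rw [hc', hG] at h2
      obtain ⟨d, rfl⟩ := Nat.exists_eq_add_of_lt h4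
      have h5 : (MulAction.stabilizer G A).index = p ^ (d + 1) * m := by
        have h6 : p ^ c * (MulAction.stabilizer G A).index = p ^ c * (p ^ (d + 1) * m) := by
          rw [h2]; ring
        exact Nat.eq_of_mul_eq_mul_left (pow_pos hp.pos c) h6
      rw [h5]
      exact ⟨p ^ d, by ring⟩
  have hX₁ : X₁.ncard = m * Nat.card {H : Subgroup G // Nat.card H = p ^ b} := by
    let Y := Σ H : {H : Subgroup G // Nat.card H = p ^ b}, (G ⧸ H.1)
    have e : Y ≃ X₁ := by
      apply Equiv.ofBijective (fun y : Y => (⟨cosetInv y.1.1 y.2, by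
        rw [card_cosetInv]; exact y.1.2, by
        rw [stabilizer_cosetInv]; exact y.1.2⟩ : X₁))
      constructor
      · rintro ⟨⟨H, hH⟩, q⟩ ⟨⟨K, hK⟩, r⟩ h
        have h1 : cosetInv H q = cosetInv K r := congrArg Subtype.val h
        have h2 : H = K := by rw [← stabilizer_cosetInv H q, h1, stabilizer_cosetInv]
        subst h2
        obtain ⟨x, rfl⟩ := QuotientGroup.mk_surjective q
        have h3 : x⁻¹ ∈ cosetInv H (QuotientGroup.mk x) := by rw [mem_cosetInv, inv_inv]
        rw [h1, mem_cosetInv, inv_inv] at h3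
        rw [h3]
      · rintro ⟨A, hA⟩
        obtain ⟨q, hq⟩ := eq_cosetInv (MulAction.stabilizer G A) A rfl (by rw [hA.1, hA.2])
        exact ⟨⟨⟨MulAction.stabilizer G A, hA.2⟩, q⟩, Subtype.ext hq.symm⟩
    have h1 : X₁.ncard = Nat.card Y := (Nat.card_congr e).symm
    have h2 : ∀ H : {H : Subgroup G // Nat.card H = p ^ b}, Nat.card (G ⧸ H.1) = m := by
      intro H
      have h3 := Subgroup.card_eq_card_quotient_mul_card_subgroup H.1
      rw [H.2, hG, mul_comm] at h3
      exact (Nat.eq_of_mul_eq_mul_right (pow_pos hp.pos b) h3).symm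
    rw [h1, Nat.card_sigma, Finset.sum_congr rfl (fun H _ => h2 H), Finset.sum_const, smul_eq_mul,
      Finset.card_univ, Nat.card_eq_fintype_card, mul_comm]
  rw [← hX, hsum, hX₁]
  have h3 : m * Nat.card {H : Subgroup G // Nat.card H = p ^ b} + X₂.ncard ≡
      m * Nat.card {H : Subgroup G // Nat.card H = p ^ b} + 0 [MOD m * p] :=
    Nat.ModEq.add_left _ ((Nat.modEq_zero_iff_dvd).2 hX₂)
  rwa [add_zero] at h3

/-- In a cyclic group there is exactly one subgroup of order `p ^ b`. -/
theorem card_cyclic [IsCyclic G] (p b : ℕ) (hp : p.Prime) (hG : p ^ b ∣ Nat.card G) :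
    Nat.card {H : Subgroup G // Nat.card H = p ^ b} = 1 := by
  classical
  have : Fintype G := Fintype.ofFinite G
  have : Fact p.Prime := ⟨hp⟩
  rw [Nat.card_eq_one_iff_unique]
  constructor
  · constructor
    have key : ∀ H : Subgroup G, Nat.card H = p ^ b → (H : Set G) = {x : G | x ^ p ^ b = 1} := by
      intro H hH
      apply Set.eq_of_subset_of_ncard_le
      · intro x hx
        have h1 := pow_card_eq_one' (x := (⟨x, hx⟩ : H))
        rw [hH] at h1
        exact congrArg Subtype.val h1
      · have h1 : {x : G | x ^ p ^ b = 1}.ncard ≤ p ^ b := by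
          have h2 := IsCyclic.card_pow_eq_one_le (α := G) (n := p ^ b) (pow_pos hp.pos b)
          have h3 : {x : G | x ^ p ^ b = 1} = ((Finset.univ.filter (fun x : G => x ^ p ^ b = 1) : Finset G) : Set G) := by
            ext x; simp
          rw [h3, Set.ncard_coe_finset]
          exact h2
        calc _ ≤ p ^ b := h1
          _ = (H : Set G).ncard := hH.symm
      · exact Set.toFinite _
    rintro ⟨H, hH⟩ ⟨K, hK⟩
    apply Subtype.ext
    exact SetLike.coe_injective ((key H hH).trans (key K hK).symm)
  · obtain ⟨K, hK⟩ := Sylow.exists_subgroup_card_pow_prime p hG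
    exact ⟨⟨K, hK⟩⟩

/-- The number of subgroups of order `p ^ b` is `≡ 1 (mod p)`. -/
theorem card_modEq_one (p b : ℕ) (hp : p.Prime) (hG : p ^ b ∣ Nat.card G) :
    Nat.card {H : Subgroup G // Nat.card H = p ^ b} ≡ 1 [MOD p] := by
  obtain ⟨m, hm⟩ := hG
  have hpos : 0 < Nat.card G := Nat.card_pos
  have hm0 : m ≠ 0 := by
    rintro rfl
    rw [mul_zero] at hm
    omega
  have : NeZero (Nat.card G) := ⟨hpos.ne'⟩
  have hZ : Nat.card (Multiplicative (ZMod (Nat.card G))) = Nat.card G := by
    rw [Nat.card_congr Multiplicative.toAdd, Nat.card_zmod]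
  have h1 := choose_modEq (G := G) p b m hp hm
  have h2 := choose_modEq (G := Multiplicative (ZMod (Nat.card G))) p b m hp (by rw [hZ, hm])
  rw [hZ, card_cyclic p b hp (by rw [hZ]; exact ⟨m, hm⟩)] at h2
  have h3 := h1.symm.trans h2
  exact Nat.ModEq.mul_left_cancel' hm0 h3

end H69.SubgroupCount
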