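import Cfsg.Agent.Lib.H69.ZJReal1
import Cfsg.Agent.Lib.H14.ZJ3
import Cfsg.Agent.Lib.H14.ZJ4
import Cfsg.Agent.Lib.H5.PBf
import Cfsg.Agent.Lib.H13.QStable
import Cfsg.Agent.Lib.H11.PStabApp

/-!
If some nontrivial `p`-element is inverted in `G` (`p` odd) then this happens in `N_G(Z(J(T)))`.
-/

set_option autoImplicit false

namespace H69.ZJReal

open Subgroup Cfsg H14.ZJ H69.QuadEven
open scoped commutatorElement

universe u

variable {p : ℕ} [hp : Fact p.Prime]

theorem map_normalizer_le {X G : Type*} [Group X] [Group G] (f : X →* G) (A : Subgroup X) :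
    (normalizer (A : Set X)).map f ≤ normalizer ((A.map f : Subgroup G) : Set G) :=
  le_normalizer_map (H := A) f

omit hp in
theorem RealIn.top {G : Type*} [Group G] {K : Subgroup G} (h : RealIn p K) : RealIn p (⊤ : Subgroup K) := by
  obtain ⟨x, hx, z, hz, hx1, ⟨k, hk⟩, h⟩ := h
  exact ⟨⟨x, hx⟩, mem_top _, ⟨z, hz⟩, mem_top _, fun h1 => hx1 (congrArg Subtype.val h1),
    ⟨k, Subtype.ext hk⟩, Subtype.ext h⟩

omit hp in
theorem RealIn.of_top {G : Type*} [Group G] {K : Subgroup G} (h : RealIn p (⊤ : Subgroup K)) : RealIn p K := by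
  have := h.map K.subtype K.subtype_injective
  rwa [← MonoidHom.range_eq_map, range_subtype] at this

/-- a counterexample of least order -/
structure MC (e : Bool) (p : ℕ) [Fact p.Prime] (G : Type u) [Group G] [Finite G] : Prop where
  ne_two : p ≠ 2
  ih : ∀ (K : Type u) [Group K] [Finite K], Nat.card K < Nat.card G → ∀ T : Sylow p K,
    RealIn p (⊤ : Subgroup K) → RealIn p (normalizer (WW e p (T : Subgroup K) : Set K))
  real : RealIn p (⊤ : Subgroup G)
  non : ∀ T : Sylow p G, ¬ RealIn p (normalizer (WW e p (T : Subgroup G) : Set G))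

variable {e : Bool} {G : Type u} [Group G] [Finite G]

theorem MC.sub (h : MC e p G) {K S : Subgroup G} (hK : K ≠ ⊤) (hSK : S ≤ K) (hS : IsPGroup p S)
    (hSi : ¬ p ∣ S.relIndex K) (hr : RealIn p K) : RealIn p (normalizer (WW e p S : Set G)) := by
  obtain ⟨SK, hSK'⟩ := H51.SylowAmb.exists_sylow_of hSK hS hSi
  have hcard : Nat.card K < Nat.card G := by
    have := card_lt_of_lt (lt_top_iff_ne_top.mpr hK)
    rwa [card_top] at this
  have h1 := h.ih K hcard SK hr.top
  have h2 := h1.map K.subtype K.subtype_injective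
  refine h2.mono ((map_normalizer_le _ _).trans ?_)
  rw [← WW_map e p K.subtype_injective, hSK']

theorem MC.big (h : MC e p G) (T : Sylow p G) {K : Subgroup G} (hK : K ≠ ⊤) (hT : (T : Subgroup G) ≤ K) :
    ¬ RealIn p K := fun hr =>
  h.non T (h.sub hK hT T.2 (fun hd => T.not_dvd_index (hd.trans (relIndex_dvd_index_of_le hT))) hr)

theorem MC.core_ne_bot (h : MC e p G) : pCore p G ≠ ⊥ := by
  rcases climb (p := p) (WW e p) (fun S _ => normalizer_le_normalizer_WW e p S)
    (fun R : Subgroup G => R ≠ ⊥ ∧ IsPGroup p R ∧ RealIn p (normalizer (R : Set G))) (by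
      obtain ⟨x, -, z, -, hx1, ⟨k, hk⟩, hz⟩ := h.real
      refine ⟨zpowers x, ?_, ?_, ?_⟩
      · rwa [Ne, zpowers_eq_bot]
      · apply IsPGroup.of_card_dvd_pow (n := k)
        rw [Nat.card_zpowers]
        exact orderOf_dvd_of_pow_eq_one hk
      · refine ⟨x, le_normalizer (mem_zpowers x), z, ?_, hx1, ⟨k, hk⟩, hz⟩
        apply mem_normalizer_of_finite
        rintro _ ⟨i, rfl⟩
        show z * x ^ i * z⁻¹ ∈ _
        rw [← conj_zpow, hz]
        exact zpow_mem (inv_mem (mem_zpowers x)) i) (by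
      rintro R ⟨hR1, hR, hr⟩ htop S hSN hS hSi
      have hRS := le_of_sylow_normalizer hR hSN hS hSi
      refine ⟨H14.ZJ4.WW_ne_bot e hS (fun h => hR1 (le_bot_iff.mp (h ▸ hRS))), hS.to_le (WW_le e p S),
        h.sub htop hSN hS hSi hr⟩) with ⟨R, ⟨hR1, hR, -⟩, htop⟩ | ⟨S, -, -, hS⟩
  · intro hbot
    apply hR1
    rw [← le_bot_iff, ← hbot]
    exact H1.Cores.le_pCore (normalizer_eq_top_iff.mp htop) hR
  · exact absurd hS (h.non S)

theorem MC.sylow_le_comap (h : MC e p G) (N : Subgroup G) [N.Normal] (T : Sylow p G)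
    {L : Subgroup (G ⧸ N)} (hL : RealIn p L) (hT : (T : Subgroup G).map (QuotientGroup.mk' N) ≤ L) : L = ⊤ := by
  by_contra hne
  have h1 := hL.comap h.ne_two (QuotientGroup.mk' N) (QuotientGroup.mk'_surjective N)
  refine h.big T (K := L.comap (QuotientGroup.mk' N)) ?_ (map_le_iff_le_comap.mp hT) h1
  intro htop
  apply hne
  rw [← map_comap_eq_self_of_surjective (QuotientGroup.mk'_surjective N) L, htop]
  exact map_top_of_surjective _ (QuotientGroup.mk'_surjective N)

theorem card_quotient_lt {N : Subgroup G} [N.Normal] (hN : N ≠ ⊥) : Nat.card (G ⧸ N) < Nat.card G := by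
  have h1 := N.card_eq_card_quotient_mul_card_subgroup
  rw [h1]
  apply lt_mul_of_one_lt_right Nat.card_pos
  exact (one_lt_card_iff_ne_bot N).mpr hN

omit hp [Finite G] in
theorem realIn_top_quotient {N : Subgroup G} [N.Normal] {x z : G} (hx : x ∉ N) (hk : ∃ k, x ^ p ^ k = 1)
    (hz : z * x * z⁻¹ = x⁻¹) : RealIn p (⊤ : Subgroup (G ⧸ N)) := by
  obtain ⟨k, hk⟩ := hk
  refine ⟨QuotientGroup.mk' N x, mem_top _, QuotientGroup.mk' N z, mem_top _, ?_, ⟨k, ?_⟩, ?_⟩
  · intro h; exact hx ((QuotientGroup.eq_one_iff x).mp h)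
  · rw [← map_pow, hk, map_one]
  · rw [← map_inv, ← map_mul, ← map_mul, hz, map_inv]

omit hp in
theorem sylow_le_WW (e : Bool) (T : Sylow p G) (N : Subgroup G) [N.Normal] :
    (T : Subgroup G).map (QuotientGroup.mk' N) ≤
      normalizer (WW e p ((T : Subgroup G).map (QuotientGroup.mk' N)) : Set (G ⧸ N)) :=
  le_normalizer.trans (normalizer_le_normalizer_WW e p _)

theorem MC.pPrime_bot (h : MC e p G) : pPrimeCore p G = ⊥ := by
  by_contra hK
  obtain ⟨T⟩ : Nonempty (Sylow p G) := inferInstance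
  set K := pPrimeCore p G with hKdef
  have hcop := H1.Cores.coprime_card_pPrimeCore (G := G) p
  obtain ⟨x, -, z, -, hx1, hk, hz⟩ := h.real
  have hr : RealIn p (⊤ : Subgroup (G ⧸ K)) := by
    refine realIn_top_quotient ?_ hk hz
    intro hxK
    apply hx1
    obtain ⟨k, hk⟩ := hk
    have h1 : orderOf x ∣ Nat.card K := by
      have := orderOf_dvd_natCard (⟨x, hxK⟩ : K)
      rwa [orderOf_mk] at this
    have h2 := Nat.dvd_gcd h1 (orderOf_dvd_of_pow_eq_one hk)
    rw [Nat.Coprime.pow_right k hcop] at h2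
    exact orderOf_eq_one_iff.mp (Nat.dvd_one.mp h2)
  have h1 := h.ih (G ⧸ K) (card_quotient_lt hK) (T.mapSurjective (f := QuotientGroup.mk' K)
    (QuotientGroup.mk'_surjective K)) hr
  rw [Sylow.coe_mapSurjective] at h1
  have h2 := h.sylow_le_comap K T h1 (sylow_le_WW e T K)
  have h3 := H14.ZJ3.sup_normalizer_of_quotient e T hcop (normalizer_eq_top_iff.mp h2)
  set N := normalizer (WW e p (T : Subgroup G) : Set G) with hN
  have hsurj : Function.Surjective ((QuotientGroup.mk' K).comp N.subtype) := by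
    intro y
    obtain ⟨g, rfl⟩ := QuotientGroup.mk'_surjective K y
    have hg : g ∈ K ⊔ N := by rw [h3]; trivial
    obtain ⟨k, hk, n, hn, rfl⟩ := mem_sup_of_normal_left.mp hg
    refine ⟨⟨n, hn⟩, ?_⟩
    show QuotientGroup.mk' K n = _
    rw [map_mul, (QuotientGroup.eq_one_iff k).mpr hk |> (fun h : QuotientGroup.mk' K k = 1 => h), one_mul]
  have h4 := hr.comap h.ne_two _ hsurj
  exact h.non T (RealIn.of_top (h4.mono le_top))

theorem MC.quot_nonreal (h : MC e p G) : ¬ RealIn p (⊤ : Subgroup (G ⧸ pCore p G)) := by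
  intro hr
  obtain ⟨T⟩ : Nonempty (Sylow p G) := inferInstance
  set Q := pCore p G with hQ
  have h1 := h.ih (G ⧸ Q) (card_quotient_lt h.core_ne_bot) (T.mapSurjective (f := QuotientGroup.mk' Q)
    (QuotientGroup.mk'_surjective Q)) hr
  rw [Sylow.coe_mapSurjective] at h1
  have h2 := h.sylow_le_comap Q T h1 (sylow_le_WW e T Q)
  have h3 : WW e p ((T : Subgroup G).map (QuotientGroup.mk' Q)) = ⊥ := by
    rw [eq_bot_iff]
    have h4 := H1.Cores.le_pCore (p := p) (normalizer_eq_top_iff.mp h2) ((T.2.map _).to_le (WW_le e p _))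
    rwa [H1.Cores.pCore_quotient_pCore] at h4
  have h4 : (T : Subgroup G).map (QuotientGroup.mk' Q) = ⊥ := by
    by_contra hne
    exact H14.ZJ4.WW_ne_bot e (T.2.map _) hne h3
  have h5 : (T : Subgroup G) ≤ Q := by
    rw [Subgroup.map_eq_bot_iff, QuotientGroup.ker_mk'] at h4
    exact h4
  have h6 : (T : Subgroup G) = Q := le_antisymm h5 (H1.Cores.pCore_le_sylow T)
  apply h.non T
  have h7 : normalizer (WW e p (T : Subgroup G) : Set G) = ⊤ := by
    rw [eq_top_iff]
    refine le_trans ?_ (normalizer_le_normalizer_WW e p _)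
    rw [h6, normalizer_eq_top_iff.mpr inferInstance]
  rw [h7]
  exact h.real

theorem MC.mem_core (h : MC e p G) {x z : G} (hk : ∃ k, x ^ p ^ k = 1) (hz : z * x * z⁻¹ = x⁻¹) :
    x ∈ pCore p G := by
  by_contra hx
  exact h.quot_nonreal (realIn_top_quotient hx hk hz)

theorem MC.cent_le (h : MC e p G) : centralizer (pCore p G : Set G) ≤ pCore p G := by
  obtain ⟨T⟩ : Nonempty (Sylow p G) := inferInstance
  set Q := pCore p G with hQ
  set C := centralizer (Q : Set G) with hC
  have hCn : C.Normal := inferInstance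
  have hQT : Q ≤ (T : Subgroup G) := H1.Cores.pCore_le_sylow T
  have hRQ : (T : Subgroup G) ⊓ C ≤ Q := by
    have hTN : (T : Subgroup G) ≤ normalizer (((T : Subgroup G) ⊓ C : Subgroup G) : Set G) := by
      intro t ht
      apply mem_normalizer_of_finite
      rintro b ⟨hb1, hb2⟩
      exact mem_inf.mpr ⟨mul_mem (mul_mem ht hb1) (inv_mem ht), hCn.conj_mem b hb2 t⟩
    obtain ⟨x, -, z, -, hx1, hk, hz⟩ := h.real
    have hxQ := h.mem_core hk hz
    obtain ⟨c, hc, n, hn, rfl⟩ := H13.SylowN.frattini_mem T C z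
    have hr : RealIn p (normalizer (((T : Subgroup G) ⊓ C : Subgroup G) : Set G)) := by
      refine ⟨x, hTN (hQT hxQ), n, hn, hx1, hk, ?_⟩
      have h1 : x⁻¹ * c = c * x⁻¹ := mem_centralizer_iff.mp hc x⁻¹ (Q.inv_mem hxQ)
      calc n * x * n⁻¹ = c⁻¹ * (c * n * x * (c * n)⁻¹) * c := by group
        _ = c⁻¹ * (x⁻¹ * c) := by rw [hz]; group
        _ = x⁻¹ := by rw [h1]; group
    have htop : normalizer (((T : Subgroup G) ⊓ C : Subgroup G) : Set G) = ⊤ := by
      by_contra hne
      exact h.big T hne hTN hr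
    exact H1.Cores.le_pCore (normalizer_eq_top_iff.mp htop) (T.2.to_le inf_le_left)
  obtain ⟨TC, hTC⟩ := H13.SylowN.exists_sylow_inf T C
  obtain ⟨k, hk⟩ := H5.PBf.nc_of_burnside TC (by
    intro c _
    rw [mem_centralizer_iff]
    intro t ht
    have ht' : t ∈ (T : Subgroup G).subgroupOf C := by rw [← hTC]; exact ht
    have h1 : (t : G) ∈ Q := hRQ ⟨ht', t.2⟩
    exact Subtype.ext (mem_centralizer_iff.mp c.2 t h1))
  have h1 : pPrimeCore p C = ⊥ := by
    rw [← Subgroup.map_eq_bot_iff_of_injective _ C.subtype_injective, H1.Cores.map_subtype_pPrimeCore, h.pPrime_bot,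
      inf_bot_eq]
  rw [h1, index_bot] at hk
  exact H1.Cores.le_pCore hCn (IsPGroup.of_card hk)

theorem MC.odd (h : MC e p G) (T : Sylow p G) {K : Subgroup G} (hK : K ≠ ⊤) (hT : (T : Subgroup G) ≤ K) :
    ¬ 2 ∣ Nat.card K := by
  intro h2
  have : Fact (Nat.Prime 2) := ⟨Nat.prime_two⟩
  obtain ⟨⟨t, htK⟩, ht⟩ := exists_prime_orderOf_dvd_card' (G := K) 2 h2
  rw [orderOf_mk] at ht
  have hQT : pCore p G ≤ (T : Subgroup G) := H1.Cores.pCore_le_sylow T
  apply h.big T hK hT
  refine realIn_of_norm (P := pCore p G) (hQT.trans hT) (H1.Cores.isPGroup_pCore p) 1 t htK ?_ ?_ ?_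
  · rw [normalizer_eq_top_iff.mpr inferInstance]; trivial
  · rw [pow_one, ← ht]; exact pow_orderOf_eq_one t
  · intro hc
    have htQ := h.cent_le hc
    obtain ⟨k, hk⟩ := (H1.Cores.isPGroup_pCore (G := G) p) ⟨t, htQ⟩
    have hk' : t ^ p ^ k = 1 := congrArg Subtype.val hk
    have h1 : t = t⁻¹ := by
      rw [eq_inv_iff_mul_eq_one, ← pow_two, ← ht]; exact pow_orderOf_eq_one t
    have h3 := eq_one_of_sq h.ne_two hk' h1
    rw [h3, orderOf_one] at ht
    omega

end H69.ZJReal
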