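import Cfsg.Agent.Lib.H69.ZJReal2

/-!
If some nontrivial `p`-element is inverted in `G` (`p` odd) then this happens in `N_G(Z(J(T)))`: end of the proof.
-/

set_option autoImplicit false

namespace H69.ZJReal

open Subgroup Cfsg H14.ZJ H69.QuadEven
open scoped commutatorElement

universe u

variable {p : ℕ} [hp : Fact p.Prime] {e : Bool} {G : Type u} [Group G] [Finite G]

/-- an element acting trivially on `V/Φ(V)` has a power of `p`-power exponent centralizing `V` -/
theorem pow_mem_centralizer {V : Subgroup G} (hV : IsPGroup p V) {y : G}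
    (h : ∀ v ∈ V, y * v * y⁻¹ * v⁻¹ ∈ (frattini V).map V.subtype)
    (hn : ((frattini V).map V.subtype).Normal) : ∃ m, y ^ p ^ m ∈ centralizer (V : Set G) := by
  obtain ⟨m, hm⟩ := H11.PStabApp.exists_pow_coprime p y
  refine ⟨m, ?_⟩
  set F := (frattini V).map V.subtype with hF
  have hmem : ∀ i : ℕ, ∀ v ∈ V, y ^ i * v * (y ^ i)⁻¹ * v⁻¹ ∈ F := by
    intro i
    induction i with
    | zero => intro v _; simp [one_mem]
    | succ i ih =>
      intro v hv
      have h1 := hn.conj_mem _ (ih v hv) y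
      have h2 := h v hv
      have h3 : y ^ (i + 1) * v * (y ^ (i + 1))⁻¹ * v⁻¹ =
          (y * (y ^ i * v * (y ^ i)⁻¹ * v⁻¹) * y⁻¹) * (y * v * y⁻¹ * v⁻¹) := by
        rw [pow_succ']; group
      rw [h3]
      exact mul_mem h1 h2
  have h1 : zpowers (y ^ p ^ m) ≤ centralizer (V : Set G) := by
    apply H1.Coprime2.le_centralizer_of_frattini
    · rw [Nat.card_zpowers]
      obtain ⟨n, hn⟩ := IsPGroup.iff_card.mp (hV.to_subgroup (frattini V))
      rw [hn]
      exact Nat.Coprime.pow_right _ hm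
    · intro a ha v hv
      obtain ⟨i, hi⟩ := (mem_zpowers_iff.mp ha)
      have h2 : a ∈ zpowers y := by rw [← hi]; exact zpow_mem (pow_mem (mem_zpowers y) _) i
      obtain ⟨j, hj⟩ := mem_powers_iff_mem_zpowers.mpr h2
      have hj' : y ^ j = a := hj
      rw [← hj']
      exact hmem j v hv
  exact h1 (mem_zpowers _)

theorem MC.false (h : MC e p G) : False := by
  obtain ⟨T⟩ : Nonempty (Sylow p G) := inferInstance
  by_cases hst : ∀ V : Subgroup G, V.Normal → IsPGroup p V → Stab (T : Subgroup G) V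
  · have h1 := zj_normal h.ne_two e T hst h.cent_le
    apply h.non T
    rw [normalizer_eq_top_iff.mpr h1]
    exact h.real
  push Not at hst
  obtain ⟨V, hVn, hV, hst⟩ := hst
  rw [Stab] at hst
  push Not at hst
  obtain ⟨A, hAT, hAV, hM⟩ := hst
  set C := centralizer (V : Set G) with hC
  -- a quadratic element outside of `O_p(G mod C)`
  obtain ⟨a, haA, haL⟩ : ∃ a ∈ A, QuotientGroup.mk' C a ∉ pCore p (G ⧸ C) := by
    by_contra hcon
    push Not at hcon
    have h1 := hM ((pCore p (G ⧸ C)).comap (QuotientGroup.mk' C)) inferInstance (fun a ha => hcon a ha)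
    apply h1
    have h2 := H1.Cores.pCore_le_sylow (T.mapSurjective (f := QuotientGroup.mk' C) (QuotientGroup.mk'_surjective C))
    rw [Sylow.coe_mapSurjective] at h2
    refine (comap_mono h2).trans ?_
    rw [comap_map_eq, QuotientGroup.ker_mk', sup_comm]
  have haq : ∀ v ∈ V, a * (a * v * a⁻¹ * v⁻¹) * a⁻¹ = a * v * a⁻¹ * v⁻¹ := by
    apply H3.QuadGen.quad_of_comm
    · rw [normalizer_eq_top_iff.mpr hVn]; trivial
    · rw [eq_bot_iff, ← hAV]
      have h1 : zpowers a ≤ A := by rwa [zpowers_le]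
      exact commutator_mono (commutator_mono le_rfl h1) h1
  -- the action on `V/Φ(V)`
  set F := (frattini V).map V.subtype with hF
  have hFn : F.Normal := H11.PStabApp.map_frattini_normal V
  set V₁ := V.map (QuotientGroup.mk' F) with hV₁
  have hV₁n : V₁.Normal := hVn.map _ (QuotientGroup.mk'_surjective F)
  have hE : IsElementaryAbelian p V₁ := H13.QStable.isElementaryAbelian_frattini_quot hV
  let ρ₀ : G →* MulAut V₁ := (MulAut.conjNormal (H := V₁)).comp (QuotientGroup.mk' F)
  have hρ₀ : ∀ (g : G) (v : V₁), ((ρ₀ g v : V₁) : G ⧸ F) = QuotientGroup.mk' F g * v * (QuotientGroup.mk' F g)⁻¹ :=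
    fun g v => MulAut.conjNormal_apply _ _
  set D := ρ₀.ker with hD
  let ρ : G ⧸ D →* MulAut V₁ := QuotientGroup.kerLift ρ₀
  have hρ : Function.Injective ρ := QuotientGroup.kerLift_injective ρ₀
  have hρmk : ∀ g, ρ (QuotientGroup.mk' D g) = ρ₀ g := fun g => QuotientGroup.kerLift_mk ρ₀ g
  have hQA : QA ρ (QuotientGroup.mk' D a) := by
    rintro ⟨_, v, hv, rfl⟩
    apply Subtype.ext
    rw [hρmk, hρ₀]
    have h1 : ((ρ₀ a ⟨QuotientGroup.mk' F v, v, hv, rfl⟩ * (⟨QuotientGroup.mk' F v, v, hv, rfl⟩ : V₁)⁻¹ : V₁) : G ⧸ F) =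
        QuotientGroup.mk' F (a * v * a⁻¹ * v⁻¹) := by
      rw [coe_mul, hρ₀, coe_inv, map_mul, map_mul, map_mul, map_inv, map_inv]
    rw [h1, ← map_inv, ← map_mul, ← map_mul, haq v hv]
  have hna : QuotientGroup.mk' D a ∉ pCore p (G ⧸ D) := by
    intro hmem
    apply haL
    have h1 : IsPGroup p (((pCore p (G ⧸ D)).comap (QuotientGroup.mk' D)).map (QuotientGroup.mk' C)) := by
      rintro ⟨_, x, hx, rfl⟩
      obtain ⟨k, hk⟩ := (H1.Cores.isPGroup_pCore (G := G ⧸ D) p) ⟨QuotientGroup.mk' D x, hx⟩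
      have hk' : QuotientGroup.mk' D (x ^ p ^ k) = 1 := by
        rw [map_pow]; exact congrArg Subtype.val hk
      have hkD : x ^ p ^ k ∈ D := (QuotientGroup.eq_one_iff _).mp hk'
      obtain ⟨m, hm⟩ := pow_mem_centralizer hV (y := x ^ p ^ k) (by
        intro v hv
        have h2 : ρ₀ (x ^ p ^ k) = 1 := hkD
        have h3 := hρ₀ (x ^ p ^ k) ⟨QuotientGroup.mk' F v, v, hv, rfl⟩
        rw [h2] at h3
        have h4 : QuotientGroup.mk' F (x ^ p ^ k * v * (x ^ p ^ k)⁻¹ * v⁻¹) = 1 := by
          rw [map_mul, map_mul, map_mul, map_inv, map_inv, ← h3]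
          exact mul_inv_cancel _
        exact (QuotientGroup.eq_one_iff _).mp h4) hFn
      refine ⟨k + m, Subtype.ext ?_⟩
      show (QuotientGroup.mk' C x) ^ p ^ (k + m) = 1
      rw [← map_pow, pow_add, pow_mul]
      exact (QuotientGroup.eq_one_iff _).mpr hm
    have h2 : (((pCore p (G ⧸ D)).comap (QuotientGroup.mk' D)).map (QuotientGroup.mk' C)).Normal :=
      (inferInstance : ((pCore p (G ⧸ D)).comap (QuotientGroup.mk' D)).Normal).map _ (QuotientGroup.mk'_surjective C)
    exact H1.Cores.le_pCore h2 h1 ⟨a, hmem, rfl⟩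
  set TD : Sylow p (G ⧸ D) := T.mapSurjective (f := QuotientGroup.mk' D) (QuotientGroup.mk'_surjective D) with hTD
  have hTDc : (TD : Subgroup (G ⧸ D)) = (T : Subgroup G).map (QuotientGroup.mk' D) := Sylow.coe_mapSurjective _ _
  have hmain := QuadEven.main h.ne_two (fun v w => hE.1.is_comm.comm v w)
    (fun v => Subtype.ext (hE.2 _ v.2)) (Nat.card (G ⧸ D)) ρ hρ le_rfl _ hQA hna TD
  set N := normalizer (QQ ρ (TD : Subgroup (G ⧸ D)) : Set (G ⧸ D)) with hN
  have hTN : (T : Subgroup G) ≤ N.comap (QuotientGroup.mk' D) := by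
    rw [← map_le_iff_le_comap, ← hTDc]
    exact le_normalizer.trans (normalizer_le_QQ _)
  by_cases htop : N = ⊤
  · apply hna
    have h1 : (QQ ρ (TD : Subgroup (G ⧸ D))).Normal := normalizer_eq_top_iff.mp htop
    refine H1.Cores.le_pCore h1 (TD.2.to_le (QQ_le _)) (mem_QQ ?_ hQA)
    rw [hTDc]
    exact ⟨a, hAT haA, rfl⟩
  · refine h.odd T (K := N.comap (QuotientGroup.mk' D)) ?_ hTN ?_
    · intro h1
      apply htop
      rw [← map_comap_eq_self_of_surjective (QuotientGroup.mk'_surjective D) N, h1]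
      exact map_top_of_surjective _ (QuotientGroup.mk'_surjective D)
    · have h1 : Nat.card (N.comap (QuotientGroup.mk' D)) = Nat.card D * Nat.card N := by
        rw [H1.Cores.card_comap_mk']
      rw [h1]
      exact Dvd.dvd.mul_left hmain _

theorem realIn_conj {T T' : Sylow p G} (h : RealIn p (normalizer (WW e p (T : Subgroup G) : Set G))) :
    RealIn p (normalizer (WW e p (T' : Subgroup G) : Set G)) := by
  obtain ⟨g, hg⟩ := MulAction.exists_smul_eq G T T'
  have h1 : (T' : Subgroup G) = (T : Subgroup G).map (MulAut.conj g).toMonoidHom := by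
    rw [← hg]; rfl
  rw [h1, WW_map e p (MulAut.conj g).injective]
  exact (h.map (MulAut.conj g).toMonoidHom (MulAut.conj g).injective).mono (map_normalizer_le _ _)

/-- If some nontrivial `p`-element is inverted in `G` then this happens in `N_G(Z(J(T)))`. -/
theorem main (hp2 : p ≠ 2) (e : Bool) : ∀ (n : ℕ) (G : Type u) [Group G] [Finite G], Nat.card G ≤ n →
    ∀ T : Sylow p G, RealIn p (⊤ : Subgroup G) → RealIn p (normalizer (WW e p (T : Subgroup G) : Set G)) := by
  intro n
  induction n with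
  | zero =>
    intro G _ _ hn
    exact absurd hn (by have := Nat.card_pos (α := G); omega)
  | succ n ih =>
    intro G _ _ hn T hr
    by_contra hcon
    exact MC.false (e := e) (p := p) (G := G) ⟨hp2, fun K _ _ hK => ih K (by omega), hr,
      fun T' hT' => hcon (realIn_conj hT')⟩

end H69.ZJReal
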